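import Mathlib
import Cfsg.Prelude.Def_Spor_J2

set_option autoImplicit false

namespace Cfsg.Agent.J2

open Quaternion Cfsg.Spor

/-- An element of `½ ℤ[τ]⁴ ⊂ ℍ`, in doubled coordinates: the quaternion
`½((a0 + a1 τ) + (b0 + b1 τ) i + (c0 + c1 τ) j + (d0 + d1 τ) k)`. -/
structure Ico where
  a0 : ℤ
  a1 : ℤ
  b0 : ℤ
  b1 : ℤ
  c0 : ℤ
  c1 : ℤ
  d0 : ℤ
  d1 : ℤ
deriving DecidableEq

namespace Ico

@[ext] theorem ext' {p q : Ico} (h0 : p.a0 = q.a0) (h1 : p.a1 = q.a1) (h2 : p.b0 = q.b0) (h3 : p.b1 = q.b1)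
    (h4 : p.c0 = q.c0) (h5 : p.c1 = q.c1) (h6 : p.d0 = q.d0) (h7 : p.d1 = q.d1) : p = q := by
  cases p; cases q; simp_all

instance : Zero Ico := ⟨⟨0, 0, 0, 0, 0, 0, 0, 0⟩⟩
instance : Add Ico := ⟨fun p q => ⟨p.a0 + q.a0, p.a1 + q.a1, p.b0 + q.b0, p.b1 + q.b1,
  p.c0 + q.c0, p.c1 + q.c1, p.d0 + q.d0, p.d1 + q.d1⟩⟩
instance : Neg Ico := ⟨fun p => ⟨-p.a0, -p.a1, -p.b0, -p.b1, -p.c0, -p.c1, -p.d0, -p.d1⟩⟩
instance : Sub Ico := ⟨fun p q => ⟨p.a0 - q.a0, p.a1 - q.a1, p.b0 - q.b0, p.b1 - q.b1,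
  p.c0 - q.c0, p.c1 - q.c1, p.d0 - q.d0, p.d1 - q.d1⟩⟩

/-- multiplication by an integer -/
def smul (n : ℤ) (p : Ico) : Ico :=
  ⟨n * p.a0, n * p.a1, n * p.b0, n * p.b1, n * p.c0, n * p.c1, n * p.d0, n * p.d1⟩

/-- quaternion conjugate -/
def conj (p : Ico) : Ico := ⟨p.a0, p.a1, -p.b0, -p.b1, -p.c0, -p.c1, -p.d0, -p.d1⟩

/-- product in `ℤ[τ]`: `(a + bτ)(c + dτ) = (ac + bd) + (ad + bc + bd) τ`. -/
@[inline] def g0 (a b c d : ℤ) : ℤ := a * c + b * d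
@[inline] def g1 (a b c d : ℤ) : ℤ := a * d + b * c + b * d

/-- The product of the two `ℤ[τ]`-quaternions of doubled coordinates (no halving): if `p`, `q` stand for
`P/2`, `Q/2` then `mulRaw p q` holds the coordinates of `P Q`, which stands for `2 (P/2)(Q/2)`. -/
def mulRaw (p q : Ico) : Ico :=
  ⟨g0 p.a0 p.a1 q.a0 q.a1 - g0 p.b0 p.b1 q.b0 q.b1 - g0 p.c0 p.c1 q.c0 q.c1 - g0 p.d0 p.d1 q.d0 q.d1,
   g1 p.a0 p.a1 q.a0 q.a1 - g1 p.b0 p.b1 q.b0 q.b1 - g1 p.c0 p.c1 q.c0 q.c1 - g1 p.d0 p.d1 q.d0 q.d1,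
   g0 p.a0 p.a1 q.b0 q.b1 + g0 p.b0 p.b1 q.a0 q.a1 + g0 p.c0 p.c1 q.d0 q.d1 - g0 p.d0 p.d1 q.c0 q.c1,
   g1 p.a0 p.a1 q.b0 q.b1 + g1 p.b0 p.b1 q.a0 q.a1 + g1 p.c0 p.c1 q.d0 q.d1 - g1 p.d0 p.d1 q.c0 q.c1,
   g0 p.a0 p.a1 q.c0 q.c1 - g0 p.b0 p.b1 q.d0 q.d1 + g0 p.c0 p.c1 q.a0 q.a1 + g0 p.d0 p.d1 q.b0 q.b1,
   g1 p.a0 p.a1 q.c0 q.c1 - g1 p.b0 p.b1 q.d0 q.d1 + g1 p.c0 p.c1 q.a0 q.a1 + g1 p.d0 p.d1 q.b0 q.b1,
   g0 p.a0 p.a1 q.d0 q.d1 + g0 p.b0 p.b1 q.c0 q.c1 - g0 p.c0 p.c1 q.b0 q.b1 + g0 p.d0 p.d1 q.a0 q.a1,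
   g1 p.a0 p.a1 q.d0 q.d1 + g1 p.b0 p.b1 q.c0 q.c1 - g1 p.c0 p.c1 q.b0 q.b1 + g1 p.d0 p.d1 q.a0 q.a1⟩

/-- halving of all coordinates (meant for even ones) -/
def half (p : Ico) : Ico := ⟨p.a0 / 2, p.a1 / 2, p.b0 / 2, p.b1 / 2, p.c0 / 2, p.c1 / 2, p.d0 / 2, p.d1 / 2⟩

/-- all coordinates divisible by `n` -/
def DvdAll (n : ℤ) (p : Ico) : Prop :=
  n ∣ p.a0 ∧ n ∣ p.a1 ∧ n ∣ p.b0 ∧ n ∣ p.b1 ∧ n ∣ p.c0 ∧ n ∣ p.c1 ∧ n ∣ p.d0 ∧ n ∣ p.d1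

instance (n : ℤ) (p : Ico) : Decidable (DvdAll n p) := by unfold DvdAll; infer_instance

/-- the real quaternion that `p` stands for -/
noncomputable def emb (p : Ico) : ℍ[ℝ] :=
  ⟨(p.a0 + p.a1 * tau) / 2, (p.b0 + p.b1 * tau) / 2, (p.c0 + p.c1 * tau) / 2, (p.d0 + p.d1 * tau) / 2⟩

theorem tau_sq : tau ^ 2 = tau + 1 := by
  have h5 : Real.sqrt 5 ^ 2 = 5 := Real.sq_sqrt (by norm_num)
  unfold tau
  nlinarith [h5]

theorem tau_mul_tau : tau * tau = tau + 1 := by rw [← tau_sq, sq]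

theorem sig_eq : sig = 1 - tau := by unfold sig tau; ring

theorem emb_re (p : Ico) : (emb p).re = (p.a0 + p.a1 * tau) / 2 := rfl
theorem emb_imI (p : Ico) : (emb p).imI = (p.b0 + p.b1 * tau) / 2 := rfl
theorem emb_imJ (p : Ico) : (emb p).imJ = (p.c0 + p.c1 * tau) / 2 := rfl
theorem emb_imK (p : Ico) : (emb p).imK = (p.d0 + p.d1 * tau) / 2 := rfl

theorem add_def (p q : Ico) : p + q = ⟨p.a0 + q.a0, p.a1 + q.a1, p.b0 + q.b0, p.b1 + q.b1,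
    p.c0 + q.c0, p.c1 + q.c1, p.d0 + q.d0, p.d1 + q.d1⟩ := rfl
theorem neg_def (p : Ico) : -p = ⟨-p.a0, -p.a1, -p.b0, -p.b1, -p.c0, -p.c1, -p.d0, -p.d1⟩ := rfl
theorem sub_def (p q : Ico) : p - q = ⟨p.a0 - q.a0, p.a1 - q.a1, p.b0 - q.b0, p.b1 - q.b1,
    p.c0 - q.c0, p.c1 - q.c1, p.d0 - q.d0, p.d1 - q.d1⟩ := rfl
theorem zero_def : (0 : Ico) = ⟨0, 0, 0, 0, 0, 0, 0, 0⟩ := rfl

@[simp] theorem emb_zero : emb 0 = 0 := by
  ext <;> simp [emb_re, emb_imI, emb_imJ, emb_imK, zero_def]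

theorem emb_add (p q : Ico) : emb (p + q) = emb p + emb q := by
  ext <;> simp only [emb_re, emb_imI, emb_imJ, emb_imK, add_def, Quaternion.re_add, Quaternion.imI_add,
    Quaternion.imJ_add, Quaternion.imK_add] <;> push_cast <;> ring

theorem emb_neg (p : Ico) : emb (-p) = -emb p := by
  ext <;> simp only [emb_re, emb_imI, emb_imJ, emb_imK, neg_def, Quaternion.re_neg, Quaternion.imI_neg,
    Quaternion.imJ_neg, Quaternion.imK_neg] <;> push_cast <;> ring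

theorem emb_sub (p q : Ico) : emb (p - q) = emb p - emb q := by
  ext <;> simp only [emb_re, emb_imI, emb_imJ, emb_imK, sub_def, Quaternion.re_sub, Quaternion.imI_sub,
    Quaternion.imJ_sub, Quaternion.imK_sub] <;> push_cast <;> ring

theorem emb_smul (n : ℤ) (p : Ico) : emb (smul n p) = (n : ℝ) • emb p := by
  ext <;> simp only [emb_re, emb_imI, emb_imJ, emb_imK, smul, Quaternion.re_smul, Quaternion.imI_smul,
    Quaternion.imJ_smul, Quaternion.imK_smul, smul_eq_mul] <;> push_cast <;> ring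

theorem emb_conj (p : Ico) : emb (conj p) = star (emb p) := by
  ext <;> simp only [emb_re, emb_imI, emb_imJ, emb_imK, conj, Quaternion.re_star, Quaternion.imI_star,
    Quaternion.imJ_star, Quaternion.imK_star] <;> push_cast <;> ring

theorem emb_mulRaw (p q : Ico) : emb (mulRaw p q) = (2 : ℝ) • (emb p * emb q) := by
  have h := tau_mul_tau
  ext
  · simp only [emb_re, emb_imI, emb_imJ, emb_imK, mulRaw, g0, g1, Quaternion.re_smul, Quaternion.re_mul, smul_eq_mul]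
    push_cast
    linear_combination (-(1 / 2 : ℝ) * (p.a1 * q.a1 - p.b1 * q.b1 - p.c1 * q.c1 - p.d1 * q.d1)) * h
  · simp only [emb_re, emb_imI, emb_imJ, emb_imK, mulRaw, g0, g1, Quaternion.imI_smul, Quaternion.imI_mul, smul_eq_mul]
    push_cast
    linear_combination (-(1 / 2 : ℝ) * (p.a1 * q.b1 + p.b1 * q.a1 + p.c1 * q.d1 - p.d1 * q.c1)) * h
  · simp only [emb_re, emb_imI, emb_imJ, emb_imK, mulRaw, g0, g1, Quaternion.imJ_smul, Quaternion.imJ_mul, smul_eq_mul]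
    push_cast
    linear_combination (-(1 / 2 : ℝ) * (p.a1 * q.c1 - p.b1 * q.d1 + p.c1 * q.a1 + p.d1 * q.b1)) * h
  · simp only [emb_re, emb_imI, emb_imJ, emb_imK, mulRaw, g0, g1, Quaternion.imK_smul, Quaternion.imK_mul, smul_eq_mul]
    push_cast
    linear_combination (-(1 / 2 : ℝ) * (p.a1 * q.d1 + p.b1 * q.c1 - p.c1 * q.b1 + p.d1 * q.a1)) * h

end Ico

end Cfsg.Agent.J2
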