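import Mathlib
import Cfsg.Agent.Lib.Lead.J2.Ico

set_option autoImplicit false

namespace Cfsg.Agent.J2

open Quaternion Cfsg.Spor

namespace Ico

/-- membership in the icosian ring, in doubled coordinates: a binary `[8,4]` code condition on the parities -/
def InI (p : Ico) : Prop :=
  (p.c0 - p.a1 - p.b0 - p.b1) % 2 = 0 ∧ (p.c1 - p.a0 - p.a1 - p.b0) % 2 = 0 ∧
  (p.d0 - p.a0 - p.a1 - p.b1) % 2 = 0 ∧ (p.d1 - p.a0 - p.b0 - p.b1) % 2 = 0

instance (p : Ico) : Decidable (InI p) := by unfold InI; infer_instance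

theorem InI.zero : InI 0 := by decide

theorem InI.add {p q : Ico} (hp : InI p) (hq : InI q) : InI (p + q) := by
  unfold InI at *; simp only [add_def]; omega

theorem InI.neg {p : Ico} (hp : InI p) : InI (-p) := by
  unfold InI at *; simp only [neg_def]; omega

theorem InI.sub {p q : Ico} (hp : InI p) (hq : InI q) : InI (p - q) := by
  unfold InI at *; simp only [sub_def]; omega

theorem InI.conj {p : Ico} (hp : InI p) : InI (conj p) := by
  unfold InI at *; simp only [Ico.conj]; omega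

theorem InI.smul_two (p : Ico) : InI (smul 2 p) := by
  unfold InI; simp only [smul]; omega

theorem InI.smul {p : Ico} (n : ℤ) (hp : InI p) : InI (Ico.smul n p) := by
  unfold InI at *; simp only [Ico.smul]
  rcases Int.emod_two_eq_zero_or_one n with h | h
  · obtain ⟨k, rfl⟩ : ∃ k, n = 2 * k := ⟨n / 2, by omega⟩
    refine ⟨?_, ?_, ?_, ?_⟩
    · have : 2 * k * p.c0 - 2 * k * p.a1 - 2 * k * p.b0 - 2 * k * p.b1 = 2 * (k * (p.c0 - p.a1 - p.b0 - p.b1)) := by ring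
      rw [this]; omega
    · have : 2 * k * p.c1 - 2 * k * p.a0 - 2 * k * p.a1 - 2 * k * p.b0 = 2 * (k * (p.c1 - p.a0 - p.a1 - p.b0)) := by ring
      rw [this]; omega
    · have : 2 * k * p.d0 - 2 * k * p.a0 - 2 * k * p.a1 - 2 * k * p.b1 = 2 * (k * (p.d0 - p.a0 - p.a1 - p.b1)) := by ring
      rw [this]; omega
    · have : 2 * k * p.d1 - 2 * k * p.a0 - 2 * k * p.b0 - 2 * k * p.b1 = 2 * (k * (p.d1 - p.a0 - p.b0 - p.b1)) := by ring
      rw [this]; omega
  · obtain ⟨k, rfl⟩ : ∃ k, n = 2 * k + 1 := ⟨n / 2, by omega⟩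
    obtain ⟨h1, h2, h3, h4⟩ := hp
    refine ⟨?_, ?_, ?_, ?_⟩
    · have : (2 * k + 1) * p.c0 - (2 * k + 1) * p.a1 - (2 * k + 1) * p.b0 - (2 * k + 1) * p.b1 =
        2 * (k * (p.c0 - p.a1 - p.b0 - p.b1)) + (p.c0 - p.a1 - p.b0 - p.b1) := by ring
      rw [this]; omega
    · have : (2 * k + 1) * p.c1 - (2 * k + 1) * p.a0 - (2 * k + 1) * p.a1 - (2 * k + 1) * p.b0 =
        2 * (k * (p.c1 - p.a0 - p.a1 - p.b0)) + (p.c1 - p.a0 - p.a1 - p.b0) := by ring
      rw [this]; omega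
    · have : (2 * k + 1) * p.d0 - (2 * k + 1) * p.a0 - (2 * k + 1) * p.a1 - (2 * k + 1) * p.b1 =
        2 * (k * (p.d0 - p.a0 - p.a1 - p.b1)) + (p.d0 - p.a0 - p.a1 - p.b1) := by ring
      rw [this]; omega
    · have : (2 * k + 1) * p.d1 - (2 * k + 1) * p.a0 - (2 * k + 1) * p.b0 - (2 * k + 1) * p.b1 =
        2 * (k * (p.d1 - p.a0 - p.b0 - p.b1)) + (p.d1 - p.a0 - p.b0 - p.b1) := by ring
      rw [this]; omega

/-! ### bilinearity of `mulRaw` -/

theorem mulRaw_add_left (p q r : Ico) : mulRaw (p + q) r = mulRaw p r + mulRaw q r := by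
  ext <;> simp only [mulRaw, g0, g1, add_def] <;> ring

theorem mulRaw_add_right (p q r : Ico) : mulRaw p (q + r) = mulRaw p q + mulRaw p r := by
  ext <;> simp only [mulRaw, g0, g1, add_def] <;> ring

theorem mulRaw_smul_left (n : ℤ) (p q : Ico) : mulRaw (smul n p) q = smul n (mulRaw p q) := by
  ext <;> simp only [mulRaw, g0, g1, smul] <;> ring

theorem mulRaw_smul_right (n : ℤ) (p q : Ico) : mulRaw p (smul n q) = smul n (mulRaw p q) := by
  ext <;> simp only [mulRaw, g0, g1, smul] <;> ring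

theorem smul_add (n : ℤ) (p q : Ico) : smul n (p + q) = smul n p + smul n q := by
  ext <;> simp only [smul, add_def] <;> ring

theorem smul_smul (m n : ℤ) (p : Ico) : smul m (smul n p) = smul (m * n) p := by
  ext <;> simp only [smul] <;> ring

theorem half_smul_two (p : Ico) : half (smul 2 p) = p := by
  ext <;> simp only [half, smul] <;> omega

theorem smul_two_half {p : Ico} (h : DvdAll 2 p) : smul 2 (half p) = p := by
  obtain ⟨h0, h1, h2, h3, h4, h5, h6, h7⟩ := h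
  ext <;> simp only [half, smul] <;> omega

/-- the vector of parities -/
def bI (b : Bool) : ℤ := if b then 1 else 0

def ofBits (b0 b1 b2 b3 b4 b5 b6 b7 : Bool) : Ico := ⟨bI b0, bI b1, bI b2, bI b3, bI b4, bI b5, bI b6, bI b7⟩

theorem exists_bits (p : Ico) : ∃ b0 b1 b2 b3 b4 b5 b6 b7 : Bool, ∃ p' : Ico,
    p = ofBits b0 b1 b2 b3 b4 b5 b6 b7 + smul 2 p' := by
  refine ⟨decide (p.a0 % 2 = 1), decide (p.a1 % 2 = 1), decide (p.b0 % 2 = 1), decide (p.b1 % 2 = 1),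
    decide (p.c0 % 2 = 1), decide (p.c1 % 2 = 1), decide (p.d0 % 2 = 1), decide (p.d1 % 2 = 1), half p, ?_⟩
  ext <;> simp only [ofBits, bI, add_def, smul, half, decide_eq_true_eq] <;> split_ifs <;> omega

theorem InI_add_smul_two {c p' : Ico} : InI (c + smul 2 p') ↔ InI c := by
  unfold InI; simp only [add_def, smul]
  constructor <;> intro h <;> omega


/-! ### closure under multiplication -/

theorem mul_bits_bits : ∀ b0 b1 b2 b3 b4 b5 b6 b7 c0 c1 c2 c3 c4 c5 c6 c7 : Bool,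
    InI (ofBits b0 b1 b2 b3 b4 b5 b6 b7) → InI (ofBits c0 c1 c2 c3 c4 c5 c6 c7) →
    DvdAll 2 (mulRaw (ofBits b0 b1 b2 b3 b4 b5 b6 b7) (ofBits c0 c1 c2 c3 c4 c5 c6 c7)) ∧
    InI (half (mulRaw (ofBits b0 b1 b2 b3 b4 b5 b6 b7) (ofBits c0 c1 c2 c3 c4 c5 c6 c7))) := by
  decide +kernel

theorem mul_bits_any : ∀ b0 b1 b2 b3 b4 b5 b6 b7 c0 c1 c2 c3 c4 c5 c6 c7 : Bool,
    InI (ofBits b0 b1 b2 b3 b4 b5 b6 b7) →
    InI (mulRaw (ofBits b0 b1 b2 b3 b4 b5 b6 b7) (ofBits c0 c1 c2 c3 c4 c5 c6 c7)) := by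
  decide +kernel

theorem mul_any_bits : ∀ b0 b1 b2 b3 b4 b5 b6 b7 c0 c1 c2 c3 c4 c5 c6 c7 : Bool,
    InI (ofBits c0 c1 c2 c3 c4 c5 c6 c7) →
    InI (mulRaw (ofBits b0 b1 b2 b3 b4 b5 b6 b7) (ofBits c0 c1 c2 c3 c4 c5 c6 c7)) := by
  decide +kernel


end Ico

end Cfsg.Agent.J2
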