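import Mathlib
import Cfsg.Agent.Lib.Lead.J2.IcoBits

set_option autoImplicit false

namespace Cfsg.Agent.J2

open Quaternion Cfsg.Spor

namespace Ico

theorem InI.mulRaw_bits_left {c q : Ico} (b0 b1 b2 b3 b4 b5 b6 b7 : Bool)
    (hc : c = ofBits b0 b1 b2 b3 b4 b5 b6 b7) (h : InI c) : InI (mulRaw c q) := by
  obtain ⟨d0, d1, d2, d3, d4, d5, d6, d7, q', rfl⟩ := exists_bits q
  rw [mulRaw_add_right, mulRaw_smul_right, InI_add_smul_two]
  subst hc
  exact mul_bits_any _ _ _ _ _ _ _ _ _ _ _ _ _ _ _ _ h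

theorem InI.mulRaw_bits_right {c p : Ico} (b0 b1 b2 b3 b4 b5 b6 b7 : Bool)
    (hc : c = ofBits b0 b1 b2 b3 b4 b5 b6 b7) (h : InI c) : InI (mulRaw p c) := by
  obtain ⟨d0, d1, d2, d3, d4, d5, d6, d7, p', rfl⟩ := exists_bits p
  rw [mulRaw_add_left, mulRaw_smul_left, InI_add_smul_two]
  subst hc
  exact mul_any_bits _ _ _ _ _ _ _ _ _ _ _ _ _ _ _ _ h

/-- the icosian ring is closed under multiplication -/
theorem InI.mul {p q : Ico} (hp : InI p) (hq : InI q) : ∃ r, InI r ∧ mulRaw p q = Ico.smul 2 r := by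
  obtain ⟨b0, b1, b2, b3, b4, b5, b6, b7, p', rfl⟩ := exists_bits p
  obtain ⟨c0, c1, c2, c3, c4, c5, c6, c7, q', rfl⟩ := exists_bits q
  rw [InI_add_smul_two] at hp hq
  obtain ⟨hd, hi⟩ := mul_bits_bits _ _ _ _ _ _ _ _ _ _ _ _ _ _ _ _ hp hq
  refine ⟨half (mulRaw (ofBits b0 b1 b2 b3 b4 b5 b6 b7) (ofBits c0 c1 c2 c3 c4 c5 c6 c7)) +
    mulRaw (ofBits b0 b1 b2 b3 b4 b5 b6 b7) q' + mulRaw p' (ofBits c0 c1 c2 c3 c4 c5 c6 c7) +
    Ico.smul 2 (mulRaw p' q'), ?_, ?_⟩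
  · refine ((hi.add ?_).add ?_).add (InI.smul_two _)
    · exact InI.mulRaw_bits_left _ _ _ _ _ _ _ _ rfl hp
    · exact InI.mulRaw_bits_right _ _ _ _ _ _ _ _ rfl hq
  · rw [mulRaw_add_left, mulRaw_add_right, mulRaw_add_right, mulRaw_smul_left, mulRaw_smul_left,
      mulRaw_smul_right, mulRaw_smul_right, smul_add, smul_add, smul_add, smul_two_half hd, smul_smul]
    ext <;> simp only [add_def, Ico.smul] <;> ring

/-- the product of two icosians, in doubled coordinates -/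
def mul (p q : Ico) : Ico := half (mulRaw p q)

theorem InI.mul' {p q : Ico} (hp : InI p) (hq : InI q) : InI (Ico.mul p q) ∧ mulRaw p q = Ico.smul 2 (Ico.mul p q) := by
  obtain ⟨r, hr, h⟩ := hp.mul hq
  have : Ico.mul p q = r := by rw [Ico.mul, h, half_smul_two]
  rw [this]; exact ⟨hr, h⟩

theorem emb_mul {p q : Ico} (hp : InI p) (hq : InI q) : emb (Ico.mul p q) = emb p * emb q := by
  have h := (hp.mul' hq).2
  have h2 := emb_mulRaw p q
  rw [h, emb_smul] at h2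
  have : (2 : ℝ) • emb (Ico.mul p q) = (2 : ℝ) • (emb p * emb q) := by exact_mod_cast h2
  exact smul_right_injective _ (two_ne_zero) this

end Ico

end Cfsg.Agent.J2
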