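import Mathlib
import Cfsg.Agent.Lib.Lead.J2.IcoRing

set_option autoImplicit false

namespace Cfsg.Agent.J2

open Quaternion Cfsg.Spor

namespace Ico

def mOne : Ico := ⟨2, 0, 0, 0, 0, 0, 0, 0⟩
def mT : Ico := ⟨0, 2, 0, 0, 0, 0, 0, 0⟩
def mI : Ico := ⟨0, 0, 2, 0, 0, 0, 0, 0⟩
def mTI : Ico := ⟨0, 0, 0, 2, 0, 0, 0, 0⟩
def mJ : Ico := ⟨0, 0, 0, 0, 2, 0, 0, 0⟩
def mTJ : Ico := ⟨0, 0, 0, 0, 0, 2, 0, 0⟩
def mK : Ico := ⟨0, 0, 0, 0, 0, 0, 2, 0⟩
def mTK : Ico := ⟨0, 0, 0, 0, 0, 0, 0, 2⟩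
def mG : Ico := ⟨1, 0, 1, -1, 0, 0, 0, 1⟩

theorem emb_mOne : emb mOne = 1 := by
  ext <;> simp [emb_re, emb_imI, emb_imJ, emb_imK, mOne]

theorem emb_mI : emb mI = qI := by
  ext <;> simp [emb_re, emb_imI, emb_imJ, emb_imK, mI, qI]

theorem emb_mG : emb mG = (⟨1 / 2, sig / 2, 0, tau / 2⟩ : ℍ[ℝ]) := by
  ext <;> simp [emb_re, emb_imI, emb_imJ, emb_imK, mG, sig_eq] <;> ring

/-- the subring of `ℍ` of all quaternions that stand for model icosians -/
noncomputable def modelSubring : Subring ℍ[ℝ] where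
  carrier := {x | ∃ p : Ico, InI p ∧ emb p = x}
  mul_mem' := by
    rintro _ _ ⟨p, hp, rfl⟩ ⟨q, hq, rfl⟩
    exact ⟨Ico.mul p q, (hp.mul' hq).1, emb_mul hp hq⟩
  one_mem' := ⟨mOne, by decide, emb_mOne⟩
  add_mem' := by
    rintro _ _ ⟨p, hp, rfl⟩ ⟨q, hq, rfl⟩
    exact ⟨p + q, hp.add hq, emb_add p q⟩
  zero_mem' := ⟨0, InI.zero, emb_zero⟩
  neg_mem' := by
    rintro _ ⟨p, hp, rfl⟩
    exact ⟨-p, hp.neg, emb_neg p⟩

theorem icosians_le : icosians ≤ modelSubring := by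
  unfold icosians
  rw [Subring.closure_le]
  rintro x (rfl | rfl)
  · exact ⟨mI, by decide, emb_mI⟩
  · exact ⟨mG, by decide, emb_mG⟩

/-! ### the converse inclusion -/

/-- model elements that stand for elements of the icosian ring -/
def Good (p : Ico) : Prop := InI p ∧ emb p ∈ icosians

theorem Good.mul {p q : Ico} (hp : Good p) (hq : Good q) : Good (Ico.mul p q) :=
  ⟨(hp.1.mul' hq.1).1, by rw [emb_mul hp.1 hq.1]; exact Subring.mul_mem _ hp.2 hq.2⟩

theorem Good.add {p q : Ico} (hp : Good p) (hq : Good q) : Good (p + q) :=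
  ⟨hp.1.add hq.1, by rw [emb_add]; exact Subring.add_mem _ hp.2 hq.2⟩

theorem Good.sub {p q : Ico} (hp : Good p) (hq : Good q) : Good (p - q) :=
  ⟨hp.1.sub hq.1, by rw [emb_sub]; exact Subring.sub_mem _ hp.2 hq.2⟩

theorem Good.neg {p : Ico} (hp : Good p) : Good (-p) :=
  ⟨hp.1.neg, by rw [emb_neg]; exact Subring.neg_mem _ hp.2⟩

theorem Good.smul {p : Ico} (n : ℤ) (hp : Good p) : Good (Ico.smul n p) :=
  ⟨hp.1.smul n, by
    rw [emb_smul, Int.cast_smul_eq_zsmul]; exact Subring.zsmul_mem _ hp.2 n⟩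

theorem good_mOne : Good mOne := ⟨by decide, by rw [emb_mOne]; exact Subring.one_mem _⟩
theorem good_mI : Good mI :=
  ⟨by decide, by rw [emb_mI]; exact Subring.subset_closure (Set.mem_insert _ _)⟩
theorem good_mG : Good mG :=
  ⟨by decide, by rw [emb_mG]; exact Subring.subset_closure (Set.mem_insert_of_mem _ rfl)⟩

theorem good_mT : Good mT := by
  have h : mT = mOne + Ico.mul mI mG + Ico.mul (mOne - mG) (-mI) := by decide
  rw [h]
  exact (good_mOne.add (good_mI.mul good_mG)).add ((good_mOne.sub good_mG).mul good_mI.neg)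

theorem good_mK : Good mK := by
  have h : mK = Ico.mul (mT - mOne) (Ico.smul 2 mG - mOne - Ico.mul (mOne - mT) mI) := by decide
  rw [h]
  exact (good_mT.sub good_mOne).mul (((good_mG.smul 2).sub good_mOne).sub ((good_mOne.sub good_mT).mul good_mI))

theorem good_mJ : Good mJ := by
  have h : mJ = Ico.mul mK mI := by decide
  rw [h]; exact good_mK.mul good_mI

theorem good_mTI : Good mTI := by
  have h : mTI = Ico.mul mT mI := by decide
  rw [h]; exact good_mT.mul good_mI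

theorem good_mTJ : Good mTJ := by
  have h : mTJ = Ico.mul mT mJ := by decide
  rw [h]; exact good_mT.mul good_mJ

theorem good_mTK : Good mTK := by
  have h : mTK = Ico.mul mT mK := by decide
  rw [h]; exact good_mT.mul good_mK

theorem good_smul_two (p : Ico) : Good (Ico.smul 2 p) := by
  have h : Ico.smul 2 p = Ico.smul p.a0 mOne + Ico.smul p.a1 mT + Ico.smul p.b0 mI + Ico.smul p.b1 mTI +
      Ico.smul p.c0 mJ + Ico.smul p.c1 mTJ + Ico.smul p.d0 mK + Ico.smul p.d1 mTK := by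
    ext <;> simp only [Ico.smul, add_def, mOne, mT, mI, mTI, mJ, mTJ, mK, mTK] <;> ring
  rw [h]
  exact (((((((good_mOne.smul _).add (good_mT.smul _)).add (good_mI.smul _)).add (good_mTI.smul _)).add
    (good_mJ.smul _)).add (good_mTJ.smul _)).add (good_mK.smul _)).add (good_mTK.smul _)

def mU1 : Ico := ⟨-1, 2, 2, 0, 0, -1, 1, 1⟩
def mU2 : Ico := ⟨0, 1, 2, 0, -1, -1, 1, 2⟩
def mU3 : Ico := ⟨-2, 4, 5, 0, -1, -3, 2, 3⟩
def mU4 : Ico := ⟨-2, 4, 4, 1, -1, -2, 3, 3⟩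

def mL2 : Ico := Ico.mul mI mG
def mL3 : Ico := Ico.mul mG mL2
def mL4 : Ico := Ico.mul mL2 mL2

theorem good_mL2 : Good mL2 := good_mI.mul good_mG
theorem good_mL3 : Good mL3 := good_mG.mul good_mL2
theorem good_mL4 : Good mL4 := good_mL2.mul good_mL2

theorem good_mU1 : Good mU1 := by
  have h : mU1 = mG + mL2 + mL3 := by decide
  rw [h]; exact (good_mG.add good_mL2).add good_mL3

theorem good_mU2 : Good mU2 := by
  have h : mU2 = mL4 + mG + mU1 := by decide
  rw [h]; exact (good_mL4.add good_mG).add good_mU1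

theorem good_mU3 : Good mU3 := by
  have h : mU3 = mL2 + mU1 + mU2 := by decide
  rw [h]; exact (good_mL2.add good_mU1).add good_mU2

theorem good_mU4 : Good mU4 := by
  have h : mU4 = mL3 + mU1 + mU2 := by decide
  rw [h]; exact (good_mL3.add good_mU1).add good_mU2

theorem good_of_InI {p : Ico} (hp : InI p) : Good p := by
  set q : Ico := p - (Ico.smul (p.a0 % 2) mU1 + Ico.smul (p.a1 % 2) mU2 + Ico.smul (p.b0 % 2) mU3 +
    Ico.smul (p.b1 % 2) mU4) with hq
  have hd : DvdAll 2 q := by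
    unfold InI at hp
    simp only [hq, DvdAll, sub_def, add_def, Ico.smul, mU1, mU2, mU3, mU4]
    refine ⟨?_, ?_, ?_, ?_, ?_, ?_, ?_, ?_⟩ <;> omega
  have hp' : p = Ico.smul 2 (half q) + (Ico.smul (p.a0 % 2) mU1 + Ico.smul (p.a1 % 2) mU2 +
      Ico.smul (p.b0 % 2) mU3 + Ico.smul (p.b1 % 2) mU4) := by
    rw [smul_two_half hd, hq]
    ext <;> simp only [sub_def, add_def] <;> ring
  rw [hp']
  exact (good_smul_two _).add ((((good_mU1.smul _).add (good_mU2.smul _)).add (good_mU3.smul _)).add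
    (good_mU4.smul _))

/-- **The icosian ring in coordinates.** -/
theorem mem_icosians_iff (x : ℍ[ℝ]) : x ∈ icosians ↔ ∃ p : Ico, InI p ∧ emb p = x := by
  constructor
  · intro h; exact icosians_le h
  · rintro ⟨p, hp, rfl⟩; exact (good_of_InI hp).2

end Ico

end Cfsg.Agent.J2
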