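import Mathlib
import Cfsg.Agent.Lib.Lead.J2.IcoEq

set_option autoImplicit false

namespace Cfsg.Agent.J2

open Quaternion Cfsg.Spor

namespace Ico

theorem tau_eq_golden : tau = Real.goldenRatio := rfl

theorem int_add_tau_eq_zero {a b : ℤ} (h : (a : ℝ) + b * tau = 0) : a = 0 ∧ b = 0 := by
  by_cases hb : b = 0
  · subst hb; simp at h; exact ⟨by exact_mod_cast h, rfl⟩
  · exfalso
    have hirr := Real.goldenRatio_irrational
    rw [← tau_eq_golden] at hirr
    apply hirr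
    refine ⟨(-a : ℚ) / b, ?_⟩
    have hb' : (b : ℝ) ≠ 0 := by exact_mod_cast hb
    push_cast
    field_simp
    linarith

theorem emb_injective : Function.Injective emb := by
  intro p q h
  have h0 := congrArg QuaternionAlgebra.re h
  have h1 := congrArg QuaternionAlgebra.imI h
  have h2 := congrArg QuaternionAlgebra.imJ h
  have h3 := congrArg QuaternionAlgebra.imK h
  simp only [emb_re, emb_imI, emb_imJ, emb_imK] at h0 h1 h2 h3
  have e0 := int_add_tau_eq_zero (a := p.a0 - q.a0) (b := p.a1 - q.a1) (by push_cast; linarith)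
  have e1 := int_add_tau_eq_zero (a := p.b0 - q.b0) (b := p.b1 - q.b1) (by push_cast; linarith)
  have e2 := int_add_tau_eq_zero (a := p.c0 - q.c0) (b := p.c1 - q.c1) (by push_cast; linarith)
  have e3 := int_add_tau_eq_zero (a := p.d0 - q.d0) (b := p.d1 - q.d1) (by push_cast; linarith)
  ext <;> omega

theorem emb_eq_zero {p : Ico} : emb p = 0 ↔ p = 0 := by
  rw [← emb_zero]; exact emb_injective.eq_iff

/-- four times the norm: `4 |p/2|² = nrm0 p + nrm1 p · τ` with `nrm0 p` the sum of the squares of the coordinates. -/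
def nrm0 (p : Ico) : ℤ :=
  p.a0 ^ 2 + p.a1 ^ 2 + p.b0 ^ 2 + p.b1 ^ 2 + p.c0 ^ 2 + p.c1 ^ 2 + p.d0 ^ 2 + p.d1 ^ 2
def nrm1 (p : Ico) : ℤ :=
  2 * p.a0 * p.a1 + p.a1 ^ 2 + 2 * p.b0 * p.b1 + p.b1 ^ 2 + 2 * p.c0 * p.c1 + p.c1 ^ 2 + 2 * p.d0 * p.d1 + p.d1 ^ 2

theorem normSq_emb (p : Ico) : Quaternion.normSq (emb p) = ((nrm0 p : ℝ) + nrm1 p * tau) / 4 := by
  rw [Quaternion.normSq_def']
  simp only [emb_re, emb_imI, emb_imJ, emb_imK, nrm0, nrm1]
  push_cast
  linear_combination ((1 / 4 : ℝ) * (p.a1 ^ 2 + p.b1 ^ 2 + p.c1 ^ 2 + p.d1 ^ 2)) * tau_sq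

/-- the model of `h = ½(-√5 + i + j + k)` -/
def mH : Ico := ⟨1, -2, 1, 0, 1, 0, 1, 0⟩

theorem emb_mH : emb mH = icoH := by
  have h5 : Real.sqrt 5 = 2 * tau - 1 := by unfold tau; ring
  ext <;> simp [emb_re, emb_imI, emb_imJ, emb_imK, mH, icoH, h5] <;> ring

theorem star_icoH_mul : star icoH * icoH = 2 := by
  have h5 : Real.sqrt 5 ^ 2 = 5 := Real.sq_sqrt (by norm_num)
  rw [Quaternion.star_mul_self]
  rw [Quaternion.normSq_def']
  simp only [icoH]
  have e : ((-Real.sqrt 5 / 2) ^ 2 + (1 / 2) ^ 2 + (1 / 2) ^ 2 + (1 / 2) ^ 2 : ℝ) = 2 := by nlinarith [h5]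
  rw [e]; norm_cast

theorem icoH_mul_star : icoH * star icoH = 2 := by
  have h5 : Real.sqrt 5 ^ 2 = 5 := Real.sq_sqrt (by norm_num)
  rw [Quaternion.self_mul_star]
  rw [Quaternion.normSq_def']
  simp only [icoH]
  have e : ((-Real.sqrt 5 / 2) ^ 2 + (1 / 2) ^ 2 + (1 / 2) ^ 2 + (1 / 2) ^ 2 : ℝ) = 2 := by nlinarith [h5]
  rw [e]; norm_cast

/-- division of all coordinates by `n` (meant for coordinates divisible by `n`) -/
def divBy (n : ℤ) (p : Ico) : Ico := ⟨p.a0 / n, p.a1 / n, p.b0 / n, p.b1 / n, p.c0 / n, p.c1 / n, p.d0 / n, p.d1 / n⟩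

theorem smul_divBy {n : ℤ} (_hn : n ≠ 0) {p : Ico} (h : DvdAll n p) : Ico.smul n (divBy n p) = p := by
  obtain ⟨h0, h1, h2, h3, h4, h5, h6, h7⟩ := h
  ext <;> simp only [divBy, Ico.smul] <;> exact Int.mul_ediv_cancel' ‹_›

theorem divBy_smul {n : ℤ} (hn : n ≠ 0) (p : Ico) : divBy n (Ico.smul n p) = p := by
  ext <;> simp only [divBy, Ico.smul] <;> exact Int.mul_ediv_cancel_left _ hn

theorem dvdAll_smul (n : ℤ) (p : Ico) : DvdAll n (Ico.smul n p) := by
  simp only [DvdAll, Ico.smul]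
  exact ⟨dvd_mul_right _ _, dvd_mul_right _ _, dvd_mul_right _ _, dvd_mul_right _ _, dvd_mul_right _ _,
    dvd_mul_right _ _, dvd_mul_right _ _, dvd_mul_right _ _⟩

/-- `x ∈ I·q`, in coordinates, for `q` of norm `2` -/
def InLeft (q x : Ico) : Prop := DvdAll 4 (mulRaw x (conj q)) ∧ InI (divBy 4 (mulRaw x (conj q)))

instance (q x : Ico) : Decidable (InLeft q x) := by unfold InLeft; infer_instance

theorem mem_leftIdeal_iff {q : Ico} (h1 : emb q * star (emb q) = 2) (h2 : star (emb q) * emb q = 2)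
    {x : Ico} : emb x ∈ leftIdeal (emb q) ↔ InLeft q x := by
  have key : emb (mulRaw x (conj q)) = (2 : ℝ) • (emb x * star (emb q)) := by
    rw [emb_mulRaw, emb_conj]
  constructor
  · rintro ⟨a', ha', hx⟩
    obtain ⟨A, hA, rfl⟩ := (mem_icosians_iff a').1 ha'
    have e : mulRaw x (conj q) = Ico.smul 4 A := by
      apply emb_injective
      rw [key, hx, mul_assoc, h1, emb_smul, mul_two, ← two_smul ℝ (emb A), _root_.smul_smul]
      norm_num
    unfold InLeft
    rw [e, divBy_smul (by norm_num)]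
    exact ⟨dvdAll_smul _ _, hA⟩
  · rintro ⟨hd, hi⟩
    refine ⟨emb (divBy 4 (mulRaw x (conj q))), (mem_icosians_iff _).2 ⟨_, hi, rfl⟩, ?_⟩
    have e := smul_divBy (n := 4) (by norm_num) hd
    have e2 : (4 : ℝ) • emb (divBy 4 (mulRaw x (conj q))) = (2 : ℝ) • (emb x * star (emb q)) := by
      rw [← key]
      conv_rhs => rw [← e]
      rw [emb_smul]; norm_num
    have e3 : emb x * star (emb q) = (2 : ℝ) • emb (divBy 4 (mulRaw x (conj q))) := by
      have : (2 : ℝ) • (emb x * star (emb q)) = (2 : ℝ) • ((2 : ℝ) • emb (divBy 4 (mulRaw x (conj q)))) := by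
        rw [← e2, _root_.smul_smul]; norm_num
      exact smul_right_injective _ (two_ne_zero) this
    have e4 : emb x * (star (emb q) * emb q) = ((2 : ℝ) • emb (divBy 4 (mulRaw x (conj q)))) * emb q := by
      rw [← mul_assoc, e3]
    rw [h2] at e4
    have e5 : (2 : ℝ) • emb x = (2 : ℝ) • (emb (divBy 4 (mulRaw x (conj q))) * emb q) := by
      rw [← smul_mul_assoc, ← e4, mul_two, two_smul]
    exact smul_right_injective _ (two_ne_zero) e5

theorem mem_leftIdeal_H {x : Ico} : emb x ∈ leftIdeal icoH ↔ InLeft mH x := by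
  rw [← emb_mH]
  exact mem_leftIdeal_iff (by rw [emb_mH]; exact icoH_mul_star) (by rw [emb_mH]; exact star_icoH_mul)

theorem mem_leftIdeal_Hbar {x : Ico} : emb x ∈ leftIdeal (star icoH) ↔ InLeft (conj mH) x := by
  rw [← emb_mH, ← emb_conj]
  exact mem_leftIdeal_iff (by rw [emb_conj, emb_mH, star_star]; exact star_icoH_mul)
    (by rw [emb_conj, emb_mH, star_star]; exact icoH_mul_star)

end Ico

/-- a triple of model quaternions -/
structure V3 where
  x : Ico
  y : Ico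
  z : Ico
deriving DecidableEq

namespace V3

open Ico

/-- the vector of `ℍ³` that `v` stands for -/
noncomputable def emb (v : V3) : Fin 3 → ℍ[ℝ] := ![Ico.emb v.x, Ico.emb v.y, Ico.emb v.z]

theorem emb_injective : Function.Injective emb := by
  intro v w h
  have h0 := congrFun h 0
  have h1 := congrFun h 1
  have h2 := congrFun h 2
  simp only [emb, Matrix.cons_val_zero, Matrix.cons_val_one, Matrix.cons_val] at h0 h1 h2
  cases v; cases w
  simp only [mk.injEq]
  exact ⟨Ico.emb_injective h0, Ico.emb_injective h1, Ico.emb_injective h2⟩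

/-- membership in the icosian Leech lattice, in coordinates -/
def InLam (v : V3) : Prop :=
  InI v.x ∧ InI v.y ∧ InI v.z ∧ InLeft mH (v.x - v.y) ∧ InLeft mH (v.y - v.z) ∧
    InLeft (Ico.conj mH) (v.x + v.y + v.z)

instance (v : V3) : Decidable (InLam v) := by unfold InLam; infer_instance

theorem mem_icoLeech_iff (w : Fin 3 → ℍ[ℝ]) : w ∈ icoLeech ↔ ∃ v : V3, InLam v ∧ emb v = w := by
  constructor
  · rintro ⟨hI, h1, h2, h3⟩
    obtain ⟨x, hx, ex⟩ := (mem_icosians_iff _).1 (hI 0)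
    obtain ⟨y, hy, ey⟩ := (mem_icosians_iff _).1 (hI 1)
    obtain ⟨z, hz, ez⟩ := (mem_icosians_iff _).1 (hI 2)
    refine ⟨⟨x, y, z⟩, ⟨hx, hy, hz, ?_, ?_, ?_⟩, ?_⟩
    · rw [← mem_leftIdeal_H, Ico.emb_sub, ex, ey]; exact h1
    · rw [← mem_leftIdeal_H, Ico.emb_sub, ey, ez]; exact h2
    · rw [← mem_leftIdeal_Hbar, Ico.emb_add, Ico.emb_add, ex, ey, ez]; exact h3
    · funext t
      fin_cases t
      · exact ex
      · exact ey
      · exact ez
  · rintro ⟨v, ⟨hx, hy, hz, h1, h2, h3⟩, rfl⟩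
    refine ⟨?_, ?_, ?_, ?_⟩
    · intro t
      fin_cases t
      · exact (mem_icosians_iff _).2 ⟨_, hx, rfl⟩
      · exact (mem_icosians_iff _).2 ⟨_, hy, rfl⟩
      · exact (mem_icosians_iff _).2 ⟨_, hz, rfl⟩
    · have := mem_leftIdeal_H.2 h1
      rwa [Ico.emb_sub] at this
    · have := mem_leftIdeal_H.2 h2
      rwa [Ico.emb_sub] at this
    · have := mem_leftIdeal_Hbar.2 h3
      rwa [Ico.emb_add, Ico.emb_add] at this

/-- sixteen times `v·v` is `n0 v + n1 v · τ` -/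
def n0 (v : V3) : ℤ := nrm0 v.x + nrm0 v.y + nrm0 v.z
def n1 (v : V3) : ℤ := nrm1 v.x + nrm1 v.y + nrm1 v.z

theorem qip_self_eq_four_iff (v : V3) : qip (emb v) (emb v) = 4 ↔ n0 v = 16 ∧ n1 v = 0 := by
  have h : qip (emb v) (emb v) =
      ((Quaternion.normSq (Ico.emb v.x) + Quaternion.normSq (Ico.emb v.y) + Quaternion.normSq (Ico.emb v.z) : ℝ) : ℍ[ℝ]) := by
    unfold qip
    rw [Fin.sum_univ_three]
    simp only [emb, Matrix.cons_val_zero, Matrix.cons_val_one, Matrix.cons_val, Quaternion.self_mul_star]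
    push_cast
    rfl
  rw [h, normSq_emb, normSq_emb, normSq_emb]
  have h4 : (4 : ℍ[ℝ]) = ((4 : ℝ) : ℍ[ℝ]) := by norm_cast
  rw [h4, Quaternion.coe_inj]
  constructor
  · intro e
    have := int_add_tau_eq_zero (a := n0 v - 16) (b := n1 v) (by
      simp only [n0, n1]; push_cast; linarith)
    omega
  · rintro ⟨e0, e1⟩
    have e0' : ((nrm0 v.x : ℝ) + nrm0 v.y + nrm0 v.z) = 16 := by exact_mod_cast e0
    have e1' : ((nrm1 v.x : ℝ) + nrm1 v.y + nrm1 v.z) = 0 := by exact_mod_cast e1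
    linear_combination (1 / 4 : ℝ) * e0' + (tau / 4) * e1'

end V3

end Cfsg.Agent.J2
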