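import Mathlib
import Cfsg.Agent.Lib.Lead.J2.PermData
import Cfsg.Agent.Lib.Helper6.SSPerm

set_option autoImplicit false

namespace Cfsg.Agent.J2

open Cfsg.Agent.Lib.Helper6.SS

set_option maxRecDepth 100000 in
theorem valid_g24 : Valid 315 g24 := valid_iff.1 (by decide +kernel)
set_option maxRecDepth 100000 in
theorem valid_g77 : Valid 315 g77 := valid_iff.1 (by decide +kernel)
set_option maxRecDepth 100000 in
theorem valid_g165 : Valid 315 g165 := valid_iff.1 (by decide +kernel)
set_option maxRecDepth 100000 in
theorem valid_g202 : Valid 315 g202 := valid_iff.1 (by decide +kernel)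

/-- the permutation group on the 315 lines generated by four reflections; it is the image of `twoJ2` -/
noncomputable def PJ2 : Subgroup (Equiv.Perm (Fin 315)) :=
  Subgroup.closure {toPerm 315 g24, toPerm 315 g77, toPerm 315 g165, toPerm 315 g202}

end Cfsg.Agent.J2
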