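import Mathlib

set_option autoImplicit false

namespace Cfsg.Agent.J2

/-- breadth-first search certificate: depth of each line from the lines 24, 77, 165, 202 under the four
generating reflections -/
def bfsDep : List ℕ := [7, 8, 3, 8, 4, 6, 8, 7, 7, 6, 6, 5, 5, 7, 8, 7, 6, 5, 8, 8, 7, 7, 7, 8, 0, 6, 3, 5, 4, 4, 5, 7, 7, 4, 3, 6, 5, 6, 8, 3, 1, 6, 8, 3, 3, 5, 6, 6, 6, 3, 4, 7, 4, 3, 5, 6, 4, 5, 8, 4, 4, 5, 6, 7, 7, 7, 5, 5, 6, 4, 3, 5, 7, 2, 6, 2, 6, 0, 4, 5, 6, 3, 5, 4, 6, 7, 7, 7, 2, 8, 5, 7, 8, 5, 4, 4, 7, 6, 7, 6, 1, 5, 5, 5, 6, 2, 7, 6, 4, 5, 4, 6, 8, 5, 4, 5, 6, 5, 6, 9, 6, 7, 4, 5, 3, 5, 6, 6, 5, 6, 6, 6, 3, 5, 6, 5, 6, 8, 1, 2, 5, 6, 8, 5, 8, 3, 8, 7, 6, 4, 8, 4, 5, 8, 6, 8, 6, 2, 7, 4, 4, 8, 5, 4, 7, 0, 5, 8, 7, 8, 7, 5, 4, 7, 5, 3, 6, 5, 5, 8, 7, 3, 7, 7, 3, 4, 5, 4, 2, 5, 4, 5, 4, 8, 5, 6, 8, 7, 8, 4, 7, 8, 0, 8, 5, 8, 7, 6, 7, 7, 7, 6, 8, 5,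 7, 5, 2, 9, 7, 5, 7, 5, 5, 8, 3, 2, 3, 7, 2, 6, 6, 1, 6, 4, 2, 7, 6, 8, 6, 7, 8, 1, 4, 8, 6, 6, 4, 3, 6, 4, 6, 4, 4, 3, 8, 7, 5, 2, 7, 7, 7, 6, 3, 6, 7, 6, 7, 5, 6, 6, 6, 1, 4, 6, 4, 3, 8, 6, 6, 6, 6, 5, 8, 5, 5, 7, 7, 8, 4, 5, 8, 7, 3, 6, 2, 5, 7, 5, 5, 7, 7, 7, 5, 6, 7, 7, 5, 5, 8, 4, 7, 1, 6, 4, 7]

/-- the generator (0..3) and the parent of each line -/
def bfsPar : List (ℕ × ℕ) := [(0, 244), (1, 264), (2, 139), (1, 180), (1, 292), (0, 79), (1, 22), (1, 211), (3, 250), (1, 177), (1, 93), (0, 190), (3, 309), (0, 280), (2, 218), (1, 5), (2, 189), (3, 187), (1, 65), (1, 158), (2, 129), (2, 104), (0, 25), (3, 86), (0, 24), (3, 178), (3, 257), (3, 114), (3, 175), (3, 292), (3, 190), (0, 250), (1, 97), (3, 49), (3, 157), (1, 306), (2, 151), (0, 191), (2, 255), (0, 216), (0, 77), (2, 79), (0, 314), (3, 225), (0, 75), (0, 272), (3, 191), (0, 219), (0, 117),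 (1, 75), (2, 262), (3, 107), (1, 247), (0, 228), (2, 95), (2, 133), (2, 253), (0, 185), (0, 209), (1, 181), (2, 175), (0, 114), (0, 306), (0, 229), (3, 236), (3, 261), (0, 94), (2, 251), (1, 289), (0, 181), (1, 294), (3, 274), (0, 74), (0, 271), (1, 256), (3, 311), (0, 17), (0, 77), (0, 175), (1, 199), (1, 71), (3, 188), (2, 59), (3, 70), (2, 213), (1, 62), (0, 129), (3, 230), (3, 138), (0, 214), (3, 192), (2, 68), (0, 64), (3, 78), (3, 275), (0, 49), (2, 248), (3, 189), (2, 236), (0, 281), (1, 24), (3, 56), (0, 199), (3, 163), (1, 295), (1, 241), (1, 265), (2, 298), (1, 34), (1, 187), (3, 145), (0, 166), (2, 180), (3, 252), (1, 43), (0, 56), (0, 67), (3, 288), (3, 171), (2, 198), (1, 54), (0, 269), (0, 34), (1, 29), (1, 73), (0, 172), (2, 11), (1, 117), (1, 233), (1, 284), (2, 102), (3, 297), (2, 105), (0, 151), (3, 67), (2, 190), (3, 109), (0, 158), (2,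 24), (1, 231), (3, 242), (1, 61), (0, 206), (1, 272), (2, 7), (2, 73), (3, 13), (1, 269), (1, 11), (3, 226), (3, 158), (1, 184), (0, 192), (0, 106), (1, 140), (2, 182), (2, 215), (1, 138), (2, 250), (1, 145), (3, 39), (1, 208), (0, 149), (0, 253), (0, 265), (0, 165), (1, 69), (1, 314), (0, 134), (3, 91), (0, 303), (1, 110), (2, 49), (1, 126), (3, 151), (1, 88), (1, 90), (3, 159), (2, 163), (3, 98), (0, 46), (3, 139), (1, 248), (2, 48), (3, 73), (2, 224), (0, 159), (2, 292), (0, 311), (1, 95), (1, 26), (1, 122), (2, 275), (0, 260), (3, 4), (0, 101), (1, 31), (0, 41), (1, 214), (3, 2), (0, 176), (0, 8), (0, 202), (0, 87), (2, 114), (1, 87), (1, 55), (3, 204), (3, 9), (2, 5), (1, 25), (0, 82), (0, 7), (1, 83), (3, 37), (1, 78), (2, 271), (3, 167), (0, 68), (3, 108), (3, 68), (0, 251), (3, 52), (1, 164), (0, 105), (2, 100), (0, 225), (1, 131), (3, 100), (2,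 166), (0, 128), (3, 24), (0, 71), (0, 43), (3, 40), (1, 118), (0, 171), (3, 31), (3, 79), (0, 118), (1, 296), (3, 77), (1, 39), (2, 291), (3, 128), (0, 30), (1, 262), (2, 294), (0, 27), (0, 26), (1, 102), (1, 44), (0, 132), (1, 234), (0, 285), (0, 207), (2, 69), (2, 40), (1, 130), (0, 107), (3, 116), (0, 109), (0, 234), (0, 295), (3, 74), (3, 11), (1, 48), (1, 50), (3, 298), (3, 36), (1, 221), (1, 202), (2, 70), (1, 45), (0, 2), (1, 228), (0, 310), (2, 171), (3, 54), (0, 36), (1, 27), (1, 185), (3, 21), (2, 246), (0, 110), (1, 238), (1, 136), (1, 72), (1, 81), (3, 95), (0, 258), (1, 263), (0, 139), (0, 135), (0, 241), (3, 272), (3, 104), (0, 187), (1, 249), (1, 229), (3, 273), (0, 35), (1, 28), (1, 178), (3, 126), (1, 278), (3, 251), (1, 160), (1, 209), (1, 53), (1, 268), (2, 77), (1, 222), (3, 253), (2, 111)]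

end Cfsg.Agent.J2
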