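import Mathlib
import Cfsg.Agent.Lib.Lead.J2.PermGrp
import Cfsg.Agent.Lib.Lead.J2.BfsData

set_option autoImplicit false

namespace Cfsg.Agent.J2

open Cfsg.Agent.Lib.Helper6.SS (toPerm toPerm_apply Valid)

/-- the four generating permutations -/
def gensL : List (List ℕ) := [g24, g77, g165, g202]

/-- the check of the breadth-first search certificate -/
def bfsOK : Bool := (List.range 315).all fun i =>
  (Nat.beq (bfsDep.getD i 0) 0 && (Nat.beq i 24 || Nat.beq i 77 || Nat.beq i 165 || Nat.beq i 202)) ||
  (decide ((bfsPar.getD i (0, 0)).2 < 315) && decide ((bfsPar.getD i (0, 0)).1 < 4) &&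
    Nat.beq ((gensL.getD (bfsPar.getD i (0, 0)).1 []).getD (bfsPar.getD i (0, 0)).2 0) i &&
    Nat.blt (bfsDep.getD (bfsPar.getD i (0, 0)).2 0) (bfsDep.getD i 0))

set_option maxRecDepth 100000 in
theorem bfs_ok : bfsOK = true := by decide +kernel

/-- **induction along the orbit**: a property of the lines that holds for the lines 24, 77, 165, 202 and is stable
under the four generating permutations holds for all lines. -/
theorem lines_induction (P : Fin 315 → Prop) (h24 : P 24) (h77 : P 77) (h165 : P 165) (h202 : P 202)
    (s24 : ∀ j, P j → P (toPerm 315 g24 j)) (s77 : ∀ j, P j → P (toPerm 315 g77 j))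
    (s165 : ∀ j, P j → P (toPerm 315 g165 j)) (s202 : ∀ j, P j → P (toPerm 315 g202 j)) : ∀ i, P i := by
  have key : ∀ d : ℕ, ∀ i : Fin 315, bfsDep.getD i.1 0 = d → P i := by
    intro d
    induction d using Nat.strong_induction_on with
    | _ d ih =>
      intro i hd
      have hok := bfs_ok
      rw [bfsOK, List.all_eq_true] at hok
      have hi := hok i.1 (List.mem_range.2 i.2)
      rw [Bool.or_eq_true] at hi
      rcases hi with hi | hi
      · rw [Bool.and_eq_true] at hi
        have h2 := hi.2
        simp only [Bool.or_eq_true] at h2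
        rcases h2 with ((h2 | h2) | h2) | h2
        · have : i = 24 := Fin.ext (Nat.eq_of_beq_eq_true h2)
          rw [this]; exact h24
        · have : i = 77 := Fin.ext (Nat.eq_of_beq_eq_true h2)
          rw [this]; exact h77
        · have : i = 165 := Fin.ext (Nat.eq_of_beq_eq_true h2)
          rw [this]; exact h165
        · have : i = 202 := Fin.ext (Nat.eq_of_beq_eq_true h2)
          rw [this]; exact h202
      · simp only [Bool.and_eq_true, decide_eq_true_eq] at hi
        obtain ⟨⟨⟨hj, hk⟩, he⟩, hlt⟩ := hi
        have he' := Nat.eq_of_beq_eq_true he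
        have hlt' : bfsDep.getD (bfsPar.getD i.1 (0, 0)).2 0 < bfsDep.getD i.1 0 := by
          simpa [Nat.blt_eq] using hlt
        have hPj : P ⟨(bfsPar.getD i.1 (0, 0)).2, hj⟩ := ih _ (by rw [← hd]; exact hlt') _ rfl
        generalize (bfsPar.getD i.1 (0, 0)).1 = k at hk he'
        generalize hjj : (bfsPar.getD i.1 (0, 0)).2 = j at hj he' hPj
        interval_cases k
        · have : toPerm 315 g24 ⟨j, hj⟩ = i := Fin.ext (by rw [toPerm_apply valid_g24]; exact he')
          rw [← this]; exact s24 _ hPj
        · have : toPerm 315 g77 ⟨j, hj⟩ = i := Fin.ext (by rw [toPerm_apply valid_g77]; exact he')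
          rw [← this]; exact s77 _ hPj
        · have : toPerm 315 g165 ⟨j, hj⟩ = i := Fin.ext (by rw [toPerm_apply valid_g165]; exact he')
          rw [← this]; exact s165 _ hPj
        · have : toPerm 315 g202 ⟨j, hj⟩ = i := Fin.ext (by rw [toPerm_apply valid_g202]; exact he')
          rw [← this]; exact s202 _ hPj
  intro i
  exact key _ i rfl

end Cfsg.Agent.J2
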