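import Mathlib
import Cfsg.Agent.Lib.Lead.J2.IcoLam

set_option autoImplicit false

namespace Cfsg.Agent.J2

/-- representatives of the 315 lines of minimal vectors of the icosian Leech lattice -/
def linesL : List V3 := [
  ⟨⟨0, 0, 0, 0, 0, 0, 0, 0⟩, ⟨0, 0, 0, 0, 0, 0, 0, 0⟩, ⟨0, -2, 2, -2, 2, 0, 0, 0⟩⟩,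
  ⟨⟨0, 0, 0, 0, 0, 0, 0, 0⟩, ⟨1, -2, 1, 0, 1, 0, 1, 0⟩, ⟨1, -2, 1, 0, 1, 0, 1, 0⟩⟩,
  ⟨⟨0, 0, 0, 0, 0, 0, 0, 0⟩, ⟨1, -2, 1, 0, 1, 0, 1, 0⟩, ⟨1, 0, -1, 2, -1, 0, 1, 0⟩⟩,
  ⟨⟨0, 0, 0, 0, 0, 0, 0, 0⟩, ⟨1, -2, 1, 0, 1, 0, 1, 0⟩, ⟨-1, 0, 1, -2, 1, 0, -1, 0⟩⟩,
  ⟨⟨0, 0, 0, 0, 0, 0, 0, 0⟩, ⟨1, -2, 1, 0, 1, 0, 1, 0⟩, ⟨-1, 2, -1, 0, -1, 0, -1, 0⟩⟩,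
  ⟨⟨0, 0, 0, 0, 0, 0, 0, 0⟩, ⟨1, -2, 1, 0, 1, 0, 1, 0⟩, ⟨-1, 0, -1, 0, 1, -2, 1, 0⟩⟩,
  ⟨⟨0, 0, 0, 0, 0, 0, 0, 0⟩, ⟨1, -2, 1, 0, 1, 0, 1, 0⟩, ⟨1, 0, -1, 0, 1, 0, -1, 2⟩⟩,
  ⟨⟨0, 0, 0, 0, 0, 0, 0, 0⟩, ⟨1, -2, 1, 0, 1, 0, 1, 0⟩, ⟨-1, 0, 1, 0, -1, 0, 1, -2⟩⟩,
  ⟨⟨0, 0, 0, 0, 0, 0, 0, 0⟩, ⟨1, -2, 1, 0, 1, 0, 1, 0⟩, ⟨1, 0, 1, 0, -1, 2, -1, 0⟩⟩,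
  ⟨⟨0, 0, 0, 0, 0, 0, 0, 0⟩, ⟨0, -2, 2, -2, 2, 0, 0, 0⟩, ⟨0, 0, 0, 0, 0, 0, 0, 0⟩⟩,
  ⟨⟨0, 0, -1, 0, 1, -1, 0, 1⟩, ⟨0, 0, -1, 0, 1, -1, 0, 1⟩, ⟨2, 0, 1, 0, 1, -1, 0, 1⟩⟩,
  ⟨⟨1, 0, 0, 0, 0, 1, -1, 1⟩, ⟨1, 0, 0, 0, 0, 1, -1, 1⟩, ⟨2, 0, 1, 0, 1, -1, 0, 1⟩⟩,
  ⟨⟨-1, 0, 0, 0, 0, -1, 1, -1⟩, ⟨-1, 0, 0, 0, 0, -1, 1, -1⟩, ⟨2, 0, 1, 0, 1, -1, 0, 1⟩⟩,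
  ⟨⟨0, 0, 1, 0, -1, 1, 0, -1⟩, ⟨0, 0, 1, 0, -1, 1, 0, -1⟩, ⟨2, 0, 1, 0, 1, -1, 0, 1⟩⟩,
  ⟨⟨1, -1, 0, 1, 0, 0, 1, 0⟩, ⟨1, -1, 0, 1, 0, 0, 1, 0⟩, ⟨2, 0, 1, 0, 1, -1, 0, 1⟩⟩,
  ⟨⟨0, -1, 1, -1, 1, 0, 0, 0⟩, ⟨0, -1, 1, -1, 1, 0, 0, 0⟩, ⟨2, 0, 1, 0, 1, -1, 0, 1⟩⟩,
  ⟨⟨0, 1, -1, 1, -1, 0, 0, 0⟩, ⟨0, 1, -1, 1, -1, 0, 0, 0⟩, ⟨2, 0, 1, 0, 1, -1, 0, 1⟩⟩,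
  ⟨⟨-1, 1, 0, -1, 0, 0, -1, 0⟩, ⟨-1, 1, 0, -1, 0, 0, -1, 0⟩, ⟨2, 0, 1, 0, 1, -1, 0, 1⟩⟩,
  ⟨⟨0, 0, -1, 0, -1, 1, 0, -1⟩, ⟨1, 0, 0, 0, 0, -1, 1, -1⟩, ⟨2, 0, 1, 0, -1, 1, 0, -1⟩⟩,
  ⟨⟨1, 0, 0, 0, 0, -1, 1, -1⟩, ⟨0, 0, 1, 0, 1, -1, 0, 1⟩, ⟨2, 0, 1, 0, -1, 1, 0, -1⟩⟩,
  ⟨⟨-1, 0, 0, 0, 0, 1, -1, 1⟩, ⟨0, 0, -1, 0, -1, 1, 0, -1⟩, ⟨2, 0, 1, 0, -1, 1, 0, -1⟩⟩,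
  ⟨⟨0, 0, 1, 0, 1, -1, 0, 1⟩, ⟨-1, 0, 0, 0, 0, 1, -1, 1⟩, ⟨2, 0, 1, 0, -1, 1, 0, -1⟩⟩,
  ⟨⟨1, -1, 0, 1, 0, 0, -1, 0⟩, ⟨0, -1, 1, -1, -1, 0, 0, 0⟩, ⟨2, 0, 1, 0, -1, 1, 0, -1⟩⟩,
  ⟨⟨0, -1, 1, -1, -1, 0, 0, 0⟩, ⟨-1, 1, 0, -1, 0, 0, 1, 0⟩, ⟨2, 0, 1, 0, -1, 1, 0, -1⟩⟩,
  ⟨⟨0, 1, -1, 1, 1, 0, 0, 0⟩, ⟨1, -1, 0, 1, 0, 0, -1, 0⟩, ⟨2, 0, 1, 0, -1, 1, 0, -1⟩⟩,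
  ⟨⟨-1, 1, 0, -1, 0, 0, 1, 0⟩, ⟨0, 1, -1, 1, 1, 0, 0, 0⟩, ⟨2, 0, 1, 0, -1, 1, 0, -1⟩⟩,
  ⟨⟨0, 0, -1, 0, -1, 1, 0, -1⟩, ⟨-1, 0, 0, 0, 0, 1, -1, 1⟩, ⟨2, 0, 1, 0, -1, 1, 0, -1⟩⟩,
  ⟨⟨1, 0, 0, 0, 0, -1, 1, -1⟩, ⟨0, 0, -1, 0, -1, 1, 0, -1⟩, ⟨2, 0, 1, 0, -1, 1, 0, -1⟩⟩,
  ⟨⟨-1, 0, 0, 0, 0, 1, -1, 1⟩, ⟨0, 0, 1, 0, 1, -1, 0, 1⟩, ⟨2, 0, 1, 0, -1, 1, 0, -1⟩⟩,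
  ⟨⟨0, 0, 1, 0, 1, -1, 0, 1⟩, ⟨1, 0, 0, 0, 0, -1, 1, -1⟩, ⟨2, 0, 1, 0, -1, 1, 0, -1⟩⟩,
  ⟨⟨1, -1, 0, 1, 0, 0, -1, 0⟩, ⟨0, 1, -1, 1, 1, 0, 0, 0⟩, ⟨2, 0, 1, 0, -1, 1, 0, -1⟩⟩,
  ⟨⟨0, -1, 1, -1, -1, 0, 0, 0⟩, ⟨1, -1, 0, 1, 0, 0, -1, 0⟩, ⟨2, 0, 1, 0, -1, 1, 0, -1⟩⟩,
  ⟨⟨0, 1, -1, 1, 1, 0, 0, 0⟩, ⟨-1, 1, 0, -1, 0, 0, 1, 0⟩, ⟨2, 0, 1, 0, -1, 1, 0, -1⟩⟩,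
  ⟨⟨-1, 1, 0, -1, 0, 0, 1, 0⟩, ⟨0, -1, 1, -1, -1, 0, 0, 0⟩, ⟨2, 0, 1, 0, -1, 1, 0, -1⟩⟩,
  ⟨⟨0, 0, -1, 0, 1, -1, 0, 1⟩, ⟨0, 0, 1, 0, -1, 1, 0, -1⟩, ⟨2, 0, 1, 0, 1, -1, 0, 1⟩⟩,
  ⟨⟨1, 0, 0, 0, 0, 1, -1, 1⟩, ⟨-1, 0, 0, 0, 0, -1, 1, -1⟩, ⟨2, 0, 1, 0, 1, -1, 0, 1⟩⟩,
  ⟨⟨-1, 0, 0, 0, 0, -1, 1, -1⟩, ⟨1, 0, 0, 0, 0, 1, -1, 1⟩, ⟨2, 0, 1, 0, 1, -1, 0, 1⟩⟩,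
  ⟨⟨0, 0, 1, 0, -1, 1, 0, -1⟩, ⟨0, 0, -1, 0, 1, -1, 0, 1⟩, ⟨2, 0, 1, 0, 1, -1, 0, 1⟩⟩,
  ⟨⟨1, -1, 0, 1, 0, 0, 1, 0⟩, ⟨-1, 1, 0, -1, 0, 0, -1, 0⟩, ⟨2, 0, 1, 0, 1, -1, 0, 1⟩⟩,
  ⟨⟨0, -1, 1, -1, 1, 0, 0, 0⟩, ⟨0, 1, -1, 1, -1, 0, 0, 0⟩, ⟨2, 0, 1, 0, 1, -1, 0, 1⟩⟩,
  ⟨⟨0, 1, -1, 1, -1, 0, 0, 0⟩, ⟨0, -1, 1, -1, 1, 0, 0, 0⟩, ⟨2, 0, 1, 0, 1, -1, 0, 1⟩⟩,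
  ⟨⟨-1, 1, 0, -1, 0, 0, -1, 0⟩, ⟨1, -1, 0, 1, 0, 0, 1, 0⟩, ⟨2, 0, 1, 0, 1, -1, 0, 1⟩⟩,
  ⟨⟨0, 0, -1, 0, -1, 1, 0, 1⟩, ⟨1, -1, 0, -1, 0, 0, -1, 0⟩, ⟨2, 0, 1, 0, -1, 1, 0, 1⟩⟩,
  ⟨⟨1, 0, 0, 0, 0, 1, 1, -1⟩, ⟨0, -1, -1, 1, 1, 0, 0, 0⟩, ⟨2, 0, 1, 0, -1, 1, 0, 1⟩⟩,
  ⟨⟨-1, 0, 0, 0, 0, -1, -1, 1⟩, ⟨0, 1, 1, -1, -1, 0, 0, 0⟩, ⟨2, 0, 1, 0, -1, 1, 0, 1⟩⟩,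
  ⟨⟨0, 0, 1, 0, 1, -1, 0, -1⟩, ⟨-1, 1, 0, 1, 0, 0, 1, 0⟩, ⟨2, 0, 1, 0, -1, 1, 0, 1⟩⟩,
  ⟨⟨0, 1, 1, -1, -1, 0, 0, 0⟩, ⟨1, 0, 0, 0, 0, 1, 1, -1⟩, ⟨2, 0, 1, 0, -1, 1, 0, 1⟩⟩,
  ⟨⟨1, -1, 0, -1, 0, 0, -1, 0⟩, ⟨0, 0, 1, 0, 1, -1, 0, -1⟩, ⟨2, 0, 1, 0, -1, 1, 0, 1⟩⟩,
  ⟨⟨-1, 1, 0, 1, 0, 0, 1, 0⟩, ⟨0, 0, -1, 0, -1, 1, 0, 1⟩, ⟨2, 0, 1, 0, -1, 1, 0, 1⟩⟩,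
  ⟨⟨0, -1, -1, 1, 1, 0, 0, 0⟩, ⟨-1, 0, 0, 0, 0, -1, -1, 1⟩, ⟨2, 0, 1, 0, -1, 1, 0, 1⟩⟩,
  ⟨⟨0, 0, -1, 0, 1, -1, 0, -1⟩, ⟨0, 1, 1, -1, 1, 0, 0, 0⟩, ⟨2, 0, 1, 0, 1, -1, 0, -1⟩⟩,
  ⟨⟨1, 0, 0, 0, 0, -1, -1, 1⟩, ⟨1, -1, 0, -1, 0, 0, 1, 0⟩, ⟨2, 0, 1, 0, 1, -1, 0, -1⟩⟩,
  ⟨⟨-1, 0, 0, 0, 0, 1, 1, -1⟩, ⟨-1, 1, 0, 1, 0, 0, -1, 0⟩, ⟨2, 0, 1, 0, 1, -1, 0, -1⟩⟩,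
  ⟨⟨0, 0, 1, 0, -1, 1, 0, 1⟩, ⟨0, -1, -1, 1, -1, 0, 0, 0⟩, ⟨2, 0, 1, 0, 1, -1, 0, -1⟩⟩,
  ⟨⟨0, 1, 1, -1, 1, 0, 0, 0⟩, ⟨0, 0, 1, 0, -1, 1, 0, 1⟩, ⟨2, 0, 1, 0, 1, -1, 0, -1⟩⟩,
  ⟨⟨1, -1, 0, -1, 0, 0, 1, 0⟩, ⟨-1, 0, 0, 0, 0, 1, 1, -1⟩, ⟨2, 0, 1, 0, 1, -1, 0, -1⟩⟩,
  ⟨⟨-1, 1, 0, 1, 0, 0, -1, 0⟩, ⟨1, 0, 0, 0, 0, -1, -1, 1⟩, ⟨2, 0, 1, 0, 1, -1, 0, -1⟩⟩,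
  ⟨⟨0, -1, -1, 1, -1, 0, 0, 0⟩, ⟨0, 0, -1, 0, 1, -1, 0, -1⟩, ⟨2, 0, 1, 0, 1, -1, 0, -1⟩⟩,
  ⟨⟨0, 0, -1, 0, 1, -1, 0, -1⟩, ⟨0, -1, -1, 1, -1, 0, 0, 0⟩, ⟨2, 0, 1, 0, 1, -1, 0, -1⟩⟩,
  ⟨⟨1, 0, 0, 0, 0, -1, -1, 1⟩, ⟨-1, 1, 0, 1, 0, 0, -1, 0⟩, ⟨2, 0, 1, 0, 1, -1, 0, -1⟩⟩,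
  ⟨⟨-1, 0, 0, 0, 0, 1, 1, -1⟩, ⟨1, -1, 0, -1, 0, 0, 1, 0⟩, ⟨2, 0, 1, 0, 1, -1, 0, -1⟩⟩,
  ⟨⟨0, 0, 1, 0, -1, 1, 0, 1⟩, ⟨0, 1, 1, -1, 1, 0, 0, 0⟩, ⟨2, 0, 1, 0, 1, -1, 0, -1⟩⟩,
  ⟨⟨0, 1, 1, -1, 1, 0, 0, 0⟩, ⟨0, 0, -1, 0, 1, -1, 0, -1⟩, ⟨2, 0, 1, 0, 1, -1, 0, -1⟩⟩,
  ⟨⟨1, -1, 0, -1, 0, 0, 1, 0⟩, ⟨1, 0, 0, 0, 0, -1, -1, 1⟩, ⟨2, 0, 1, 0, 1, -1, 0, -1⟩⟩,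
  ⟨⟨-1, 1, 0, 1, 0, 0, -1, 0⟩, ⟨-1, 0, 0, 0, 0, 1, 1, -1⟩, ⟨2, 0, 1, 0, 1, -1, 0, -1⟩⟩,
  ⟨⟨0, -1, -1, 1, -1, 0, 0, 0⟩, ⟨0, 0, 1, 0, -1, 1, 0, 1⟩, ⟨2, 0, 1, 0, 1, -1, 0, -1⟩⟩,
  ⟨⟨0, 0, -1, 0, -1, 1, 0, 1⟩, ⟨-1, 1, 0, 1, 0, 0, 1, 0⟩, ⟨2, 0, 1, 0, -1, 1, 0, 1⟩⟩,
  ⟨⟨1, 0, 0, 0, 0, 1, 1, -1⟩, ⟨0, 1, 1, -1, -1, 0, 0, 0⟩, ⟨2, 0, 1, 0, -1, 1, 0, 1⟩⟩,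
  ⟨⟨-1, 0, 0, 0, 0, -1, -1, 1⟩, ⟨0, -1, -1, 1, 1, 0, 0, 0⟩, ⟨2, 0, 1, 0, -1, 1, 0, 1⟩⟩,
  ⟨⟨0, 0, 1, 0, 1, -1, 0, -1⟩, ⟨1, -1, 0, -1, 0, 0, -1, 0⟩, ⟨2, 0, 1, 0, -1, 1, 0, 1⟩⟩,
  ⟨⟨0, 1, 1, -1, -1, 0, 0, 0⟩, ⟨-1, 0, 0, 0, 0, -1, -1, 1⟩, ⟨2, 0, 1, 0, -1, 1, 0, 1⟩⟩,
  ⟨⟨1, -1, 0, -1, 0, 0, -1, 0⟩, ⟨0, 0, -1, 0, -1, 1, 0, 1⟩, ⟨2, 0, 1, 0, -1, 1, 0, 1⟩⟩,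
  ⟨⟨-1, 1, 0, 1, 0, 0, 1, 0⟩, ⟨0, 0, 1, 0, 1, -1, 0, -1⟩, ⟨2, 0, 1, 0, -1, 1, 0, 1⟩⟩,
  ⟨⟨0, -1, -1, 1, 1, 0, 0, 0⟩, ⟨1, 0, 0, 0, 0, 1, 1, -1⟩, ⟨2, 0, 1, 0, -1, 1, 0, 1⟩⟩,
  ⟨⟨0, 0, -1, 0, -1, 1, 0, -1⟩, ⟨2, 0, 1, 0, -1, 1, 0, -1⟩, ⟨1, 0, 0, 0, 0, -1, 1, -1⟩⟩,
  ⟨⟨0, 0, -1, 0, -1, 1, 0, -1⟩, ⟨2, 0, 1, 0, -1, 1, 0, -1⟩, ⟨-1, 0, 0, 0, 0, 1, -1, 1⟩⟩,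
  ⟨⟨0, 0, -1, 0, -1, 1, 0, 1⟩, ⟨2, 0, 1, 0, -1, 1, 0, 1⟩, ⟨1, -1, 0, -1, 0, 0, -1, 0⟩⟩,
  ⟨⟨0, 0, -1, 0, -1, 1, 0, 1⟩, ⟨2, 0, 1, 0, -1, 1, 0, 1⟩, ⟨-1, 1, 0, 1, 0, 0, 1, 0⟩⟩,
  ⟨⟨0, 0, -1, 0, 1, -1, 0, -1⟩, ⟨2, 0, 1, 0, 1, -1, 0, -1⟩, ⟨0, 1, 1, -1, 1, 0, 0, 0⟩⟩,
  ⟨⟨0, 0, -1, 0, 1, -1, 0, -1⟩, ⟨2, 0, 1, 0, 1, -1, 0, -1⟩, ⟨0, -1, -1, 1, -1, 0, 0, 0⟩⟩,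
  ⟨⟨0, 0, -1, 0, 1, -1, 0, 1⟩, ⟨2, 0, 1, 0, 1, -1, 0, 1⟩, ⟨0, 0, -1, 0, 1, -1, 0, 1⟩⟩,
  ⟨⟨0, 0, -1, 0, 1, -1, 0, 1⟩, ⟨2, 0, 1, 0, 1, -1, 0, 1⟩, ⟨0, 0, 1, 0, -1, 1, 0, -1⟩⟩,
  ⟨⟨1, 0, 0, 0, 0, -1, -1, 1⟩, ⟨2, 0, 1, 0, 1, -1, 0, -1⟩, ⟨1, -1, 0, -1, 0, 0, 1, 0⟩⟩,
  ⟨⟨1, 0, 0, 0, 0, -1, -1, 1⟩, ⟨2, 0, 1, 0, 1, -1, 0, -1⟩, ⟨-1, 1, 0, 1, 0, 0, -1, 0⟩⟩,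
  ⟨⟨1, 0, 0, 0, 0, 1, -1, 1⟩, ⟨2, 0, 1, 0, 1, -1, 0, 1⟩, ⟨1, 0, 0, 0, 0, 1, -1, 1⟩⟩,
  ⟨⟨1, 0, 0, 0, 0, 1, -1, 1⟩, ⟨2, 0, 1, 0, 1, -1, 0, 1⟩, ⟨-1, 0, 0, 0, 0, -1, 1, -1⟩⟩,
  ⟨⟨1, 0, 0, 0, 0, -1, 1, -1⟩, ⟨2, 0, 1, 0, -1, 1, 0, -1⟩, ⟨0, 0, 1, 0, 1, -1, 0, 1⟩⟩,
  ⟨⟨1, 0, 0, 0, 0, -1, 1, -1⟩, ⟨2, 0, 1, 0, -1, 1, 0, -1⟩, ⟨0, 0, -1, 0, -1, 1, 0, -1⟩⟩,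
  ⟨⟨1, 0, 0, 0, 0, 1, 1, -1⟩, ⟨2, 0, 1, 0, -1, 1, 0, 1⟩, ⟨0, -1, -1, 1, 1, 0, 0, 0⟩⟩,
  ⟨⟨1, 0, 0, 0, 0, 1, 1, -1⟩, ⟨2, 0, 1, 0, -1, 1, 0, 1⟩, ⟨0, 1, 1, -1, -1, 0, 0, 0⟩⟩,
  ⟨⟨-1, 0, 0, 0, 0, -1, -1, 1⟩, ⟨2, 0, 1, 0, -1, 1, 0, 1⟩, ⟨0, 1, 1, -1, -1, 0, 0, 0⟩⟩,
  ⟨⟨-1, 0, 0, 0, 0, -1, -1, 1⟩, ⟨2, 0, 1, 0, -1, 1, 0, 1⟩, ⟨0, -1, -1, 1, 1, 0, 0, 0⟩⟩,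
  ⟨⟨-1, 0, 0, 0, 0, 1, -1, 1⟩, ⟨2, 0, 1, 0, -1, 1, 0, -1⟩, ⟨0, 0, -1, 0, -1, 1, 0, -1⟩⟩,
  ⟨⟨-1, 0, 0, 0, 0, 1, -1, 1⟩, ⟨2, 0, 1, 0, -1, 1, 0, -1⟩, ⟨0, 0, 1, 0, 1, -1, 0, 1⟩⟩,
  ⟨⟨-1, 0, 0, 0, 0, -1, 1, -1⟩, ⟨2, 0, 1, 0, 1, -1, 0, 1⟩, ⟨-1, 0, 0, 0, 0, -1, 1, -1⟩⟩,
  ⟨⟨-1, 0, 0, 0, 0, -1, 1, -1⟩, ⟨2, 0, 1, 0, 1, -1, 0, 1⟩, ⟨1, 0, 0, 0, 0, 1, -1, 1⟩⟩,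
  ⟨⟨-1, 0, 0, 0, 0, 1, 1, -1⟩, ⟨2, 0, 1, 0, 1, -1, 0, -1⟩, ⟨-1, 1, 0, 1, 0, 0, -1, 0⟩⟩,
  ⟨⟨-1, 0, 0, 0, 0, 1, 1, -1⟩, ⟨2, 0, 1, 0, 1, -1, 0, -1⟩, ⟨1, -1, 0, -1, 0, 0, 1, 0⟩⟩,
  ⟨⟨0, 0, 1, 0, -1, 1, 0, -1⟩, ⟨2, 0, 1, 0, 1, -1, 0, 1⟩, ⟨0, 0, 1, 0, -1, 1, 0, -1⟩⟩,
  ⟨⟨0, 0, 1, 0, -1, 1, 0, -1⟩, ⟨2, 0, 1, 0, 1, -1, 0, 1⟩, ⟨0, 0, -1, 0, 1, -1, 0, 1⟩⟩,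
  ⟨⟨0, 0, 1, 0, -1, 1, 0, 1⟩, ⟨2, 0, 1, 0, 1, -1, 0, -1⟩, ⟨0, -1, -1, 1, -1, 0, 0, 0⟩⟩,
  ⟨⟨0, 0, 1, 0, -1, 1, 0, 1⟩, ⟨2, 0, 1, 0, 1, -1, 0, -1⟩, ⟨0, 1, 1, -1, 1, 0, 0, 0⟩⟩,
  ⟨⟨0, 0, 1, 0, 1, -1, 0, -1⟩, ⟨2, 0, 1, 0, -1, 1, 0, 1⟩, ⟨-1, 1, 0, 1, 0, 0, 1, 0⟩⟩,
  ⟨⟨0, 0, 1, 0, 1, -1, 0, -1⟩, ⟨2, 0, 1, 0, -1, 1, 0, 1⟩, ⟨1, -1, 0, -1, 0, 0, -1, 0⟩⟩,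
  ⟨⟨0, 0, 1, 0, 1, -1, 0, 1⟩, ⟨2, 0, 1, 0, -1, 1, 0, -1⟩, ⟨-1, 0, 0, 0, 0, 1, -1, 1⟩⟩,
  ⟨⟨0, 0, 1, 0, 1, -1, 0, 1⟩, ⟨2, 0, 1, 0, -1, 1, 0, -1⟩, ⟨1, 0, 0, 0, 0, -1, 1, -1⟩⟩,
  ⟨⟨1, -1, 0, 1, 0, 0, 1, 0⟩, ⟨2, 0, 1, 0, 1, -1, 0, 1⟩, ⟨1, -1, 0, 1, 0, 0, 1, 0⟩⟩,
  ⟨⟨1, -1, 0, 1, 0, 0, 1, 0⟩, ⟨2, 0, 1, 0, 1, -1, 0, 1⟩, ⟨-1, 1, 0, -1, 0, 0, -1, 0⟩⟩,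
  ⟨⟨1, -1, 0, 1, 0, 0, -1, 0⟩, ⟨2, 0, 1, 0, -1, 1, 0, -1⟩, ⟨0, -1, 1, -1, -1, 0, 0, 0⟩⟩,
  ⟨⟨1, -1, 0, 1, 0, 0, -1, 0⟩, ⟨2, 0, 1, 0, -1, 1, 0, -1⟩, ⟨0, 1, -1, 1, 1, 0, 0, 0⟩⟩,
  ⟨⟨0, 1, 1, -1, -1, 0, 0, 0⟩, ⟨2, 0, 1, 0, -1, 1, 0, 1⟩, ⟨1, 0, 0, 0, 0, 1, 1, -1⟩⟩,
  ⟨⟨0, 1, 1, -1, -1, 0, 0, 0⟩, ⟨2, 0, 1, 0, -1, 1, 0, 1⟩, ⟨-1, 0, 0, 0, 0, -1, -1, 1⟩⟩,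
  ⟨⟨0, 1, 1, -1, 1, 0, 0, 0⟩, ⟨2, 0, 1, 0, 1, -1, 0, -1⟩, ⟨0, 0, 1, 0, -1, 1, 0, 1⟩⟩,
  ⟨⟨0, 1, 1, -1, 1, 0, 0, 0⟩, ⟨2, 0, 1, 0, 1, -1, 0, -1⟩, ⟨0, 0, -1, 0, 1, -1, 0, -1⟩⟩,
  ⟨⟨1, -1, 0, -1, 0, 0, 1, 0⟩, ⟨2, 0, 1, 0, 1, -1, 0, -1⟩, ⟨-1, 0, 0, 0, 0, 1, 1, -1⟩⟩,
  ⟨⟨1, -1, 0, -1, 0, 0, 1, 0⟩, ⟨2, 0, 1, 0, 1, -1, 0, -1⟩, ⟨1, 0, 0, 0, 0, -1, -1, 1⟩⟩,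
  ⟨⟨1, -1, 0, -1, 0, 0, -1, 0⟩, ⟨2, 0, 1, 0, -1, 1, 0, 1⟩, ⟨0, 0, 1, 0, 1, -1, 0, -1⟩⟩,
  ⟨⟨1, -1, 0, -1, 0, 0, -1, 0⟩, ⟨2, 0, 1, 0, -1, 1, 0, 1⟩, ⟨0, 0, -1, 0, -1, 1, 0, 1⟩⟩,
  ⟨⟨0, -1, 1, -1, -1, 0, 0, 0⟩, ⟨2, 0, 1, 0, -1, 1, 0, -1⟩, ⟨-1, 1, 0, -1, 0, 0, 1, 0⟩⟩,
  ⟨⟨0, -1, 1, -1, -1, 0, 0, 0⟩, ⟨2, 0, 1, 0, -1, 1, 0, -1⟩, ⟨1, -1, 0, 1, 0, 0, -1, 0⟩⟩,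
  ⟨⟨0, -1, 1, -1, 1, 0, 0, 0⟩, ⟨2, 0, 1, 0, 1, -1, 0, 1⟩, ⟨0, -1, 1, -1, 1, 0, 0, 0⟩⟩,
  ⟨⟨0, -1, 1, -1, 1, 0, 0, 0⟩, ⟨2, 0, 1, 0, 1, -1, 0, 1⟩, ⟨0, 1, -1, 1, -1, 0, 0, 0⟩⟩,
  ⟨⟨0, 1, -1, 1, -1, 0, 0, 0⟩, ⟨2, 0, 1, 0, 1, -1, 0, 1⟩, ⟨0, 1, -1, 1, -1, 0, 0, 0⟩⟩,
  ⟨⟨0, 1, -1, 1, -1, 0, 0, 0⟩, ⟨2, 0, 1, 0, 1, -1, 0, 1⟩, ⟨0, -1, 1, -1, 1, 0, 0, 0⟩⟩,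
  ⟨⟨0, 1, -1, 1, 1, 0, 0, 0⟩, ⟨2, 0, 1, 0, -1, 1, 0, -1⟩, ⟨1, -1, 0, 1, 0, 0, -1, 0⟩⟩,
  ⟨⟨0, 1, -1, 1, 1, 0, 0, 0⟩, ⟨2, 0, 1, 0, -1, 1, 0, -1⟩, ⟨-1, 1, 0, -1, 0, 0, 1, 0⟩⟩,
  ⟨⟨-1, 1, 0, 1, 0, 0, 1, 0⟩, ⟨2, 0, 1, 0, -1, 1, 0, 1⟩, ⟨0, 0, -1, 0, -1, 1, 0, 1⟩⟩,
  ⟨⟨-1, 1, 0, 1, 0, 0, 1, 0⟩, ⟨2, 0, 1, 0, -1, 1, 0, 1⟩, ⟨0, 0, 1, 0, 1, -1, 0, -1⟩⟩,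
  ⟨⟨-1, 1, 0, 1, 0, 0, -1, 0⟩, ⟨2, 0, 1, 0, 1, -1, 0, -1⟩, ⟨1, 0, 0, 0, 0, -1, -1, 1⟩⟩,
  ⟨⟨-1, 1, 0, 1, 0, 0, -1, 0⟩, ⟨2, 0, 1, 0, 1, -1, 0, -1⟩, ⟨-1, 0, 0, 0, 0, 1, 1, -1⟩⟩,
  ⟨⟨0, -1, -1, 1, -1, 0, 0, 0⟩, ⟨2, 0, 1, 0, 1, -1, 0, -1⟩, ⟨0, 0, -1, 0, 1, -1, 0, -1⟩⟩,
  ⟨⟨0, -1, -1, 1, -1, 0, 0, 0⟩, ⟨2, 0, 1, 0, 1, -1, 0, -1⟩, ⟨0, 0, 1, 0, -1, 1, 0, 1⟩⟩,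
  ⟨⟨0, -1, -1, 1, 1, 0, 0, 0⟩, ⟨2, 0, 1, 0, -1, 1, 0, 1⟩, ⟨-1, 0, 0, 0, 0, -1, -1, 1⟩⟩,
  ⟨⟨0, -1, -1, 1, 1, 0, 0, 0⟩, ⟨2, 0, 1, 0, -1, 1, 0, 1⟩, ⟨1, 0, 0, 0, 0, 1, 1, -1⟩⟩,
  ⟨⟨-1, 1, 0, -1, 0, 0, 1, 0⟩, ⟨2, 0, 1, 0, -1, 1, 0, -1⟩, ⟨0, 1, -1, 1, 1, 0, 0, 0⟩⟩,
  ⟨⟨-1, 1, 0, -1, 0, 0, 1, 0⟩, ⟨2, 0, 1, 0, -1, 1, 0, -1⟩, ⟨0, -1, 1, -1, -1, 0, 0, 0⟩⟩,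
  ⟨⟨-1, 1, 0, -1, 0, 0, -1, 0⟩, ⟨2, 0, 1, 0, 1, -1, 0, 1⟩, ⟨-1, 1, 0, -1, 0, 0, -1, 0⟩⟩,
  ⟨⟨-1, 1, 0, -1, 0, 0, -1, 0⟩, ⟨2, 0, 1, 0, 1, -1, 0, 1⟩, ⟨1, -1, 0, 1, 0, 0, 1, 0⟩⟩,
  ⟨⟨0, -1, -1, 0, 0, 0, 1, -1⟩, ⟨-1, 0, 0, -1, -1, -1, 0, 0⟩, ⟨2, -1, 1, 0, 0, 0, 1, -1⟩⟩,
  ⟨⟨0, 1, 1, 0, 0, 0, -1, 1⟩, ⟨1, 0, 0, 1, 1, 1, 0, 0⟩, ⟨2, -1, 1, 0, 0, 0, 1, -1⟩⟩,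
  ⟨⟨1, 0, 0, -1, 1, -1, 0, 0⟩, ⟨0, 1, -1, 0, 0, 0, 1, 1⟩, ⟨2, -1, 1, 0, 0, 0, 1, -1⟩⟩,
  ⟨⟨-1, 0, 0, 1, -1, 1, 0, 0⟩, ⟨0, -1, 1, 0, 0, 0, -1, -1⟩, ⟨2, -1, 1, 0, 0, 0, 1, -1⟩⟩,
  ⟨⟨0, 0, 1, -1, 0, 1, 1, 0⟩, ⟨-1, -1, 0, 0, 1, 0, 0, 1⟩, ⟨2, -1, 1, 0, 0, 0, 1, -1⟩⟩,
  ⟨⟨0, 0, -1, 1, 0, -1, -1, 0⟩, ⟨1, 1, 0, 0, -1, 0, 0, -1⟩, ⟨2, -1, 1, 0, 0, 0, 1, -1⟩⟩,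
  ⟨⟨1, -1, 0, 0, -1, 0, 0, 1⟩, ⟨0, 0, 1, 1, 0, -1, 1, 0⟩, ⟨2, -1, 1, 0, 0, 0, 1, -1⟩⟩,
  ⟨⟨-1, 1, 0, 0, 1, 0, 0, -1⟩, ⟨0, 0, -1, -1, 0, 1, -1, 0⟩, ⟨2, -1, 1, 0, 0, 0, 1, -1⟩⟩,
  ⟨⟨1, -1, 0, 0, -1, 0, 0, 1⟩, ⟨0, 0, -1, -1, 0, 1, -1, 0⟩, ⟨2, -1, 1, 0, 0, 0, 1, -1⟩⟩,
  ⟨⟨-1, 1, 0, 0, 1, 0, 0, -1⟩, ⟨0, 0, 1, 1, 0, -1, 1, 0⟩, ⟨2, -1, 1, 0, 0, 0, 1, -1⟩⟩,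
  ⟨⟨0, 0, 1, -1, 0, 1, 1, 0⟩, ⟨1, 1, 0, 0, -1, 0, 0, -1⟩, ⟨2, -1, 1, 0, 0, 0, 1, -1⟩⟩,
  ⟨⟨0, 0, -1, 1, 0, -1, -1, 0⟩, ⟨-1, -1, 0, 0, 1, 0, 0, 1⟩, ⟨2, -1, 1, 0, 0, 0, 1, -1⟩⟩,
  ⟨⟨1, 0, 0, -1, 1, -1, 0, 0⟩, ⟨0, -1, 1, 0, 0, 0, -1, -1⟩, ⟨2, -1, 1, 0, 0, 0, 1, -1⟩⟩,
  ⟨⟨-1, 0, 0, 1, -1, 1, 0, 0⟩, ⟨0, 1, -1, 0, 0, 0, 1, 1⟩, ⟨2, -1, 1, 0, 0, 0, 1, -1⟩⟩,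
  ⟨⟨0, -1, -1, 0, 0, 0, 1, -1⟩, ⟨1, 0, 0, 1, 1, 1, 0, 0⟩, ⟨2, -1, 1, 0, 0, 0, 1, -1⟩⟩,
  ⟨⟨0, 1, 1, 0, 0, 0, -1, 1⟩, ⟨-1, 0, 0, -1, -1, -1, 0, 0⟩, ⟨2, -1, 1, 0, 0, 0, 1, -1⟩⟩,
  ⟨⟨1, -1, 0, 0, -1, 0, 0, 1⟩, ⟨2, -1, 1, 0, 0, 0, 1, -1⟩, ⟨0, 0, 1, 1, 0, -1, 1, 0⟩⟩,
  ⟨⟨1, -1, 0, 0, -1, 0, 0, 1⟩, ⟨2, -1, 1, 0, 0, 0, 1, -1⟩, ⟨0, 0, -1, -1, 0, 1, -1, 0⟩⟩,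
  ⟨⟨0, -1, -1, 0, 0, 0, 1, -1⟩, ⟨2, -1, 1, 0, 0, 0, 1, -1⟩, ⟨-1, 0, 0, -1, -1, -1, 0, 0⟩⟩,
  ⟨⟨0, -1, -1, 0, 0, 0, 1, -1⟩, ⟨2, -1, 1, 0, 0, 0, 1, -1⟩, ⟨1, 0, 0, 1, 1, 1, 0, 0⟩⟩,
  ⟨⟨0, 0, 1, -1, 0, 1, 1, 0⟩, ⟨2, -1, 1, 0, 0, 0, 1, -1⟩, ⟨-1, -1, 0, 0, 1, 0, 0, 1⟩⟩,
  ⟨⟨0, 0, 1, -1, 0, 1, 1, 0⟩, ⟨2, -1, 1, 0, 0, 0, 1, -1⟩, ⟨1, 1, 0, 0, -1, 0, 0, -1⟩⟩,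
  ⟨⟨1, 0, 0, -1, 1, -1, 0, 0⟩, ⟨2, -1, 1, 0, 0, 0, 1, -1⟩, ⟨0, 1, -1, 0, 0, 0, 1, 1⟩⟩,
  ⟨⟨1, 0, 0, -1, 1, -1, 0, 0⟩, ⟨2, -1, 1, 0, 0, 0, 1, -1⟩, ⟨0, -1, 1, 0, 0, 0, -1, -1⟩⟩,
  ⟨⟨-1, 0, 0, 1, -1, 1, 0, 0⟩, ⟨2, -1, 1, 0, 0, 0, 1, -1⟩, ⟨0, -1, 1, 0, 0, 0, -1, -1⟩⟩,
  ⟨⟨-1, 0, 0, 1, -1, 1, 0, 0⟩, ⟨2, -1, 1, 0, 0, 0, 1, -1⟩, ⟨0, 1, -1, 0, 0, 0, 1, 1⟩⟩,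
  ⟨⟨0, 0, -1, 1, 0, -1, -1, 0⟩, ⟨2, -1, 1, 0, 0, 0, 1, -1⟩, ⟨1, 1, 0, 0, -1, 0, 0, -1⟩⟩,
  ⟨⟨0, 0, -1, 1, 0, -1, -1, 0⟩, ⟨2, -1, 1, 0, 0, 0, 1, -1⟩, ⟨-1, -1, 0, 0, 1, 0, 0, 1⟩⟩,
  ⟨⟨0, 1, 1, 0, 0, 0, -1, 1⟩, ⟨2, -1, 1, 0, 0, 0, 1, -1⟩, ⟨1, 0, 0, 1, 1, 1, 0, 0⟩⟩,
  ⟨⟨0, 1, 1, 0, 0, 0, -1, 1⟩, ⟨2, -1, 1, 0, 0, 0, 1, -1⟩, ⟨-1, 0, 0, -1, -1, -1, 0, 0⟩⟩,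
  ⟨⟨-1, 1, 0, 0, 1, 0, 0, -1⟩, ⟨2, -1, 1, 0, 0, 0, 1, -1⟩, ⟨0, 0, -1, -1, 0, 1, -1, 0⟩⟩,
  ⟨⟨-1, 1, 0, 0, 1, 0, 0, -1⟩, ⟨2, -1, 1, 0, 0, 0, 1, -1⟩, ⟨0, 0, 1, 1, 0, -1, 1, 0⟩⟩,
  ⟨⟨1, -2, 1, 0, 1, 0, 1, 0⟩, ⟨0, 0, 0, 0, 0, 0, 0, 0⟩, ⟨1, -2, 1, 0, 1, 0, 1, 0⟩⟩,
  ⟨⟨1, -2, 1, 0, 1, 0, 1, 0⟩, ⟨0, 0, 0, 0, 0, 0, 0, 0⟩, ⟨1, 0, -1, 2, -1, 0, 1, 0⟩⟩,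
  ⟨⟨1, -2, 1, 0, 1, 0, 1, 0⟩, ⟨0, 0, 0, 0, 0, 0, 0, 0⟩, ⟨-1, 0, 1, -2, 1, 0, -1, 0⟩⟩,
  ⟨⟨1, -2, 1, 0, 1, 0, 1, 0⟩, ⟨0, 0, 0, 0, 0, 0, 0, 0⟩, ⟨-1, 2, -1, 0, -1, 0, -1, 0⟩⟩,
  ⟨⟨1, -2, 1, 0, 1, 0, 1, 0⟩, ⟨0, 0, 0, 0, 0, 0, 0, 0⟩, ⟨-1, 0, -1, 0, 1, -2, 1, 0⟩⟩,
  ⟨⟨1, -2, 1, 0, 1, 0, 1, 0⟩, ⟨0, 0, 0, 0, 0, 0, 0, 0⟩, ⟨1, 0, -1, 0, 1, 0, -1, 2⟩⟩,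
  ⟨⟨1, -2, 1, 0, 1, 0, 1, 0⟩, ⟨0, 0, 0, 0, 0, 0, 0, 0⟩, ⟨-1, 0, 1, 0, -1, 0, 1, -2⟩⟩,
  ⟨⟨1, -2, 1, 0, 1, 0, 1, 0⟩, ⟨0, 0, 0, 0, 0, 0, 0, 0⟩, ⟨1, 0, 1, 0, -1, 2, -1, 0⟩⟩,
  ⟨⟨2, 0, 1, 0, -1, 1, 0, -1⟩, ⟨0, 0, -1, 0, -1, 1, 0, -1⟩, ⟨1, 0, 0, 0, 0, -1, 1, -1⟩⟩,
  ⟨⟨2, 0, 1, 0, -1, 1, 0, -1⟩, ⟨0, 0, -1, 0, -1, 1, 0, -1⟩, ⟨-1, 0, 0, 0, 0, 1, -1, 1⟩⟩,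
  ⟨⟨2, 0, 1, 0, -1, 1, 0, -1⟩, ⟨1, 0, 0, 0, 0, -1, 1, -1⟩, ⟨0, 0, -1, 0, -1, 1, 0, -1⟩⟩,
  ⟨⟨2, 0, 1, 0, -1, 1, 0, -1⟩, ⟨1, 0, 0, 0, 0, -1, 1, -1⟩, ⟨0, 0, 1, 0, 1, -1, 0, 1⟩⟩,
  ⟨⟨2, 0, 1, 0, -1, 1, 0, -1⟩, ⟨-1, 0, 0, 0, 0, 1, -1, 1⟩, ⟨0, 0, -1, 0, -1, 1, 0, -1⟩⟩,
  ⟨⟨2, 0, 1, 0, -1, 1, 0, -1⟩, ⟨-1, 0, 0, 0, 0, 1, -1, 1⟩, ⟨0, 0, 1, 0, 1, -1, 0, 1⟩⟩,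
  ⟨⟨2, 0, 1, 0, -1, 1, 0, -1⟩, ⟨0, 0, 1, 0, 1, -1, 0, 1⟩, ⟨1, 0, 0, 0, 0, -1, 1, -1⟩⟩,
  ⟨⟨2, 0, 1, 0, -1, 1, 0, -1⟩, ⟨0, 0, 1, 0, 1, -1, 0, 1⟩, ⟨-1, 0, 0, 0, 0, 1, -1, 1⟩⟩,
  ⟨⟨2, 0, 1, 0, -1, 1, 0, -1⟩, ⟨1, -1, 0, 1, 0, 0, -1, 0⟩, ⟨0, 1, -1, 1, 1, 0, 0, 0⟩⟩,
  ⟨⟨2, 0, 1, 0, -1, 1, 0, -1⟩, ⟨1, -1, 0, 1, 0, 0, -1, 0⟩, ⟨0, -1, 1, -1, -1, 0, 0, 0⟩⟩,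
  ⟨⟨2, 0, 1, 0, -1, 1, 0, -1⟩, ⟨0, 1, -1, 1, 1, 0, 0, 0⟩, ⟨1, -1, 0, 1, 0, 0, -1, 0⟩⟩,
  ⟨⟨2, 0, 1, 0, -1, 1, 0, -1⟩, ⟨0, 1, -1, 1, 1, 0, 0, 0⟩, ⟨-1, 1, 0, -1, 0, 0, 1, 0⟩⟩,
  ⟨⟨2, 0, 1, 0, -1, 1, 0, -1⟩, ⟨0, -1, 1, -1, -1, 0, 0, 0⟩, ⟨1, -1, 0, 1, 0, 0, -1, 0⟩⟩,
  ⟨⟨2, 0, 1, 0, -1, 1, 0, -1⟩, ⟨0, -1, 1, -1, -1, 0, 0, 0⟩, ⟨-1, 1, 0, -1, 0, 0, 1, 0⟩⟩,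
  ⟨⟨2, 0, 1, 0, -1, 1, 0, -1⟩, ⟨-1, 1, 0, -1, 0, 0, 1, 0⟩, ⟨0, 1, -1, 1, 1, 0, 0, 0⟩⟩,
  ⟨⟨2, 0, 1, 0, -1, 1, 0, -1⟩, ⟨-1, 1, 0, -1, 0, 0, 1, 0⟩, ⟨0, -1, 1, -1, -1, 0, 0, 0⟩⟩,
  ⟨⟨2, 0, 1, 0, -1, 1, 0, 1⟩, ⟨0, 0, -1, 0, -1, 1, 0, 1⟩, ⟨1, -1, 0, -1, 0, 0, -1, 0⟩⟩,
  ⟨⟨2, 0, 1, 0, -1, 1, 0, 1⟩, ⟨0, 0, -1, 0, -1, 1, 0, 1⟩, ⟨-1, 1, 0, 1, 0, 0, 1, 0⟩⟩,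
  ⟨⟨2, 0, 1, 0, -1, 1, 0, 1⟩, ⟨1, 0, 0, 0, 0, 1, 1, -1⟩, ⟨0, -1, -1, 1, 1, 0, 0, 0⟩⟩,
  ⟨⟨2, 0, 1, 0, -1, 1, 0, 1⟩, ⟨1, 0, 0, 0, 0, 1, 1, -1⟩, ⟨0, 1, 1, -1, -1, 0, 0, 0⟩⟩,
  ⟨⟨2, 0, 1, 0, -1, 1, 0, 1⟩, ⟨-1, 0, 0, 0, 0, -1, -1, 1⟩, ⟨0, -1, -1, 1, 1, 0, 0, 0⟩⟩,
  ⟨⟨2, 0, 1, 0, -1, 1, 0, 1⟩, ⟨-1, 0, 0, 0, 0, -1, -1, 1⟩, ⟨0, 1, 1, -1, -1, 0, 0, 0⟩⟩,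
  ⟨⟨2, 0, 1, 0, -1, 1, 0, 1⟩, ⟨0, 0, 1, 0, 1, -1, 0, -1⟩, ⟨1, -1, 0, -1, 0, 0, -1, 0⟩⟩,
  ⟨⟨2, 0, 1, 0, -1, 1, 0, 1⟩, ⟨0, 0, 1, 0, 1, -1, 0, -1⟩, ⟨-1, 1, 0, 1, 0, 0, 1, 0⟩⟩,
  ⟨⟨2, 0, 1, 0, -1, 1, 0, 1⟩, ⟨1, -1, 0, -1, 0, 0, -1, 0⟩, ⟨0, 0, -1, 0, -1, 1, 0, 1⟩⟩,
  ⟨⟨2, 0, 1, 0, -1, 1, 0, 1⟩, ⟨1, -1, 0, -1, 0, 0, -1, 0⟩, ⟨0, 0, 1, 0, 1, -1, 0, -1⟩⟩,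
  ⟨⟨2, 0, 1, 0, -1, 1, 0, 1⟩, ⟨0, -1, -1, 1, 1, 0, 0, 0⟩, ⟨1, 0, 0, 0, 0, 1, 1, -1⟩⟩,
  ⟨⟨2, 0, 1, 0, -1, 1, 0, 1⟩, ⟨0, -1, -1, 1, 1, 0, 0, 0⟩, ⟨-1, 0, 0, 0, 0, -1, -1, 1⟩⟩,
  ⟨⟨2, 0, 1, 0, -1, 1, 0, 1⟩, ⟨0, 1, 1, -1, -1, 0, 0, 0⟩, ⟨1, 0, 0, 0, 0, 1, 1, -1⟩⟩,
  ⟨⟨2, 0, 1, 0, -1, 1, 0, 1⟩, ⟨0, 1, 1, -1, -1, 0, 0, 0⟩, ⟨-1, 0, 0, 0, 0, -1, -1, 1⟩⟩,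
  ⟨⟨2, 0, 1, 0, -1, 1, 0, 1⟩, ⟨-1, 1, 0, 1, 0, 0, 1, 0⟩, ⟨0, 0, -1, 0, -1, 1, 0, 1⟩⟩,
  ⟨⟨2, 0, 1, 0, -1, 1, 0, 1⟩, ⟨-1, 1, 0, 1, 0, 0, 1, 0⟩, ⟨0, 0, 1, 0, 1, -1, 0, -1⟩⟩,
  ⟨⟨2, 0, 1, 0, 1, -1, 0, -1⟩, ⟨0, 0, -1, 0, 1, -1, 0, -1⟩, ⟨0, 1, 1, -1, 1, 0, 0, 0⟩⟩,
  ⟨⟨2, 0, 1, 0, 1, -1, 0, -1⟩, ⟨0, 0, -1, 0, 1, -1, 0, -1⟩, ⟨0, -1, -1, 1, -1, 0, 0, 0⟩⟩,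
  ⟨⟨2, 0, 1, 0, 1, -1, 0, -1⟩, ⟨1, 0, 0, 0, 0, -1, -1, 1⟩, ⟨-1, 1, 0, 1, 0, 0, -1, 0⟩⟩,
  ⟨⟨2, 0, 1, 0, 1, -1, 0, -1⟩, ⟨1, 0, 0, 0, 0, -1, -1, 1⟩, ⟨1, -1, 0, -1, 0, 0, 1, 0⟩⟩,
  ⟨⟨2, 0, 1, 0, 1, -1, 0, -1⟩, ⟨-1, 0, 0, 0, 0, 1, 1, -1⟩, ⟨-1, 1, 0, 1, 0, 0, -1, 0⟩⟩,
  ⟨⟨2, 0, 1, 0, 1, -1, 0, -1⟩, ⟨-1, 0, 0, 0, 0, 1, 1, -1⟩, ⟨1, -1, 0, -1, 0, 0, 1, 0⟩⟩,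
  ⟨⟨2, 0, 1, 0, 1, -1, 0, -1⟩, ⟨0, 0, 1, 0, -1, 1, 0, 1⟩, ⟨0, 1, 1, -1, 1, 0, 0, 0⟩⟩,
  ⟨⟨2, 0, 1, 0, 1, -1, 0, -1⟩, ⟨0, 0, 1, 0, -1, 1, 0, 1⟩, ⟨0, -1, -1, 1, -1, 0, 0, 0⟩⟩,
  ⟨⟨2, 0, 1, 0, 1, -1, 0, -1⟩, ⟨-1, 1, 0, 1, 0, 0, -1, 0⟩, ⟨1, 0, 0, 0, 0, -1, -1, 1⟩⟩,
  ⟨⟨2, 0, 1, 0, 1, -1, 0, -1⟩, ⟨-1, 1, 0, 1, 0, 0, -1, 0⟩, ⟨-1, 0, 0, 0, 0, 1, 1, -1⟩⟩,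
  ⟨⟨2, 0, 1, 0, 1, -1, 0, -1⟩, ⟨0, 1, 1, -1, 1, 0, 0, 0⟩, ⟨0, 0, -1, 0, 1, -1, 0, -1⟩⟩,
  ⟨⟨2, 0, 1, 0, 1, -1, 0, -1⟩, ⟨0, 1, 1, -1, 1, 0, 0, 0⟩, ⟨0, 0, 1, 0, -1, 1, 0, 1⟩⟩,
  ⟨⟨2, 0, 1, 0, 1, -1, 0, -1⟩, ⟨0, -1, -1, 1, -1, 0, 0, 0⟩, ⟨0, 0, -1, 0, 1, -1, 0, -1⟩⟩,
  ⟨⟨2, 0, 1, 0, 1, -1, 0, -1⟩, ⟨0, -1, -1, 1, -1, 0, 0, 0⟩, ⟨0, 0, 1, 0, -1, 1, 0, 1⟩⟩,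
  ⟨⟨2, 0, 1, 0, 1, -1, 0, -1⟩, ⟨1, -1, 0, -1, 0, 0, 1, 0⟩, ⟨1, 0, 0, 0, 0, -1, -1, 1⟩⟩,
  ⟨⟨2, 0, 1, 0, 1, -1, 0, -1⟩, ⟨1, -1, 0, -1, 0, 0, 1, 0⟩, ⟨-1, 0, 0, 0, 0, 1, 1, -1⟩⟩,
  ⟨⟨2, 0, 1, 0, 1, -1, 0, 1⟩, ⟨0, 0, -1, 0, 1, -1, 0, 1⟩, ⟨0, 0, -1, 0, 1, -1, 0, 1⟩⟩,
  ⟨⟨2, 0, 1, 0, 1, -1, 0, 1⟩, ⟨0, 0, -1, 0, 1, -1, 0, 1⟩, ⟨0, 0, 1, 0, -1, 1, 0, -1⟩⟩,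
  ⟨⟨2, 0, 1, 0, 1, -1, 0, 1⟩, ⟨1, 0, 0, 0, 0, 1, -1, 1⟩, ⟨1, 0, 0, 0, 0, 1, -1, 1⟩⟩,
  ⟨⟨2, 0, 1, 0, 1, -1, 0, 1⟩, ⟨1, 0, 0, 0, 0, 1, -1, 1⟩, ⟨-1, 0, 0, 0, 0, -1, 1, -1⟩⟩,
  ⟨⟨2, 0, 1, 0, 1, -1, 0, 1⟩, ⟨-1, 0, 0, 0, 0, -1, 1, -1⟩, ⟨1, 0, 0, 0, 0, 1, -1, 1⟩⟩,
  ⟨⟨2, 0, 1, 0, 1, -1, 0, 1⟩, ⟨-1, 0, 0, 0, 0, -1, 1, -1⟩, ⟨-1, 0, 0, 0, 0, -1, 1, -1⟩⟩,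
  ⟨⟨2, 0, 1, 0, 1, -1, 0, 1⟩, ⟨0, 0, 1, 0, -1, 1, 0, -1⟩, ⟨0, 0, -1, 0, 1, -1, 0, 1⟩⟩,
  ⟨⟨2, 0, 1, 0, 1, -1, 0, 1⟩, ⟨0, 0, 1, 0, -1, 1, 0, -1⟩, ⟨0, 0, 1, 0, -1, 1, 0, -1⟩⟩,
  ⟨⟨2, 0, 1, 0, 1, -1, 0, 1⟩, ⟨-1, 1, 0, -1, 0, 0, -1, 0⟩, ⟨-1, 1, 0, -1, 0, 0, -1, 0⟩⟩,
  ⟨⟨2, 0, 1, 0, 1, -1, 0, 1⟩, ⟨-1, 1, 0, -1, 0, 0, -1, 0⟩, ⟨1, -1, 0, 1, 0, 0, 1, 0⟩⟩,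
  ⟨⟨2, 0, 1, 0, 1, -1, 0, 1⟩, ⟨0, -1, 1, -1, 1, 0, 0, 0⟩, ⟨0, -1, 1, -1, 1, 0, 0, 0⟩⟩,
  ⟨⟨2, 0, 1, 0, 1, -1, 0, 1⟩, ⟨0, -1, 1, -1, 1, 0, 0, 0⟩, ⟨0, 1, -1, 1, -1, 0, 0, 0⟩⟩,
  ⟨⟨2, 0, 1, 0, 1, -1, 0, 1⟩, ⟨0, 1, -1, 1, -1, 0, 0, 0⟩, ⟨0, -1, 1, -1, 1, 0, 0, 0⟩⟩,
  ⟨⟨2, 0, 1, 0, 1, -1, 0, 1⟩, ⟨0, 1, -1, 1, -1, 0, 0, 0⟩, ⟨0, 1, -1, 1, -1, 0, 0, 0⟩⟩,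
  ⟨⟨2, 0, 1, 0, 1, -1, 0, 1⟩, ⟨1, -1, 0, 1, 0, 0, 1, 0⟩, ⟨-1, 1, 0, -1, 0, 0, -1, 0⟩⟩,
  ⟨⟨2, 0, 1, 0, 1, -1, 0, 1⟩, ⟨1, -1, 0, 1, 0, 0, 1, 0⟩, ⟨1, -1, 0, 1, 0, 0, 1, 0⟩⟩,
  ⟨⟨1, -2, 1, 0, 1, 0, 1, 0⟩, ⟨1, -2, 1, 0, 1, 0, 1, 0⟩, ⟨0, 0, 0, 0, 0, 0, 0, 0⟩⟩,
  ⟨⟨1, -2, 1, 0, 1, 0, 1, 0⟩, ⟨1, 0, -1, 2, -1, 0, 1, 0⟩, ⟨0, 0, 0, 0, 0, 0, 0, 0⟩⟩,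
  ⟨⟨1, -2, 1, 0, 1, 0, 1, 0⟩, ⟨-1, 0, 1, -2, 1, 0, -1, 0⟩, ⟨0, 0, 0, 0, 0, 0, 0, 0⟩⟩,
  ⟨⟨1, -2, 1, 0, 1, 0, 1, 0⟩, ⟨-1, 2, -1, 0, -1, 0, -1, 0⟩, ⟨0, 0, 0, 0, 0, 0, 0, 0⟩⟩,
  ⟨⟨1, -2, 1, 0, 1, 0, 1, 0⟩, ⟨-1, 0, -1, 0, 1, -2, 1, 0⟩, ⟨0, 0, 0, 0, 0, 0, 0, 0⟩⟩,
  ⟨⟨1, -2, 1, 0, 1, 0, 1, 0⟩, ⟨1, 0, -1, 0, 1, 0, -1, 2⟩, ⟨0, 0, 0, 0, 0, 0, 0, 0⟩⟩,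
  ⟨⟨1, -2, 1, 0, 1, 0, 1, 0⟩, ⟨-1, 0, 1, 0, -1, 0, 1, -2⟩, ⟨0, 0, 0, 0, 0, 0, 0, 0⟩⟩,
  ⟨⟨1, -2, 1, 0, 1, 0, 1, 0⟩, ⟨1, 0, 1, 0, -1, 2, -1, 0⟩, ⟨0, 0, 0, 0, 0, 0, 0, 0⟩⟩,
  ⟨⟨0, -2, 2, -2, 2, 0, 0, 0⟩, ⟨0, 0, 0, 0, 0, 0, 0, 0⟩, ⟨0, 0, 0, 0, 0, 0, 0, 0⟩⟩,
  ⟨⟨-1, 0, 0, -1, -1, -1, 0, 0⟩, ⟨0, -1, -1, 0, 0, 0, 1, -1⟩, ⟨2, -1, 1, 0, 0, 0, 1, -1⟩⟩,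
  ⟨⟨1, 0, 0, 1, 1, 1, 0, 0⟩, ⟨0, 1, 1, 0, 0, 0, -1, 1⟩, ⟨2, -1, 1, 0, 0, 0, 1, -1⟩⟩,
  ⟨⟨0, 0, -1, -1, 0, 1, -1, 0⟩, ⟨-1, 1, 0, 0, 1, 0, 0, -1⟩, ⟨2, -1, 1, 0, 0, 0, 1, -1⟩⟩,
  ⟨⟨0, 0, 1, 1, 0, -1, 1, 0⟩, ⟨1, -1, 0, 0, -1, 0, 0, 1⟩, ⟨2, -1, 1, 0, 0, 0, 1, -1⟩⟩,
  ⟨⟨0, 0, -1, -1, 0, 1, -1, 0⟩, ⟨1, -1, 0, 0, -1, 0, 0, 1⟩, ⟨2, -1, 1, 0, 0, 0, 1, -1⟩⟩,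
  ⟨⟨0, 0, 1, 1, 0, -1, 1, 0⟩, ⟨-1, 1, 0, 0, 1, 0, 0, -1⟩, ⟨2, -1, 1, 0, 0, 0, 1, -1⟩⟩,
  ⟨⟨-1, 0, 0, -1, -1, -1, 0, 0⟩, ⟨0, 1, 1, 0, 0, 0, -1, 1⟩, ⟨2, -1, 1, 0, 0, 0, 1, -1⟩⟩,
  ⟨⟨1, 0, 0, 1, 1, 1, 0, 0⟩, ⟨0, -1, -1, 0, 0, 0, 1, -1⟩, ⟨2, -1, 1, 0, 0, 0, 1, -1⟩⟩,
  ⟨⟨0, 1, -1, 0, 0, 0, 1, 1⟩, ⟨1, 0, 0, -1, 1, -1, 0, 0⟩, ⟨2, -1, 1, 0, 0, 0, 1, -1⟩⟩,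
  ⟨⟨0, -1, 1, 0, 0, 0, -1, -1⟩, ⟨-1, 0, 0, 1, -1, 1, 0, 0⟩, ⟨2, -1, 1, 0, 0, 0, 1, -1⟩⟩,
  ⟨⟨1, 1, 0, 0, -1, 0, 0, -1⟩, ⟨0, 0, 1, -1, 0, 1, 1, 0⟩, ⟨2, -1, 1, 0, 0, 0, 1, -1⟩⟩,
  ⟨⟨-1, -1, 0, 0, 1, 0, 0, 1⟩, ⟨0, 0, -1, 1, 0, -1, -1, 0⟩, ⟨2, -1, 1, 0, 0, 0, 1, -1⟩⟩,
  ⟨⟨1, 1, 0, 0, -1, 0, 0, -1⟩, ⟨0, 0, -1, 1, 0, -1, -1, 0⟩, ⟨2, -1, 1, 0, 0, 0, 1, -1⟩⟩,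
  ⟨⟨-1, -1, 0, 0, 1, 0, 0, 1⟩, ⟨0, 0, 1, -1, 0, 1, 1, 0⟩, ⟨2, -1, 1, 0, 0, 0, 1, -1⟩⟩,
  ⟨⟨0, 1, -1, 0, 0, 0, 1, 1⟩, ⟨-1, 0, 0, 1, -1, 1, 0, 0⟩, ⟨2, -1, 1, 0, 0, 0, 1, -1⟩⟩,
  ⟨⟨0, -1, 1, 0, 0, 0, -1, -1⟩, ⟨1, 0, 0, -1, 1, -1, 0, 0⟩, ⟨2, -1, 1, 0, 0, 0, 1, -1⟩⟩,
  ⟨⟨0, 1, -1, 0, 0, 0, 1, 1⟩, ⟨2, -1, 1, 0, 0, 0, 1, -1⟩, ⟨1, 0, 0, -1, 1, -1, 0, 0⟩⟩,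
  ⟨⟨0, 1, -1, 0, 0, 0, 1, 1⟩, ⟨2, -1, 1, 0, 0, 0, 1, -1⟩, ⟨-1, 0, 0, 1, -1, 1, 0, 0⟩⟩,
  ⟨⟨-1, 0, 0, -1, -1, -1, 0, 0⟩, ⟨2, -1, 1, 0, 0, 0, 1, -1⟩, ⟨0, -1, -1, 0, 0, 0, 1, -1⟩⟩,
  ⟨⟨-1, 0, 0, -1, -1, -1, 0, 0⟩, ⟨2, -1, 1, 0, 0, 0, 1, -1⟩, ⟨0, 1, 1, 0, 0, 0, -1, 1⟩⟩,
  ⟨⟨0, 0, -1, -1, 0, 1, -1, 0⟩, ⟨2, -1, 1, 0, 0, 0, 1, -1⟩, ⟨-1, 1, 0, 0, 1, 0, 0, -1⟩⟩,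
  ⟨⟨0, 0, -1, -1, 0, 1, -1, 0⟩, ⟨2, -1, 1, 0, 0, 0, 1, -1⟩, ⟨1, -1, 0, 0, -1, 0, 0, 1⟩⟩,
  ⟨⟨1, 1, 0, 0, -1, 0, 0, -1⟩, ⟨2, -1, 1, 0, 0, 0, 1, -1⟩, ⟨0, 0, 1, -1, 0, 1, 1, 0⟩⟩,
  ⟨⟨1, 1, 0, 0, -1, 0, 0, -1⟩, ⟨2, -1, 1, 0, 0, 0, 1, -1⟩, ⟨0, 0, -1, 1, 0, -1, -1, 0⟩⟩,
  ⟨⟨-1, -1, 0, 0, 1, 0, 0, 1⟩, ⟨2, -1, 1, 0, 0, 0, 1, -1⟩, ⟨0, 0, -1, 1, 0, -1, -1, 0⟩⟩,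
  ⟨⟨-1, -1, 0, 0, 1, 0, 0, 1⟩, ⟨2, -1, 1, 0, 0, 0, 1, -1⟩, ⟨0, 0, 1, -1, 0, 1, 1, 0⟩⟩,
  ⟨⟨0, 0, 1, 1, 0, -1, 1, 0⟩, ⟨2, -1, 1, 0, 0, 0, 1, -1⟩, ⟨1, -1, 0, 0, -1, 0, 0, 1⟩⟩,
  ⟨⟨0, 0, 1, 1, 0, -1, 1, 0⟩, ⟨2, -1, 1, 0, 0, 0, 1, -1⟩, ⟨-1, 1, 0, 0, 1, 0, 0, -1⟩⟩,
  ⟨⟨1, 0, 0, 1, 1, 1, 0, 0⟩, ⟨2, -1, 1, 0, 0, 0, 1, -1⟩, ⟨0, 1, 1, 0, 0, 0, -1, 1⟩⟩,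
  ⟨⟨1, 0, 0, 1, 1, 1, 0, 0⟩, ⟨2, -1, 1, 0, 0, 0, 1, -1⟩, ⟨0, -1, -1, 0, 0, 0, 1, -1⟩⟩,
  ⟨⟨0, -1, 1, 0, 0, 0, -1, -1⟩, ⟨2, -1, 1, 0, 0, 0, 1, -1⟩, ⟨-1, 0, 0, 1, -1, 1, 0, 0⟩⟩,
  ⟨⟨0, -1, 1, 0, 0, 0, -1, -1⟩, ⟨2, -1, 1, 0, 0, 0, 1, -1⟩, ⟨1, 0, 0, -1, 1, -1, 0, 0⟩⟩,
  ⟨⟨2, -1, 1, 0, 0, 0, 1, -1⟩, ⟨1, -1, 0, 0, -1, 0, 0, 1⟩, ⟨0, 0, 1, 1, 0, -1, 1, 0⟩⟩,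
  ⟨⟨2, -1, 1, 0, 0, 0, 1, -1⟩, ⟨1, -1, 0, 0, -1, 0, 0, 1⟩, ⟨0, 0, -1, -1, 0, 1, -1, 0⟩⟩,
  ⟨⟨2, -1, 1, 0, 0, 0, 1, -1⟩, ⟨0, 0, 1, -1, 0, 1, 1, 0⟩, ⟨-1, -1, 0, 0, 1, 0, 0, 1⟩⟩,
  ⟨⟨2, -1, 1, 0, 0, 0, 1, -1⟩, ⟨0, 0, 1, -1, 0, 1, 1, 0⟩, ⟨1, 1, 0, 0, -1, 0, 0, -1⟩⟩,
  ⟨⟨2, -1, 1, 0, 0, 0, 1, -1⟩, ⟨0, 0, -1, 1, 0, -1, -1, 0⟩, ⟨-1, -1, 0, 0, 1, 0, 0, 1⟩⟩,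
  ⟨⟨2, -1, 1, 0, 0, 0, 1, -1⟩, ⟨0, 0, -1, 1, 0, -1, -1, 0⟩, ⟨1, 1, 0, 0, -1, 0, 0, -1⟩⟩,
  ⟨⟨2, -1, 1, 0, 0, 0, 1, -1⟩, ⟨-1, 1, 0, 0, 1, 0, 0, -1⟩, ⟨0, 0, 1, 1, 0, -1, 1, 0⟩⟩,
  ⟨⟨2, -1, 1, 0, 0, 0, 1, -1⟩, ⟨-1, 1, 0, 0, 1, 0, 0, -1⟩, ⟨0, 0, -1, -1, 0, 1, -1, 0⟩⟩,
  ⟨⟨2, -1, 1, 0, 0, 0, 1, -1⟩, ⟨1, 0, 0, -1, 1, -1, 0, 0⟩, ⟨0, 1, -1, 0, 0, 0, 1, 1⟩⟩,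
  ⟨⟨2, -1, 1, 0, 0, 0, 1, -1⟩, ⟨1, 0, 0, -1, 1, -1, 0, 0⟩, ⟨0, -1, 1, 0, 0, 0, -1, -1⟩⟩,
  ⟨⟨2, -1, 1, 0, 0, 0, 1, -1⟩, ⟨0, -1, -1, 0, 0, 0, 1, -1⟩, ⟨-1, 0, 0, -1, -1, -1, 0, 0⟩⟩,
  ⟨⟨2, -1, 1, 0, 0, 0, 1, -1⟩, ⟨0, -1, -1, 0, 0, 0, 1, -1⟩, ⟨1, 0, 0, 1, 1, 1, 0, 0⟩⟩,
  ⟨⟨2, -1, 1, 0, 0, 0, 1, -1⟩, ⟨0, 1, 1, 0, 0, 0, -1, 1⟩, ⟨-1, 0, 0, -1, -1, -1, 0, 0⟩⟩,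
  ⟨⟨2, -1, 1, 0, 0, 0, 1, -1⟩, ⟨0, 1, 1, 0, 0, 0, -1, 1⟩, ⟨1, 0, 0, 1, 1, 1, 0, 0⟩⟩,
  ⟨⟨2, -1, 1, 0, 0, 0, 1, -1⟩, ⟨-1, 0, 0, 1, -1, 1, 0, 0⟩, ⟨0, 1, -1, 0, 0, 0, 1, 1⟩⟩,
  ⟨⟨2, -1, 1, 0, 0, 0, 1, -1⟩, ⟨-1, 0, 0, 1, -1, 1, 0, 0⟩, ⟨0, -1, 1, 0, 0, 0, -1, -1⟩⟩,
  ⟨⟨2, -1, 1, 0, 0, 0, 1, -1⟩, ⟨0, 1, -1, 0, 0, 0, 1, 1⟩, ⟨1, 0, 0, -1, 1, -1, 0, 0⟩⟩,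
  ⟨⟨2, -1, 1, 0, 0, 0, 1, -1⟩, ⟨0, 1, -1, 0, 0, 0, 1, 1⟩, ⟨-1, 0, 0, 1, -1, 1, 0, 0⟩⟩,
  ⟨⟨2, -1, 1, 0, 0, 0, 1, -1⟩, ⟨-1, -1, 0, 0, 1, 0, 0, 1⟩, ⟨0, 0, 1, -1, 0, 1, 1, 0⟩⟩,
  ⟨⟨2, -1, 1, 0, 0, 0, 1, -1⟩, ⟨-1, -1, 0, 0, 1, 0, 0, 1⟩, ⟨0, 0, -1, 1, 0, -1, -1, 0⟩⟩,
  ⟨⟨2, -1, 1, 0, 0, 0, 1, -1⟩, ⟨-1, 0, 0, -1, -1, -1, 0, 0⟩, ⟨0, -1, -1, 0, 0, 0, 1, -1⟩⟩,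
  ⟨⟨2, -1, 1, 0, 0, 0, 1, -1⟩, ⟨-1, 0, 0, -1, -1, -1, 0, 0⟩, ⟨0, 1, 1, 0, 0, 0, -1, 1⟩⟩,
  ⟨⟨2, -1, 1, 0, 0, 0, 1, -1⟩, ⟨0, 0, 1, 1, 0, -1, 1, 0⟩, ⟨1, -1, 0, 0, -1, 0, 0, 1⟩⟩,
  ⟨⟨2, -1, 1, 0, 0, 0, 1, -1⟩, ⟨0, 0, 1, 1, 0, -1, 1, 0⟩, ⟨-1, 1, 0, 0, 1, 0, 0, -1⟩⟩,
  ⟨⟨2, -1, 1, 0, 0, 0, 1, -1⟩, ⟨0, 0, -1, -1, 0, 1, -1, 0⟩, ⟨1, -1, 0, 0, -1, 0, 0, 1⟩⟩,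
  ⟨⟨2, -1, 1, 0, 0, 0, 1, -1⟩, ⟨0, 0, -1, -1, 0, 1, -1, 0⟩, ⟨-1, 1, 0, 0, 1, 0, 0, -1⟩⟩,
  ⟨⟨2, -1, 1, 0, 0, 0, 1, -1⟩, ⟨1, 0, 0, 1, 1, 1, 0, 0⟩, ⟨0, -1, -1, 0, 0, 0, 1, -1⟩⟩,
  ⟨⟨2, -1, 1, 0, 0, 0, 1, -1⟩, ⟨1, 0, 0, 1, 1, 1, 0, 0⟩, ⟨0, 1, 1, 0, 0, 0, -1, 1⟩⟩,
  ⟨⟨2, -1, 1, 0, 0, 0, 1, -1⟩, ⟨1, 1, 0, 0, -1, 0, 0, -1⟩, ⟨0, 0, 1, -1, 0, 1, 1, 0⟩⟩,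
  ⟨⟨2, -1, 1, 0, 0, 0, 1, -1⟩, ⟨1, 1, 0, 0, -1, 0, 0, -1⟩, ⟨0, 0, -1, 1, 0, -1, -1, 0⟩⟩,
  ⟨⟨2, -1, 1, 0, 0, 0, 1, -1⟩, ⟨0, -1, 1, 0, 0, 0, -1, -1⟩, ⟨1, 0, 0, -1, 1, -1, 0, 0⟩⟩,
  ⟨⟨2, -1, 1, 0, 0, 0, 1, -1⟩, ⟨0, -1, 1, 0, 0, 0, -1, -1⟩, ⟨-1, 0, 0, 1, -1, 1, 0, 0⟩⟩]

end Cfsg.Agent.J2
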