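import Mathlib
import Cfsg.Agent.Lib.Lead.J2.IcoLam

set_option autoImplicit false

namespace Cfsg.Agent.J2

open Ico

/-- the 120 units of the icosian ring -/
def unitsL : List Ico := [
  ⟨2, 0, 0, 0, 0, 0, 0, 0⟩,
  ⟨1, 0, 1, 0, 1, 0, 1, 0⟩,
  ⟨1, 0, 1, 0, 1, 0, -1, 0⟩,
  ⟨1, 0, 1, 0, -1, 0, 1, 0⟩,
  ⟨1, 0, 1, 0, -1, 0, -1, 0⟩,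
  ⟨1, 0, 1, -1, 0, 0, 0, 1⟩,
  ⟨1, 0, 1, -1, 0, 0, 0, -1⟩,
  ⟨1, 0, 0, 1, 1, -1, 0, 0⟩,
  ⟨1, 0, 0, 1, -1, 1, 0, 0⟩,
  ⟨1, 0, 0, 0, 0, 1, 1, -1⟩,
  ⟨1, 0, 0, 0, 0, 1, -1, 1⟩,
  ⟨1, 0, 0, 0, 0, -1, 1, -1⟩,
  ⟨1, 0, 0, 0, 0, -1, -1, 1⟩,
  ⟨1, 0, 0, -1, 1, -1, 0, 0⟩,
  ⟨1, 0, 0, -1, -1, 1, 0, 0⟩,
  ⟨1, 0, -1, 1, 0, 0, 0, 1⟩,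
  ⟨1, 0, -1, 1, 0, 0, 0, -1⟩,
  ⟨1, 0, -1, 0, 1, 0, 1, 0⟩,
  ⟨1, 0, -1, 0, 1, 0, -1, 0⟩,
  ⟨1, 0, -1, 0, -1, 0, 1, 0⟩,
  ⟨1, 0, -1, 0, -1, 0, -1, 0⟩,
  ⟨1, -1, 1, 0, 0, 1, 0, 0⟩,
  ⟨1, -1, 1, 0, 0, -1, 0, 0⟩,
  ⟨1, -1, 0, 1, 0, 0, 1, 0⟩,
  ⟨1, -1, 0, 1, 0, 0, -1, 0⟩,
  ⟨1, -1, 0, 0, 1, 0, 0, 1⟩,
  ⟨1, -1, 0, 0, 1, 0, 0, -1⟩,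
  ⟨1, -1, 0, 0, -1, 0, 0, 1⟩,
  ⟨1, -1, 0, 0, -1, 0, 0, -1⟩,
  ⟨1, -1, 0, -1, 0, 0, 1, 0⟩,
  ⟨1, -1, 0, -1, 0, 0, -1, 0⟩,
  ⟨1, -1, -1, 0, 0, 1, 0, 0⟩,
  ⟨1, -1, -1, 0, 0, -1, 0, 0⟩,
  ⟨0, 1, 1, 0, 0, 0, 1, -1⟩,
  ⟨0, 1, 1, 0, 0, 0, -1, 1⟩,
  ⟨0, 1, 1, -1, 1, 0, 0, 0⟩,
  ⟨0, 1, 1, -1, -1, 0, 0, 0⟩,
  ⟨0, 1, 0, 0, 1, -1, 1, 0⟩,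
  ⟨0, 1, 0, 0, 1, -1, -1, 0⟩,
  ⟨0, 1, 0, 0, -1, 1, 1, 0⟩,
  ⟨0, 1, 0, 0, -1, 1, -1, 0⟩,
  ⟨0, 1, -1, 1, 1, 0, 0, 0⟩,
  ⟨0, 1, -1, 1, -1, 0, 0, 0⟩,
  ⟨0, 1, -1, 0, 0, 0, 1, -1⟩,
  ⟨0, 1, -1, 0, 0, 0, -1, 1⟩,
  ⟨0, 0, 2, 0, 0, 0, 0, 0⟩,
  ⟨0, 0, 1, 0, 1, -1, 0, 1⟩,
  ⟨0, 0, 1, 0, 1, -1, 0, -1⟩,
  ⟨0, 0, 1, 0, -1, 1, 0, 1⟩,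
  ⟨0, 0, 1, 0, -1, 1, 0, -1⟩,
  ⟨0, 0, 1, -1, 0, 1, 1, 0⟩,
  ⟨0, 0, 1, -1, 0, 1, -1, 0⟩,
  ⟨0, 0, 1, -1, 0, -1, 1, 0⟩,
  ⟨0, 0, 1, -1, 0, -1, -1, 0⟩,
  ⟨0, 0, 0, 1, 1, 0, 1, -1⟩,
  ⟨0, 0, 0, 1, 1, 0, -1, 1⟩,
  ⟨0, 0, 0, 1, -1, 0, 1, -1⟩,
  ⟨0, 0, 0, 1, -1, 0, -1, 1⟩,
  ⟨0, 0, 0, 0, 2, 0, 0, 0⟩,
  ⟨0, 0, 0, 0, 0, 0, 2, 0⟩,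
  ⟨0, 0, 0, 0, 0, 0, -2, 0⟩,
  ⟨0, 0, 0, 0, -2, 0, 0, 0⟩,
  ⟨0, 0, 0, -1, 1, 0, 1, -1⟩,
  ⟨0, 0, 0, -1, 1, 0, -1, 1⟩,
  ⟨0, 0, 0, -1, -1, 0, 1, -1⟩,
  ⟨0, 0, 0, -1, -1, 0, -1, 1⟩,
  ⟨0, 0, -1, 1, 0, 1, 1, 0⟩,
  ⟨0, 0, -1, 1, 0, 1, -1, 0⟩,
  ⟨0, 0, -1, 1, 0, -1, 1, 0⟩,
  ⟨0, 0, -1, 1, 0, -1, -1, 0⟩,
  ⟨0, 0, -1, 0, 1, -1, 0, 1⟩,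
  ⟨0, 0, -1, 0, 1, -1, 0, -1⟩,
  ⟨0, 0, -1, 0, -1, 1, 0, 1⟩,
  ⟨0, 0, -1, 0, -1, 1, 0, -1⟩,
  ⟨0, 0, -2, 0, 0, 0, 0, 0⟩,
  ⟨0, -1, 1, 0, 0, 0, 1, -1⟩,
  ⟨0, -1, 1, 0, 0, 0, -1, 1⟩,
  ⟨0, -1, 1, -1, 1, 0, 0, 0⟩,
  ⟨0, -1, 1, -1, -1, 0, 0, 0⟩,
  ⟨0, -1, 0, 0, 1, -1, 1, 0⟩,
  ⟨0, -1, 0, 0, 1, -1, -1, 0⟩,
  ⟨0, -1, 0, 0, -1, 1, 1, 0⟩,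
  ⟨0, -1, 0, 0, -1, 1, -1, 0⟩,
  ⟨0, -1, -1, 1, 1, 0, 0, 0⟩,
  ⟨0, -1, -1, 1, -1, 0, 0, 0⟩,
  ⟨0, -1, -1, 0, 0, 0, 1, -1⟩,
  ⟨0, -1, -1, 0, 0, 0, -1, 1⟩,
  ⟨-1, 1, 1, 0, 0, 1, 0, 0⟩,
  ⟨-1, 1, 1, 0, 0, -1, 0, 0⟩,
  ⟨-1, 1, 0, 1, 0, 0, 1, 0⟩,
  ⟨-1, 1, 0, 1, 0, 0, -1, 0⟩,
  ⟨-1, 1, 0, 0, 1, 0, 0, 1⟩,
  ⟨-1, 1, 0, 0, 1, 0, 0, -1⟩,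
  ⟨-1, 1, 0, 0, -1, 0, 0, 1⟩,
  ⟨-1, 1, 0, 0, -1, 0, 0, -1⟩,
  ⟨-1, 1, 0, -1, 0, 0, 1, 0⟩,
  ⟨-1, 1, 0, -1, 0, 0, -1, 0⟩,
  ⟨-1, 1, -1, 0, 0, 1, 0, 0⟩,
  ⟨-1, 1, -1, 0, 0, -1, 0, 0⟩,
  ⟨-1, 0, 1, 0, 1, 0, 1, 0⟩,
  ⟨-1, 0, 1, 0, 1, 0, -1, 0⟩,
  ⟨-1, 0, 1, 0, -1, 0, 1, 0⟩,
  ⟨-1, 0, 1, 0, -1, 0, -1, 0⟩,
  ⟨-1, 0, 1, -1, 0, 0, 0, 1⟩,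
  ⟨-1, 0, 1, -1, 0, 0, 0, -1⟩,
  ⟨-1, 0, 0, 1, 1, -1, 0, 0⟩,
  ⟨-1, 0, 0, 1, -1, 1, 0, 0⟩,
  ⟨-1, 0, 0, 0, 0, 1, 1, -1⟩,
  ⟨-1, 0, 0, 0, 0, 1, -1, 1⟩,
  ⟨-1, 0, 0, 0, 0, -1, 1, -1⟩,
  ⟨-1, 0, 0, 0, 0, -1, -1, 1⟩,
  ⟨-1, 0, 0, -1, 1, -1, 0, 0⟩,
  ⟨-1, 0, 0, -1, -1, 1, 0, 0⟩,
  ⟨-1, 0, -1, 1, 0, 0, 0, 1⟩,
  ⟨-1, 0, -1, 1, 0, 0, 0, -1⟩,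
  ⟨-1, 0, -1, 0, 1, 0, 1, 0⟩,
  ⟨-1, 0, -1, 0, 1, 0, -1, 0⟩,
  ⟨-1, 0, -1, 0, -1, 0, 1, 0⟩,
  ⟨-1, 0, -1, 0, -1, 0, -1, 0⟩,
  ⟨-2, 0, 0, 0, 0, 0, 0, 0⟩]

/-- representatives of the orbits of the units on the icosians with `nrm0 = 4`, `nrm1 = 0` -/
def c40 : List Ico := [
  ⟨2, 0, 0, 0, 0, 0, 0, 0⟩]

/-- representatives of the orbits of the units on the icosians with `nrm0 = 8`, `nrm1 = 0` -/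
def c80 : List Ico := [
  ⟨2, 0, 2, 0, 0, 0, 0, 0⟩,
  ⟨2, 0, 1, 0, 1, -1, 0, 1⟩,
  ⟨2, 0, 1, 0, 1, -1, 0, -1⟩,
  ⟨2, 0, 1, 0, -1, 1, 0, 1⟩,
  ⟨2, 0, 1, 0, -1, 1, 0, -1⟩]

/-- representatives of the orbits of the units on the icosians with `nrm0 = 12`, `nrm1 = 0` -/
def c120 : List Ico := [
  ⟨3, 0, 1, 0, 1, 0, 1, 0⟩,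
  ⟨3, 0, 1, 0, 1, 0, -1, 0⟩,
  ⟨3, 0, 1, 0, -1, 0, 1, 0⟩,
  ⟨3, 0, 1, 0, -1, 0, -1, 0⟩,
  ⟨3, 0, 1, -1, 0, 0, 0, 1⟩,
  ⟨3, 0, 1, -1, 0, 0, 0, -1⟩,
  ⟨3, 0, 0, 1, 1, -1, 0, 0⟩,
  ⟨3, 0, 0, 1, -1, 1, 0, 0⟩,
  ⟨3, 0, 0, 0, 0, 1, 1, -1⟩,
  ⟨3, 0, 0, 0, 0, 1, -1, 1⟩]

/-- representatives of the orbits of the units on the icosians with `nrm0 = 16`, `nrm1 = 0` -/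
def c160 : List Ico := [
  ⟨4, 0, 0, 0, 0, 0, 0, 0⟩,
  ⟨3, 0, 2, 0, 0, 1, 1, -1⟩,
  ⟨3, 0, 2, 0, 0, 1, -1, 1⟩,
  ⟨3, 0, 2, 0, 0, -1, 1, -1⟩,
  ⟨3, 0, 2, 0, 0, -1, -1, 1⟩,
  ⟨3, 0, 2, -1, 1, 1, 0, 0⟩,
  ⟨3, 0, 2, -1, -1, -1, 0, 0⟩,
  ⟨3, 0, 1, 1, 0, 0, 2, -1⟩,
  ⟨3, 0, 1, 1, 0, 0, -2, 1⟩,
  ⟨3, 0, 1, 0, 1, 0, -1, 2⟩,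
  ⟨3, 0, 1, 0, 1, -2, -1, 0⟩,
  ⟨3, 0, 1, 0, -1, 2, 1, 0⟩,
  ⟨3, 0, 1, 0, -1, 0, 1, -2⟩,
  ⟨3, 0, 1, -1, 2, 0, 0, 1⟩,
  ⟨3, 0, 1, -1, 2, 0, 0, -1⟩,
  ⟨3, 0, 1, -1, -2, 0, 0, 1⟩,
  ⟨3, 0, 1, -1, -2, 0, 0, -1⟩,
  ⟨3, 0, 1, -2, 1, 0, 1, 0⟩,
  ⟨3, 0, 1, -2, -1, 0, -1, 0⟩,
  ⟨3, 0, 0, 1, 1, -1, 2, 0⟩,
  ⟨3, 0, 0, 1, -1, 1, -2, 0⟩]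

/-- representatives of the orbits of the units on the icosians with `nrm0 = 4`, `nrm1 = 4` -/
def c44 : List Ico := [
  ⟨1, 1, 1, 0, 0, 1, 0, 0⟩]

/-- representatives of the orbits of the units on the icosians with `nrm0 = 8`, `nrm1 = 4` -/
def c84 : List Ico := [
  ⟨2, 1, 1, 0, 0, 0, 1, -1⟩,
  ⟨2, 1, 1, 0, 0, 0, -1, 1⟩,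
  ⟨2, 1, 1, -1, 1, 0, 0, 0⟩,
  ⟨2, 1, 1, -1, -1, 0, 0, 0⟩,
  ⟨2, 1, 0, 0, 1, -1, 1, 0⟩,
  ⟨2, 1, 0, 0, 1, -1, -1, 0⟩]

/-- representatives of the orbits of the units on the icosians with `nrm0 = 8`, `nrm1 = -4` -/
def c8m4 : List Ico := [
  ⟨2, -1, 1, 0, 0, 0, 1, -1⟩]

/-- representatives of the orbits of the units on the icosians with `nrm0 = 12`, `nrm1 = -4` -/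
def c12m4 : List Ico := [
  ⟨3, -1, 1, 0, 0, 1, 0, 0⟩,
  ⟨3, -1, 1, 0, 0, -1, 0, 0⟩,
  ⟨3, -1, 0, 1, 0, 0, 1, 0⟩,
  ⟨3, -1, 0, 1, 0, 0, -1, 0⟩,
  ⟨3, -1, 0, 0, 1, 0, 0, 1⟩,
  ⟨3, -1, 0, 0, 1, 0, 0, -1⟩]

end Cfsg.Agent.J2
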