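import Mathlib
import Cfsg.Agent.Lib.Lead.J2.IcoLam

set_option autoImplicit false

namespace Cfsg.Agent.J2

open Quaternion Cfsg.Spor Ico

/-- candidate coordinates -/
def cands : List ℤ := [-4, -3, -2, -1, 0, 1, 2, 3, 4]

theorem mem_cands {c : ℤ} (h : c * c ≤ 16) : c ∈ cands := by
  have h1 : -4 ≤ c := by nlinarith
  have h2 : c ≤ 4 := by nlinarith
  unfold cands
  interval_cases c <;> simp

/-- candidates of a given parity (the parity of `e`) -/
def candsP (e : ℤ) : List ℤ := cands.filter fun c => (c - e) % 2 == 0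

theorem mem_candsP {c e : ℤ} (h : c * c ≤ 16) (hp : (c - e) % 2 = 0) : c ∈ candsP e := by
  unfold candsP
  rw [List.mem_filter]
  exact ⟨mem_cands h, by simpa using hp⟩

/-- all model icosians with sum of squares of the coordinates equal to `s` (for `s ≤ 16`) -/
def genI (s : ℤ) : List Ico :=
  cands.flatMap fun a0 => if a0 * a0 ≤ s then
  cands.flatMap fun a1 => if a0 * a0 + a1 * a1 ≤ s then
  cands.flatMap fun b0 => if a0 * a0 + a1 * a1 + b0 * b0 ≤ s then
  cands.flatMap fun b1 => if a0 * a0 + a1 * a1 + b0 * b0 + b1 * b1 ≤ s then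
  (candsP (a1 + b0 + b1)).flatMap fun c0 =>
    if a0 * a0 + a1 * a1 + b0 * b0 + b1 * b1 + c0 * c0 ≤ s then
  (candsP (a0 + a1 + b0)).flatMap fun c1 =>
    if a0 * a0 + a1 * a1 + b0 * b0 + b1 * b1 + c0 * c0 + c1 * c1 ≤ s then
  (candsP (a0 + a1 + b1)).flatMap fun d0 =>
    if a0 * a0 + a1 * a1 + b0 * b0 + b1 * b1 + c0 * c0 + c1 * c1 + d0 * d0 ≤ s then
  (candsP (a0 + b0 + b1)).flatMap fun d1 =>
    if a0 * a0 + a1 * a1 + b0 * b0 + b1 * b1 + c0 * c0 + c1 * c1 + d0 * d0 + d1 * d1 = s then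
      [(⟨a0, a1, b0, b1, c0, c1, d0, d1⟩ : Ico)]
    else []
    else [] else [] else [] else [] else [] else [] else []

theorem mem_genI {p : Ico} {s : ℤ} (hs : s ≤ 16) (hp : InI p) (hn : nrm0 p = s) : p ∈ genI s := by
  obtain ⟨a0, a1, b0, b1, c0, c1, d0, d1⟩ := p
  obtain ⟨h1, h2, h3, h4⟩ := hp
  simp only [nrm0] at hn
  simp only at h1 h2 h3 h4
  have q0 := sq_nonneg a0; have q1 := sq_nonneg a1; have q2 := sq_nonneg b0; have q3 := sq_nonneg b1
  have q4 := sq_nonneg c0; have q5 := sq_nonneg c1; have q6 := sq_nonneg d0; have q7 := sq_nonneg d1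
  unfold genI
  simp only [List.mem_flatMap]
  refine ⟨a0, mem_cands (by nlinarith), ?_⟩
  rw [if_pos (by nlinarith)]
  simp only [List.mem_flatMap]
  refine ⟨a1, mem_cands (by nlinarith), ?_⟩
  rw [if_pos (by nlinarith)]
  simp only [List.mem_flatMap]
  refine ⟨b0, mem_cands (by nlinarith), ?_⟩
  rw [if_pos (by nlinarith)]
  simp only [List.mem_flatMap]
  refine ⟨b1, mem_cands (by nlinarith), ?_⟩
  rw [if_pos (by nlinarith)]
  simp only [List.mem_flatMap]
  refine ⟨c0, mem_candsP (by nlinarith) (by omega), ?_⟩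
  rw [if_pos (by nlinarith)]
  simp only [List.mem_flatMap]
  refine ⟨c1, mem_candsP (by nlinarith) (by omega), ?_⟩
  rw [if_pos (by nlinarith)]
  simp only [List.mem_flatMap]
  refine ⟨d0, mem_candsP (by nlinarith) (by omega), ?_⟩
  rw [if_pos (by nlinarith)]
  simp only [List.mem_flatMap]
  refine ⟨d1, mem_candsP (by nlinarith) (by omega), ?_⟩
  rw [if_pos (by nlinarith)]
  simp

end Cfsg.Agent.J2
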