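import Mathlib
import Cfsg.Agent.Lib.Lead.J2.GenI
import Cfsg.Agent.Lib.Lead.J2.Data

set_option autoImplicit false

namespace Cfsg.Agent.J2

open Ico

/-- all coordinates in `[-4, 4]` -/
def inBox (p : Ico) : Bool :=
  decide (-4 ≤ p.a0 ∧ p.a0 ≤ 4 ∧ -4 ≤ p.a1 ∧ p.a1 ≤ 4 ∧ -4 ≤ p.b0 ∧ p.b0 ≤ 4 ∧ -4 ≤ p.b1 ∧ p.b1 ≤ 4 ∧
    -4 ≤ p.c0 ∧ p.c0 ≤ 4 ∧ -4 ≤ p.c1 ∧ p.c1 ≤ 4 ∧ -4 ≤ p.d0 ∧ p.d0 ≤ 4 ∧ -4 ≤ p.d1 ∧ p.d1 ≤ 4)

theorem inBox_of_nrm0 {p : Ico} (h : nrm0 p ≤ 16) : inBox p = true := by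
  unfold nrm0 at h
  have q0 := sq_nonneg p.a0; have q1 := sq_nonneg p.a1; have q2 := sq_nonneg p.b0; have q3 := sq_nonneg p.b1
  have q4 := sq_nonneg p.c0; have q5 := sq_nonneg p.c1; have q6 := sq_nonneg p.d0; have q7 := sq_nonneg p.d1
  simp only [inBox, decide_eq_true_eq]
  refine ⟨?_, ?_, ?_, ?_, ?_, ?_, ?_, ?_, ?_, ?_, ?_, ?_, ?_, ?_, ?_, ?_⟩ <;> nlinarith

/-- a numerical key, injective on the box -/
def keyOf (p : Ico) : ℕ :=
  (p.a0 + 4).toNat + 9 * ((p.a1 + 4).toNat + 9 * ((p.b0 + 4).toNat + 9 * ((p.b1 + 4).toNat +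
    9 * ((p.c0 + 4).toNat + 9 * ((p.c1 + 4).toNat + 9 * ((p.d0 + 4).toNat + 9 * (p.d1 + 4).toNat))))))

theorem digit_split {a b r r' : ℕ} (ha : a < 9) (hb : b < 9) (h : a + 9 * r = b + 9 * r') : a = b ∧ r = r' := by
  omega

theorem toNat_inj_box {x y : ℤ} (hx : -4 ≤ x) (hy : -4 ≤ y) (h : (x + 4).toNat = (y + 4).toNat) : x = y := by
  omega

theorem toNat_lt_nine {x : ℤ} (h1 : -4 ≤ x) (h2 : x ≤ 4) : (x + 4).toNat < 9 := by omega

theorem keyOf_inj {p q : Ico} (hp : inBox p = true) (hq : inBox q = true) (h : keyOf p = keyOf q) : p = q := by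
  simp only [inBox, decide_eq_true_eq] at hp hq
  obtain ⟨p0, p0', p1, p1', p2, p2', p3, p3', p4, p4', p5, p5', p6, p6', p7, p7'⟩ := hp
  obtain ⟨q0, q0', q1, q1', q2, q2', q3, q3', q4, q4', q5, q5', q6, q6', q7, q7'⟩ := hq
  unfold keyOf at h
  obtain ⟨e0, h⟩ := digit_split (toNat_lt_nine p0 p0') (toNat_lt_nine q0 q0') h
  obtain ⟨e1, h⟩ := digit_split (toNat_lt_nine p1 p1') (toNat_lt_nine q1 q1') h
  obtain ⟨e2, h⟩ := digit_split (toNat_lt_nine p2 p2') (toNat_lt_nine q2 q2') h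
  obtain ⟨e3, h⟩ := digit_split (toNat_lt_nine p3 p3') (toNat_lt_nine q3 q3') h
  obtain ⟨e4, h⟩ := digit_split (toNat_lt_nine p4 p4') (toNat_lt_nine q4 q4') h
  obtain ⟨e5, h⟩ := digit_split (toNat_lt_nine p5 p5') (toNat_lt_nine q5 q5') h
  obtain ⟨e6, h⟩ := digit_split (toNat_lt_nine p6 p6') (toNat_lt_nine q6 q6') h
  ext
  · exact toNat_inj_box p0 q0 e0
  · exact toNat_inj_box p1 q1 e1
  · exact toNat_inj_box p2 q2 e2
  · exact toNat_inj_box p3 q3 e3
  · exact toNat_inj_box p4 q4 e4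
  · exact toNat_inj_box p5 q5 e5
  · exact toNat_inj_box p6 q6 e6
  · exact toNat_inj_box p7 q7 h

/-- membership in a list of natural numbers, by `Nat.beq` -/
def memNat (a : ℕ) : List ℕ → Bool
  | [] => false
  | b :: l => Nat.beq a b || memNat a l

theorem mem_of_memNat {a : ℕ} : ∀ {l : List ℕ}, memNat a l = true → a ∈ l
  | [], h => by simp [memNat] at h
  | b :: l, h => by
    simp only [memNat, Bool.or_eq_true] at h
    rcases h with h | h
    · have : a = b := Nat.eq_of_beq_eq_true h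
      subst this; exact List.mem_cons_self
    · exact List.mem_cons_of_mem _ (mem_of_memNat h)

/-- the products of the units with the elements of `cl` -/
def prods (cl : List Ico) : List Ico := unitsL.flatMap fun u => cl.map fun c => Ico.mul u c

/-- the check for one class: all products lie in the box and every element of the class is a product -/
def orbOK (s t : ℤ) (cl : List Ico) : Bool :=
  let P := prods cl
  let K := P.map keyOf
  P.all inBox && ((genI s).filter fun p => nrm1 p == t).all fun x => memNat (keyOf x) K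

theorem exists_of_orbOK {s t : ℤ} {cl : List Ico} (h : orbOK s t cl = true) (hs : s ≤ 16) {x : Ico}
    (hx : InI x) (h0 : nrm0 x = s) (h1 : nrm1 x = t) : ∃ u ∈ unitsL, ∃ c ∈ cl, x = Ico.mul u c := by
  simp only [orbOK, Bool.and_eq_true, List.all_eq_true] at h
  obtain ⟨hbox, hall⟩ := h
  have hx' : x ∈ (genI s).filter fun p => nrm1 p == t := by
    rw [List.mem_filter]
    exact ⟨mem_genI hs hx h0, by simpa using h1⟩
  have hk := mem_of_memNat (hall x hx')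
  rw [List.mem_map] at hk
  obtain ⟨y, hy, hyk⟩ := hk
  have hyb := hbox y hy
  have hxb : inBox x = true := inBox_of_nrm0 (by rw [h0]; exact hs)
  have := keyOf_inj hyb hxb hyk
  subst this
  simp only [prods, List.mem_flatMap, List.mem_map] at hy
  obtain ⟨u, hu, c, hc, rfl⟩ := hy
  exact ⟨u, hu, c, hc, rfl⟩

set_option maxRecDepth 100000 in
theorem orbOK_40 : orbOK 4 0 c40 = true := by decide +kernel

end Cfsg.Agent.J2
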