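import Mathlib
import Cfsg.Agent.Lib.Lead.J2.Orb

set_option autoImplicit false

namespace Cfsg.Agent.J2

open Ico

/-- binary search trees of natural numbers -/
inductive KTree where
  | leaf : KTree
  | node : KTree → ℕ → KTree → KTree

namespace KTree

/-- insertion -/
def ins : KTree → ℕ → KTree
  | leaf, a => node leaf a leaf
  | node l k r, a => cond (Nat.blt a k) (node (ins l a) k r) (cond (Nat.blt k a) (node l k (ins r a)) (node l k r))

/-- lookup -/
def has : KTree → ℕ → Bool
  | leaf, _ => false
  | node l k r, a => cond (Nat.blt a k) (has l a) (cond (Nat.blt k a) (has r a) true)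

/-- the set of keys -/
def keys : KTree → Set ℕ
  | leaf => ∅
  | node l k r => keys l ∪ {k} ∪ keys r

theorem keys_ins (t : KTree) (a : ℕ) : keys (ins t a) ⊆ keys t ∪ {a} := by
  induction t with
  | leaf => intro x hx; simpa [ins, keys] using hx
  | node l k r ihl ihr =>
    intro x hx
    simp only [ins] at hx
    cases h1 : Nat.blt a k with
    | true =>
      rw [h1] at hx
      simp only [cond_true, keys, Set.mem_union, Set.mem_singleton_iff] at hx ⊢
      rcases hx with (hx | hx) | hx
      · rcases ihl hx with h | h
        · exact Or.inl (Or.inl (Or.inl h))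
        · exact Or.inr h
      · exact Or.inl (Or.inl (Or.inr hx))
      · exact Or.inl (Or.inr hx)
    | false =>
      rw [h1] at hx
      cases h2 : Nat.blt k a with
      | true =>
        rw [h2] at hx
        simp only [cond_true, cond_false, keys, Set.mem_union, Set.mem_singleton_iff] at hx ⊢
        rcases hx with (hx | hx) | hx
        · exact Or.inl (Or.inl (Or.inl hx))
        · exact Or.inl (Or.inl (Or.inr hx))
        · rcases ihr hx with h | h
          · exact Or.inl (Or.inr h)
          · exact Or.inr h
      | false =>
        rw [h2] at hx
        simp only [cond_false] at hx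
        exact Or.inl hx

theorem mem_keys_of_has : ∀ {t : KTree} {a : ℕ}, has t a = true → a ∈ keys t
  | leaf, a, h => by simp [has] at h
  | node l k r, a, h => by
    simp only [has] at h
    cases h1 : Nat.blt a k with
    | true =>
      rw [h1] at h
      exact Or.inl (Or.inl (mem_keys_of_has h))
    | false =>
      rw [h1] at h
      cases h2 : Nat.blt k a with
      | true =>
        rw [h2] at h
        exact Or.inr (mem_keys_of_has h)
      | false =>
        have e1 : ¬ a < k := by
          intro hlt
          have : Nat.blt a k = true := by simp [Nat.blt_eq, hlt]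
          rw [h1] at this; exact Bool.noConfusion this
        have e2 : ¬ k < a := by
          intro hlt
          have : Nat.blt k a = true := by simp [Nat.blt_eq, hlt]
          rw [h2] at this; exact Bool.noConfusion this
        have : a = k := by omega
        subst this
        exact Or.inl (Or.inr rfl)

/-- the tree of a list -/
def ofList (l : List ℕ) : KTree := l.foldl ins leaf

theorem keys_foldl (l : List ℕ) (t : KTree) : keys (l.foldl ins t) ⊆ keys t ∪ {a | a ∈ l} := by
  induction l generalizing t with
  | nil => intro x hx; exact Or.inl hx
  | cons b l ih =>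
    intro x hx
    rw [List.foldl_cons] at hx
    rcases ih _ hx with h | h
    · rcases keys_ins t b h with h' | h'
      · exact Or.inl h'
      · right
        have : x = b := h'
        subst this; exact List.mem_cons_self
    · right; exact List.mem_cons_of_mem _ h

theorem mem_of_has_ofList {l : List ℕ} {a : ℕ} (h : has (ofList l) a = true) : a ∈ l := by
  have := keys_foldl l leaf (mem_keys_of_has h)
  rcases this with h | h
  · exact absurd h (by simp [keys])
  · exact h

end KTree

/-- the check for one class, with a search tree -/
def orbOKT (s t : ℤ) (cl : List Ico) : Bool :=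
  (prods cl).all inBox &&
    ((genI s).filter fun p => nrm1 p == t).all fun x => KTree.has (KTree.ofList ((prods cl).map keyOf)) (keyOf x)

theorem exists_of_orbOKT {s t : ℤ} {cl : List Ico} (h : orbOKT s t cl = true) (hs : s ≤ 16) {x : Ico}
    (hx : InI x) (h0 : nrm0 x = s) (h1 : nrm1 x = t) : ∃ u ∈ unitsL, ∃ c ∈ cl, x = Ico.mul u c := by
  simp only [orbOKT, Bool.and_eq_true, List.all_eq_true] at h
  obtain ⟨hbox, hall⟩ := h
  have hx' : x ∈ (genI s).filter fun p => nrm1 p == t := by
    rw [List.mem_filter]
    exact ⟨mem_genI hs hx h0, by simpa using h1⟩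
  have hk := KTree.mem_of_has_ofList (hall x hx')
  rw [List.mem_map] at hk
  obtain ⟨y, hy, hyk⟩ := hk
  have hyb := hbox y hy
  have hxb : inBox x = true := inBox_of_nrm0 (by rw [h0]; exact hs)
  have := keyOf_inj hyb hxb hyk
  subst this
  simp only [prods, List.mem_flatMap, List.mem_map] at hy
  obtain ⟨u, hu, c, hc, rfl⟩ := hy
  exact ⟨u, hu, c, hc, rfl⟩

end Cfsg.Agent.J2
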