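import Mathlib
import Cfsg.Agent.Lib.Lead.J2.OrbT

set_option autoImplicit false

namespace Cfsg.Agent.J2

open Quaternion Cfsg.Spor Ico

namespace Ico

/-- multiplicativity of the norm, in coordinates -/
theorem nrm_mul {p q : Ico} (hp : InI p) (hq : InI q) :
    4 * nrm0 (Ico.mul p q) = nrm0 p * nrm0 q + nrm1 p * nrm1 q ∧
    4 * nrm1 (Ico.mul p q) = nrm0 p * nrm1 q + nrm1 p * nrm0 q + nrm1 p * nrm1 q := by
  have h := congrArg Quaternion.normSq (emb_mul hp hq)
  rw [map_mul, normSq_emb, normSq_emb, normSq_emb] at h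
  have key := int_add_tau_eq_zero
    (a := 4 * nrm0 (Ico.mul p q) - (nrm0 p * nrm0 q + nrm1 p * nrm1 q))
    (b := 4 * nrm1 (Ico.mul p q) - (nrm0 p * nrm1 q + nrm1 p * nrm0 q + nrm1 p * nrm1 q)) (by
      push_cast
      have ht := tau_mul_tau
      linear_combination (16 : ℝ) * h + ((nrm1 p : ℝ) * nrm1 q) * ht)
  omega

theorem nrm0_nonneg (p : Ico) : 0 ≤ nrm0 p := by unfold nrm0; positivity

theorem nrm0_eq_zero {p : Ico} : nrm0 p = 0 ↔ p = 0 := by
  constructor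
  · intro h
    unfold nrm0 at h
    have q0 := sq_nonneg p.a0; have q1 := sq_nonneg p.a1; have q2 := sq_nonneg p.b0; have q3 := sq_nonneg p.b1
    have q4 := sq_nonneg p.c0; have q5 := sq_nonneg p.c1; have q6 := sq_nonneg p.d0; have q7 := sq_nonneg p.d1
    have e0 : p.a0 ^ 2 = 0 := by linarith
    have e1 : p.a1 ^ 2 = 0 := by linarith
    have e2 : p.b0 ^ 2 = 0 := by linarith
    have e3 : p.b1 ^ 2 = 0 := by linarith
    have e4 : p.c0 ^ 2 = 0 := by linarith
    have e5 : p.c1 ^ 2 = 0 := by linarith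
    have e6 : p.d0 ^ 2 = 0 := by linarith
    have e7 : p.d1 ^ 2 = 0 := by linarith
    ext <;> simp only [zero_def] <;> [exact pow_eq_zero_iff (by norm_num) |>.1 e0;
      exact pow_eq_zero_iff (by norm_num) |>.1 e1; exact pow_eq_zero_iff (by norm_num) |>.1 e2;
      exact pow_eq_zero_iff (by norm_num) |>.1 e3; exact pow_eq_zero_iff (by norm_num) |>.1 e4;
      exact pow_eq_zero_iff (by norm_num) |>.1 e5; exact pow_eq_zero_iff (by norm_num) |>.1 e6;
      exact pow_eq_zero_iff (by norm_num) |>.1 e7]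
  · rintro rfl; rfl

theorem nrm1_zero : nrm1 (0 : Ico) = 0 := rfl

end Ico

/-- the possible values of `nrm1` for a given small value of `nrm0` -/
def allowedS (s : ℤ) : List ℤ :=
  if s = 0 then [0] else if s = 4 then [0, 4] else if s = 8 then [-4, 0, 4, 8, 12] else []

def clsS (s : ℤ) : Bool := (genI s).all fun p => (allowedS s).contains (nrm1 p)

set_option maxRecDepth 100000 in
theorem clsS_all : (clsS 0 && clsS 1 && clsS 2 && clsS 3 && clsS 4 && clsS 5 && clsS 6 && clsS 7 &&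
    clsS 8 && clsS 9 && clsS 10 && clsS 11) = true := by decide +kernel

theorem nrm1_mem_allowedS {p : Ico} (hp : InI p) (h : nrm0 p ≤ 11) : nrm1 p ∈ allowedS (nrm0 p) := by
  have h0 := nrm0_nonneg p
  have hm := mem_genI (s := nrm0 p) (by omega) hp rfl
  have hall := clsS_all
  simp only [Bool.and_eq_true] at hall
  obtain ⟨⟨⟨⟨⟨⟨⟨⟨⟨⟨⟨c0, c1⟩, c2⟩, c3⟩, c4⟩, c5⟩, c6⟩, c7⟩, c8⟩, c9⟩, c10⟩, c11⟩ := hall
  have main : ∀ s : ℤ, clsS s = true → nrm0 p = s → nrm1 p ∈ allowedS (nrm0 p) := by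
    intro s hs e
    rw [clsS, List.all_eq_true] at hs
    have := hs p (e ▸ hm)
    rw [e]
    simpa using this
  generalize hs : nrm0 p = s at *
  interval_cases s
  · exact main 0 c0 rfl
  · exact main 1 c1 rfl
  · exact main 2 c2 rfl
  · exact main 3 c3 rfl
  · exact main 4 c4 rfl
  · exact main 5 c5 rfl
  · exact main 6 c6 rfl
  · exact main 7 c7 rfl
  · exact main 8 c8 rfl
  · exact main 9 c9 rfl
  · exact main 10 c10 rfl
  · exact main 11 c11 rfl

/-- small norms: `nrm0 ∈ {0, 4, 8}` -/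
theorem nrm0_small {p : Ico} (hp : InI p) (h : nrm0 p ≤ 11) :
    (nrm0 p = 0 ∧ nrm1 p = 0) ∨ (nrm0 p = 4 ∧ (nrm1 p = 0 ∨ nrm1 p = 4)) ∨
    (nrm0 p = 8 ∧ (nrm1 p = -4 ∨ nrm1 p = 0 ∨ nrm1 p = 4 ∨ nrm1 p = 8 ∨ nrm1 p = 12)) := by
  have h0 := nrm0_nonneg p
  have hm := nrm1_mem_allowedS hp h
  generalize hs : nrm0 p = s at *
  interval_cases s <;> simp [allowedS] at hm <;> omega

end Cfsg.Agent.J2
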