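import Mathlib
import Cfsg.Agent.Lib.Lead.J2.MinA

set_option autoImplicit false

namespace Cfsg.Agent.J2

open Quaternion Cfsg.Spor Ico

set_option maxRecDepth 100000 in
theorem orbOKT_40 : orbOKT 4 0 c40 = true := by decide +kernel
set_option maxRecDepth 100000 in
theorem orbOKT_44 : orbOKT 4 4 c44 = true := by decide +kernel
set_option maxRecDepth 100000 in
theorem orbOKT_80 : orbOKT 8 0 c80 = true := by decide +kernel
set_option maxRecDepth 100000 in
theorem orbOKT_8m4 : orbOKT 8 (-4) c8m4 = true := by decide +kernel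

/-- the properties of the listed units -/
def unitOK (u : Ico) : Bool := decide (InI u) && decide (nrm0 u = 4) && decide (nrm1 u = 0)

set_option maxRecDepth 100000 in
theorem unitsL_ok : unitsL.all unitOK = true := by decide +kernel

theorem unitsL_spec {u : Ico} (hu : u ∈ unitsL) : InI u ∧ nrm0 u = 4 ∧ nrm1 u = 0 := by
  have := unitsL_ok
  rw [List.all_eq_true] at this
  have h := this u hu
  simp only [unitOK, Bool.and_eq_true, decide_eq_true_eq] at h
  exact ⟨h.1.1, h.1.2, h.2⟩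

namespace Ico

theorem mul_mOne (p : Ico) : Ico.mul p mOne = p := by
  unfold Ico.mul mulRaw half mOne g0 g1
  ext <;> simp <;> omega

theorem mOne_mul (p : Ico) : Ico.mul mOne p = p := by
  unfold Ico.mul mulRaw half mOne g0 g1
  ext <;> simp <;> omega

theorem mul_assoc' {p q r : Ico} (hp : InI p) (hq : InI q) (hr : InI r) :
    Ico.mul (Ico.mul p q) r = Ico.mul p (Ico.mul q r) := by
  apply emb_injective
  rw [emb_mul (hp.mul' hq).1 hr, emb_mul hp hq, emb_mul hp (hq.mul' hr).1, emb_mul hq hr, mul_assoc]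

theorem mul_add' {p q r : Ico} (hp : InI p) (hq : InI q) (hr : InI r) :
    Ico.mul p (q + r) = Ico.mul p q + Ico.mul p r := by
  apply emb_injective
  rw [emb_mul hp (hq.add hr), emb_add, emb_add, emb_mul hp hq, emb_mul hp hr, mul_add]

theorem mul_sub' {p q r : Ico} (hp : InI p) (hq : InI q) (hr : InI r) :
    Ico.mul p (q - r) = Ico.mul p q - Ico.mul p r := by
  apply emb_injective
  rw [emb_mul hp (hq.sub hr), emb_sub, emb_sub, emb_mul hp hq, emb_mul hp hr, mul_sub]

theorem mul_zero' (p : Ico) : Ico.mul p 0 = 0 := by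
  unfold Ico.mul mulRaw half g0 g1
  ext <;> simp [zero_def]

/-- a unit: an icosian of norm one -/
def IsUnitI (u : Ico) : Prop := InI u ∧ nrm0 u = 4 ∧ nrm1 u = 0

theorem IsUnitI.conj {u : Ico} (hu : IsUnitI u) : IsUnitI (Ico.conj u) := by
  refine ⟨hu.1.conj, ?_, ?_⟩
  · rw [← hu.2.1]; unfold nrm0 Ico.conj; ring
  · rw [← hu.2.2]; unfold nrm1 Ico.conj; ring

theorem IsUnitI.star_mul {u : Ico} (hu : IsUnitI u) : star (emb u) * emb u = 1 := by
  rw [Quaternion.star_mul_self, normSq_emb, hu.2.1, hu.2.2]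
  norm_num

theorem IsUnitI.mul_star {u : Ico} (hu : IsUnitI u) : emb u * star (emb u) = 1 := by
  rw [Quaternion.self_mul_star, normSq_emb, hu.2.1, hu.2.2]
  norm_num

theorem IsUnitI.conj_mul_cancel {u : Ico} (hu : IsUnitI u) {x : Ico} (hx : InI x) :
    Ico.mul (Ico.conj u) (Ico.mul u x) = x := by
  apply emb_injective
  rw [emb_mul hu.1.conj (hu.1.mul' hx).1, emb_mul hu.1 hx, emb_conj, ← mul_assoc, hu.star_mul, one_mul]

theorem IsUnitI.mul_conj_cancel {u : Ico} (hu : IsUnitI u) {x : Ico} (hx : InI x) :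
    Ico.mul u (Ico.mul (Ico.conj u) x) = x := by
  apply emb_injective
  rw [emb_mul hu.1 (hu.1.conj.mul' hx).1, emb_mul hu.1.conj hx, emb_conj, ← mul_assoc, hu.mul_star, one_mul]

theorem IsUnitI.nrm_mul {u : Ico} (hu : IsUnitI u) {x : Ico} (hx : InI x) :
    nrm0 (Ico.mul u x) = nrm0 x ∧ nrm1 (Ico.mul u x) = nrm1 x := by
  have := Ico.nrm_mul hu.1 hx
  rw [hu.2.1, hu.2.2] at this
  omega

theorem IsUnitI.mul {u v : Ico} (hu : IsUnitI u) (hv : IsUnitI v) : IsUnitI (Ico.mul u v) := by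
  have := hu.nrm_mul hv.1
  exact ⟨(hu.1.mul' hv.1).1, by rw [this.1, hv.2.1], by rw [this.2, hv.2.2]⟩

end Ico

theorem isUnitI_of_mem {u : Ico} (hu : u ∈ unitsL) : IsUnitI u := unitsL_spec hu

theorem mem_unitsL_of {u : Ico} (hu : IsUnitI u) : u ∈ unitsL := by
  obtain ⟨w, hw, c, hc, e⟩ := exists_of_orbOKT orbOKT_40 (by norm_num) hu.1 hu.2.1 hu.2.2
  have hc' : c = mOne := by
    simp only [c40, List.mem_singleton] at hc
    rw [hc]; rfl
  rw [e, hc', mul_mOne]
  exact hw

end Cfsg.Agent.J2
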