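import Mathlib
import Cfsg.Agent.Lib.Lead.J2.MinB

set_option autoImplicit false

namespace Cfsg.Agent.J2

open Quaternion Cfsg.Spor Ico

/-! ### left ideals -/

theorem leftIdeal_zero (q : ℍ[ℝ]) : (0 : ℍ[ℝ]) ∈ leftIdeal q := ⟨0, Subring.zero_mem _, by simp⟩

theorem leftIdeal_add {q x y : ℍ[ℝ]} (hx : x ∈ leftIdeal q) (hy : y ∈ leftIdeal q) : x + y ∈ leftIdeal q := by
  obtain ⟨a, ha, rfl⟩ := hx
  obtain ⟨b, hb, rfl⟩ := hy
  exact ⟨a + b, Subring.add_mem _ ha hb, by rw [add_mul]⟩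

theorem leftIdeal_neg {q x : ℍ[ℝ]} (hx : x ∈ leftIdeal q) : -x ∈ leftIdeal q := by
  obtain ⟨a, ha, rfl⟩ := hx
  exact ⟨-a, Subring.neg_mem _ ha, by rw [neg_mul]⟩

theorem leftIdeal_sub {q x y : ℍ[ℝ]} (hx : x ∈ leftIdeal q) (hy : y ∈ leftIdeal q) : x - y ∈ leftIdeal q := by
  rw [sub_eq_add_neg]; exact leftIdeal_add hx (leftIdeal_neg hy)

theorem leftIdeal_mul {q a x : ℍ[ℝ]} (ha : a ∈ icosians) (hx : x ∈ leftIdeal q) : a * x ∈ leftIdeal q := by
  obtain ⟨b, hb, rfl⟩ := hx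
  exact ⟨a * b, Subring.mul_mem _ ha hb, by rw [mul_assoc]⟩

namespace Ico

/-- the two generators `h`, `h̄` of the ideals in the definition of the lattice -/
def IsH (q : Ico) : Prop := InI q ∧ emb q * star (emb q) = 2 ∧ star (emb q) * emb q = 2

theorem isH_mH : IsH mH :=
  ⟨by decide, by rw [emb_mH]; exact icoH_mul_star, by rw [emb_mH]; exact star_icoH_mul⟩

theorem isH_conj_mH : IsH (Ico.conj mH) :=
  ⟨by decide, by rw [emb_conj, emb_mH, star_star]; exact star_icoH_mul,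
    by rw [emb_conj, emb_mH, star_star]; exact icoH_mul_star⟩

theorem InLeft.iff {q : Ico} (hq : IsH q) {x : Ico} : InLeft q x ↔ emb x ∈ leftIdeal (emb q) :=
  (mem_leftIdeal_iff hq.2.1 hq.2.2).symm

theorem InLeft.zero {q : Ico} (hq : IsH q) : InLeft q 0 := by
  rw [InLeft.iff hq, emb_zero]; exact leftIdeal_zero _

theorem InLeft.add {q : Ico} (hq : IsH q) {x y : Ico} (hx : InLeft q x) (hy : InLeft q y) : InLeft q (x + y) := by
  rw [InLeft.iff hq] at *; rw [emb_add]; exact leftIdeal_add hx hy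

theorem InLeft.neg {q : Ico} (hq : IsH q) {x : Ico} (hx : InLeft q x) : InLeft q (-x) := by
  rw [InLeft.iff hq] at *; rw [emb_neg]; exact leftIdeal_neg hx

theorem InLeft.sub {q : Ico} (hq : IsH q) {x y : Ico} (hx : InLeft q x) (hy : InLeft q y) : InLeft q (x - y) := by
  rw [InLeft.iff hq] at *; rw [emb_sub]; exact leftIdeal_sub hx hy

theorem InLeft.mul_left {q : Ico} (hq : IsH q) {a x : Ico} (ha : InI a) (hxI : InI x) (hx : InLeft q x) :
    InLeft q (Ico.mul a x) := by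
  rw [InLeft.iff hq] at *
  rw [emb_mul ha hxI]
  exact leftIdeal_mul ((mem_icosians_iff _).2 ⟨a, ha, rfl⟩) hx

theorem InLeft.exists_mul {q : Ico} (hq : IsH q) {x : Ico} (hx : InLeft q x) :
    ∃ a, InI a ∧ x = Ico.mul a q := by
  rw [InLeft.iff hq] at hx
  obtain ⟨a', ha', e⟩ := hx
  obtain ⟨a, ha, rfl⟩ := (mem_icosians_iff a').1 ha'
  refine ⟨a, ha, ?_⟩
  apply emb_injective
  rw [e, emb_mul ha hq.1]

theorem sub_zero' (p : Ico) : p - 0 = p := by
  ext <;> simp [sub_def, zero_def]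

theorem zero_sub' (p : Ico) : 0 - p = -p := by
  ext <;> simp [sub_def, zero_def, neg_def]

theorem add_zero' (p : Ico) : p + 0 = p := by
  ext <;> simp [add_def, zero_def]

theorem zero_add' (p : Ico) : 0 + p = p := by
  ext <;> simp [add_def, zero_def]

theorem neg_neg' (p : Ico) : - -p = p := by
  ext <;> simp [neg_def]

end Ico

namespace V3

/-- left multiplication of a vector by a scalar -/
def smulL (a : Ico) (v : V3) : V3 := ⟨Ico.mul a v.x, Ico.mul a v.y, Ico.mul a v.z⟩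

/-- all coordinates are icosians -/
def AllI (v : V3) : Prop := InI v.x ∧ InI v.y ∧ InI v.z

theorem InLam.allI {v : V3} (h : InLam v) : AllI v := ⟨h.1, h.2.1, h.2.2.1⟩

theorem AllI.smulL {a : Ico} {v : V3} (ha : InI a) (hv : AllI v) : AllI (smulL a v) :=
  ⟨(ha.mul' hv.1).1, (ha.mul' hv.2.1).1, (ha.mul' hv.2.2).1⟩

theorem emb_smulL {a : Ico} {v : V3} (ha : InI a) (hv : AllI v) (t : Fin 3) :
    emb (smulL a v) t = Ico.emb a * emb v t := by
  fin_cases t
  · exact emb_mul ha hv.1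
  · exact emb_mul ha hv.2.1
  · exact emb_mul ha hv.2.2

theorem InLam.smulL {a : Ico} {v : V3} (ha : InI a) (hv : InLam v) : InLam (smulL a v) := by
  obtain ⟨hx, hy, hz, h1, h2, h3⟩ := hv
  refine ⟨(ha.mul' hx).1, (ha.mul' hy).1, (ha.mul' hz).1, ?_, ?_, ?_⟩
  · show InLeft mH (Ico.mul a v.x - Ico.mul a v.y)
    rw [← mul_sub' ha hx hy]
    exact InLeft.mul_left isH_mH ha (hx.sub hy) h1
  · show InLeft mH (Ico.mul a v.y - Ico.mul a v.z)
    rw [← mul_sub' ha hy hz]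
    exact InLeft.mul_left isH_mH ha (hy.sub hz) h2
  · show InLeft (Ico.conj mH) (Ico.mul a v.x + Ico.mul a v.y + Ico.mul a v.z)
    rw [← mul_add' ha hx hy, ← mul_add' ha (hx.add hy) hz]
    exact InLeft.mul_left isH_conj_mH ha ((hx.add hy).add hz) h3

theorem smulL_conj_smulL {u : Ico} (hu : IsUnitI u) {v : V3} (hv : AllI v) :
    smulL (Ico.conj u) (smulL u v) = v := by
  cases v
  simp only [smulL, mk.injEq]
  exact ⟨hu.conj_mul_cancel hv.1, hu.conj_mul_cancel hv.2.1, hu.conj_mul_cancel hv.2.2⟩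

theorem smulL_smulL_conj {u : Ico} (hu : IsUnitI u) {v : V3} (hv : AllI v) :
    smulL u (smulL (Ico.conj u) v) = v := by
  cases v
  simp only [smulL, mk.injEq]
  exact ⟨hu.mul_conj_cancel hv.1, hu.mul_conj_cancel hv.2.1, hu.mul_conj_cancel hv.2.2⟩

theorem n0_smulL {u : Ico} (hu : IsUnitI u) {v : V3} (hv : AllI v) : n0 (smulL u v) = n0 v := by
  simp only [n0, smulL, (hu.nrm_mul hv.1).1, (hu.nrm_mul hv.2.1).1, (hu.nrm_mul hv.2.2).1]

theorem n1_smulL {u : Ico} (hu : IsUnitI u) {v : V3} (hv : AllI v) : n1 (smulL u v) = n1 v := by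
  simp only [n1, smulL, (hu.nrm_mul hv.1).2, (hu.nrm_mul hv.2.1).2, (hu.nrm_mul hv.2.2).2]

/-- minimal vectors, in coordinates -/
def IsMinM (v : V3) : Prop := InLam v ∧ n0 v = 16 ∧ n1 v = 0

instance (v : V3) : Decidable (IsMinM v) := by unfold IsMinM; infer_instance

theorem IsMinM.smulL {u : Ico} (hu : IsUnitI u) {v : V3} (hv : IsMinM v) : IsMinM (smulL u v) :=
  ⟨hv.1.smulL hu.1, by rw [n0_smulL hu hv.1.allI, hv.2.1], by rw [n1_smulL hu hv.1.allI, hv.2.2]⟩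

/-- all the differences of the coordinates of a lattice vector lie in `I h` -/
theorem InLam.diffs {v : V3} (h : InLam v) :
    InLeft mH (v.x - v.y) ∧ InLeft mH (v.y - v.z) ∧ InLeft mH (v.x - v.z) := by
  refine ⟨h.2.2.2.1, h.2.2.2.2.1, ?_⟩
  have := InLeft.add isH_mH h.2.2.2.1 h.2.2.2.2.1
  have e : v.x - v.y + (v.y - v.z) = v.x - v.z := by
    ext <;> simp only [add_def, sub_def] <;> ring
  rwa [e] at this

end V3

end Cfsg.Agent.J2
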