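import Mathlib
import Cfsg.Agent.Lib.Lead.J2.MinC

set_option autoImplicit false

namespace Cfsg.Agent.J2

open Quaternion Cfsg.Spor Ico

namespace Ico

theorem neg_sub' (p q : Ico) : -(p - q) = q - p := by
  ext <;> simp [neg_def, sub_def]

theorem zero_mul' (p : Ico) : Ico.mul 0 p = 0 := by
  unfold Ico.mul mulRaw half g0 g1
  ext <;> simp [zero_def]

theorem nrm0_zero : nrm0 (0 : Ico) = 0 := rfl

end Ico

/-- a position in a triple -/
inductive Pos where
  | p0 | p1 | p2
deriving DecidableEq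

/-- the three positions -/
def Pos.all : List Pos := [Pos.p0, Pos.p1, Pos.p2]

theorem Pos.mem_all (p : Pos) : p ∈ Pos.all := by cases p <;> simp [Pos.all]

namespace V3

/-- the triple with `c` at position `p` and `y`, `z` at the other two, in order -/
def place : Pos → Ico → Ico → Ico → V3
  | Pos.p0, c, y, z => ⟨c, y, z⟩
  | Pos.p1, c, y, z => ⟨y, c, z⟩
  | Pos.p2, c, y, z => ⟨y, z, c⟩

theorem smulL_place (a : Ico) (p : Pos) (c y z : Ico) :
    smulL a (place p c y z) = place p (Ico.mul a c) (Ico.mul a y) (Ico.mul a z) := by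
  cases p <;> rfl

theorem n0_place (p : Pos) (c y z : Ico) : n0 (place p c y z) = nrm0 c + nrm0 y + nrm0 z := by
  cases p <;> simp only [n0, place] <;> ring

theorem n1_place (p : Pos) (c y z : Ico) : n1 (place p c y z) = nrm1 c + nrm1 y + nrm1 z := by
  cases p <;> simp only [n1, place] <;> ring

theorem allI_place {p : Pos} {c y z : Ico} (h : AllI (place p c y z)) : InI c ∧ InI y ∧ InI z := by
  cases p
  · exact h
  · exact ⟨h.2.1, h.1, h.2.2⟩
  · exact ⟨h.2.2, h.1, h.2.1⟩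

/-- in a lattice vector the differences with the coordinate at `p` lie in `I h` -/
theorem InLam.place_diffs {p : Pos} {c y z : Ico} (h : InLam (place p c y z)) :
    InLeft mH (c - y) ∧ InLeft mH (c - z) := by
  obtain ⟨d1, d2, d3⟩ := h.diffs
  cases p
  · exact ⟨d1, d3⟩
  · simp only [place] at d1 d2 d3
    refine ⟨?_, d2⟩
    have := InLeft.neg isH_mH d1
    rwa [neg_sub'] at this
  · simp only [place] at d1 d2 d3
    have h3 := InLeft.neg isH_mH d3
    have h2 := InLeft.neg isH_mH d2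
    rw [neg_sub'] at h3 h2
    exact ⟨h3, h2⟩

/-- if one coordinate vanishes, the others lie in `I h` -/
theorem InLam.place_zero {p : Pos} {y z : Ico} (h : InLam (place p 0 y z)) :
    InLeft mH y ∧ InLeft mH z := by
  obtain ⟨e1, e2⟩ := h.place_diffs
  rw [zero_sub'] at e1 e2
  have f1 := InLeft.neg isH_mH e1
  have f2 := InLeft.neg isH_mH e2
  rw [neg_neg'] at f1 f2
  exact ⟨f1, f2⟩

/-! ### the candidates -/

/-- one nonzero coordinate -/
def candA1 : List V3 := Pos.all.flatMap fun p => c80.map fun c => place p (Ico.mul c mH) 0 0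

/-- two nonzero coordinates -/
def candA2 : List V3 := Pos.all.flatMap fun q => unitsL.map fun w => place q 0 mH (Ico.mul w mH)

/-- norms `2, 1, 1` -/
def candB1 : List V3 := Pos.all.flatMap fun p => c80.flatMap fun c =>
  (unitsL.filter fun y => decide (InLeft mH (c - y))).flatMap fun y =>
    (unitsL.filter fun z => decide (InLeft mH (c - z))).map fun z => place p c y z

/-- norms `σ², 1, τ²` -/
def candB2 : List V3 := Pos.all.flatMap fun p => c8m4.flatMap fun c =>
  ((unitsL.filter fun y => decide (InLeft mH (c - y))).flatMap fun y =>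
    ((prods c44).filter fun z => decide (InLeft mH (c - z))).map fun z => place p c y z) ++
  (((prods c44).filter fun y => decide (InLeft mH (c - y))).flatMap fun y =>
    (unitsL.filter fun z => decide (InLeft mH (c - z))).map fun z => place p c y z)

/-- the enumeration of the representatives of the lines -/
def linesEnum : List V3 := (candA1 ++ candA2 ++ candB1 ++ candB2).filter fun v => decide (InLam v)

theorem rep_of_cand {v : V3} (hv : IsMinM v) {u : Ico} (hu : IsUnitI u)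
    (h : smulL (Ico.conj u) v ∈ candA1 ++ candA2 ++ candB1 ++ candB2) :
    ∃ u ∈ unitsL, ∃ r ∈ linesEnum, v = smulL u r := by
  refine ⟨u, mem_unitsL_of hu, smulL (Ico.conj u) v, ?_, (smulL_smulL_conj hu hv.1.allI).symm⟩
  rw [linesEnum, List.mem_filter]
  exact ⟨h, by simpa using (hv.smulL hu.conj).1⟩

theorem mem_prods {cl : List Ico} {u c : Ico} (hu : u ∈ unitsL) (hc : c ∈ cl) : Ico.mul u c ∈ prods cl := by
  simp only [prods, List.mem_flatMap, List.mem_map]
  exact ⟨u, hu, c, hc, rfl⟩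

set_option maxRecDepth 100000 in
theorem reps_InI : (c80.all fun c => decide (InI c)) = true ∧ (c8m4.all fun c => decide (InI c)) = true ∧
    (c44.all fun c => decide (InI c)) = true := by decide +kernel

theorem orbit80 {x : Ico} (hx : InI x) (h0 : nrm0 x = 8) (h1 : nrm1 x = 0) :
    ∃ u c, IsUnitI u ∧ c ∈ c80 ∧ InI c ∧ x = Ico.mul u c := by
  obtain ⟨u, hu, c, hc, e⟩ := exists_of_orbOKT orbOKT_80 (by norm_num) hx h0 h1
  have := reps_InI.1
  rw [List.all_eq_true] at this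
  exact ⟨u, c, isUnitI_of_mem hu, hc, by simpa using this c hc, e⟩

theorem orbit8m4 {x : Ico} (hx : InI x) (h0 : nrm0 x = 8) (h1 : nrm1 x = -4) :
    ∃ u c, IsUnitI u ∧ c ∈ c8m4 ∧ InI c ∧ x = Ico.mul u c := by
  obtain ⟨u, hu, c, hc, e⟩ := exists_of_orbOKT orbOKT_8m4 (by norm_num) hx h0 h1
  have := reps_InI.2.1
  rw [List.all_eq_true] at this
  exact ⟨u, c, isUnitI_of_mem hu, hc, by simpa using this c hc, e⟩

theorem mem_prods44 {x : Ico} (hx : InI x) (h0 : nrm0 x = 4) (h1 : nrm1 x = 4) : x ∈ prods c44 := by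
  obtain ⟨u, hu, c, hc, e⟩ := exists_of_orbOKT orbOKT_44 (by norm_num) hx h0 h1
  rw [e]; exact mem_prods hu hc

/-- case A: a coordinate vanishes -/
theorem rep_caseA {q : Pos} {y z : Ico} (hv : IsMinM (place q 0 y z)) :
    ∃ u ∈ unitsL, ∃ r ∈ linesEnum, place q 0 y z = smulL u r := by
  obtain ⟨hy, hz⟩ := hv.1.place_zero
  obtain ⟨a, ha, rfl⟩ := InLeft.exists_mul isH_mH hy
  obtain ⟨b, hb, rfl⟩ := InLeft.exists_mul isH_mH hz
  have hHI : InI mH := isH_mH.1
  have hH0 : nrm0 mH = 8 := by decide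
  have hH1 : nrm1 mH = 0 := by decide
  have na := Ico.nrm_mul ha hHI
  have nb := Ico.nrm_mul hb hHI
  rw [hH0, hH1] at na nb
  have e0 := hv.2.1
  have e1 := hv.2.2
  rw [n0_place, nrm0_zero] at e0
  rw [n1_place, nrm1_zero] at e1
  have pa := nrm0_nonneg a
  have pb := nrm0_nonneg b
  have sa := nrm0_small ha (by omega)
  have sb := nrm0_small hb (by omega)
  rcases sa with ⟨sa0, ta0⟩ | ⟨sa0, ta0⟩ | ⟨sa0, ta0⟩
  · -- a = 0
    have ha0 : a = 0 := nrm0_eq_zero.1 sa0
    subst ha0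
    have hb8 : nrm0 b = 8 ∧ nrm1 b = 0 := by omega
    obtain ⟨u, c, hu, hc, hcI, rfl⟩ := orbit80 hb hb8.1 hb8.2
    apply rep_of_cand hv hu
    have hX : InI (Ico.mul c mH) := (hcI.mul' hHI).1
    have e : smulL (Ico.conj u) (place q 0 (Ico.mul 0 mH) (Ico.mul (Ico.mul u c) mH)) =
        place q 0 0 (Ico.mul c mH) := by
      rw [smulL_place, zero_mul', mul_zero', mul_assoc' hu.1 hcI hHI, hu.conj_mul_cancel hX]
    rw [e]
    simp only [List.mem_append]
    left; left; left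
    simp only [candA1, List.mem_flatMap, List.mem_map]
    cases q
    · exact ⟨Pos.p2, Pos.mem_all _, c, hc, rfl⟩
    · exact ⟨Pos.p2, Pos.mem_all _, c, hc, rfl⟩
    · exact ⟨Pos.p1, Pos.mem_all _, c, hc, rfl⟩
  · -- both units
    have hau : IsUnitI a := ⟨ha, sa0, by omega⟩
    have hbu : IsUnitI b := ⟨hb, by omega, by omega⟩
    apply rep_of_cand hv hau
    have e : smulL (Ico.conj a) (place q 0 (Ico.mul a mH) (Ico.mul b mH)) =
        place q 0 mH (Ico.mul (Ico.mul (Ico.conj a) b) mH) := by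
      rw [smulL_place, mul_zero', hau.conj_mul_cancel hHI, mul_assoc' hau.1.conj hb hHI]
    rw [e]
    simp only [List.mem_append]
    left; left; right
    simp only [candA2, List.mem_flatMap, List.mem_map]
    exact ⟨q, Pos.mem_all _, _, mem_unitsL_of (hau.conj.mul hbu), rfl⟩
  · -- b = 0
    have sb0 : nrm0 b = 0 := by omega
    have hb0 : b = 0 := nrm0_eq_zero.1 sb0
    subst hb0
    have ha8 : nrm1 a = 0 := by
      have : nrm1 (0 : Ico) = 0 := rfl
      omega
    obtain ⟨u, c, hu, hc, hcI, rfl⟩ := orbit80 ha sa0 ha8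
    apply rep_of_cand hv hu
    have hX : InI (Ico.mul c mH) := (hcI.mul' hHI).1
    have e : smulL (Ico.conj u) (place q 0 (Ico.mul (Ico.mul u c) mH) (Ico.mul 0 mH)) =
        place q 0 (Ico.mul c mH) 0 := by
      rw [smulL_place, zero_mul', mul_zero', mul_assoc' hu.1 hcI hHI, hu.conj_mul_cancel hX]
    rw [e]
    simp only [List.mem_append]
    left; left; left
    simp only [candA1, List.mem_flatMap, List.mem_map]
    cases q
    · exact ⟨Pos.p1, Pos.mem_all _, c, hc, rfl⟩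
    · exact ⟨Pos.p0, Pos.mem_all _, c, hc, rfl⟩
    · exact ⟨Pos.p0, Pos.mem_all _, c, hc, rfl⟩

/-- case B: no coordinate vanishes -/
theorem rep_caseB {p : Pos} {c y z : Ico} (hv : IsMinM (place p c y z)) (hc : nrm0 c = 8)
    (hy : nrm0 y = 4) (hz : nrm0 z = 4) :
    ∃ u ∈ unitsL, ∃ r ∈ linesEnum, place p c y z = smulL u r := by
  obtain ⟨hcI, hyI, hzI⟩ := allI_place hv.1.allI
  have e1 := hv.2.2
  rw [n1_place] at e1
  have sc := nrm0_small hcI (by omega)
  have sy := nrm0_small hyI (by omega)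
  have sz := nrm0_small hzI (by omega)
  have cases3 : (nrm1 c = 0 ∧ nrm1 y = 0 ∧ nrm1 z = 0) ∨ (nrm1 c = -4 ∧ nrm1 y = 0 ∧ nrm1 z = 4) ∨
      (nrm1 c = -4 ∧ nrm1 y = 4 ∧ nrm1 z = 0) := by omega
  rcases cases3 with ⟨tc, ty, tz⟩ | ⟨tc, ty, tz⟩ | ⟨tc, ty, tz⟩
  · obtain ⟨u, c0, hu, hc0, hc0I, rfl⟩ := orbit80 hcI hc tc
    apply rep_of_cand hv hu
    have hmin := hv.smulL hu.conj
    rw [smulL_place, hu.conj_mul_cancel hc0I] at hmin ⊢
    obtain ⟨d1, d2⟩ := hmin.1.place_diffs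
    have hy' : IsUnitI (Ico.mul (Ico.conj u) y) := hu.conj.mul ⟨hyI, hy, ty⟩
    have hz' : IsUnitI (Ico.mul (Ico.conj u) z) := hu.conj.mul ⟨hzI, hz, tz⟩
    simp only [List.mem_append]
    left; right
    simp only [candB1, List.mem_flatMap, List.mem_map, List.mem_filter, decide_eq_true_eq]
    exact ⟨p, Pos.mem_all _, c0, hc0, _, ⟨mem_unitsL_of hy', d1⟩, _, ⟨mem_unitsL_of hz', d2⟩, rfl⟩
  · obtain ⟨u, c0, hu, hc0, hc0I, rfl⟩ := orbit8m4 hcI hc tc
    apply rep_of_cand hv hu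
    have hmin := hv.smulL hu.conj
    rw [smulL_place, hu.conj_mul_cancel hc0I] at hmin ⊢
    obtain ⟨d1, d2⟩ := hmin.1.place_diffs
    have hy' : IsUnitI (Ico.mul (Ico.conj u) y) := hu.conj.mul ⟨hyI, hy, ty⟩
    have nz := hu.conj.nrm_mul hzI
    have hz' : Ico.mul (Ico.conj u) z ∈ prods c44 :=
      mem_prods44 (hu.1.conj.mul' hzI).1 (by rw [nz.1, hz]) (by rw [nz.2, tz])
    simp only [List.mem_append]
    right
    simp only [candB2, List.mem_flatMap, List.mem_map, List.mem_filter, decide_eq_true_eq, List.mem_append]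
    exact ⟨p, Pos.mem_all _, c0, hc0, Or.inl ⟨_, ⟨mem_unitsL_of hy', d1⟩, _, ⟨hz', d2⟩, rfl⟩⟩
  · obtain ⟨u, c0, hu, hc0, hc0I, rfl⟩ := orbit8m4 hcI hc tc
    apply rep_of_cand hv hu
    have hmin := hv.smulL hu.conj
    rw [smulL_place, hu.conj_mul_cancel hc0I] at hmin ⊢
    obtain ⟨d1, d2⟩ := hmin.1.place_diffs
    have hz' : IsUnitI (Ico.mul (Ico.conj u) z) := hu.conj.mul ⟨hzI, hz, tz⟩
    have ny := hu.conj.nrm_mul hyI
    have hy' : Ico.mul (Ico.conj u) y ∈ prods c44 :=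
      mem_prods44 (hu.1.conj.mul' hyI).1 (by rw [ny.1, hy]) (by rw [ny.2, ty])
    simp only [List.mem_append]
    right
    simp only [candB2, List.mem_flatMap, List.mem_map, List.mem_filter, decide_eq_true_eq, List.mem_append]
    exact ⟨p, Pos.mem_all _, c0, hc0, Or.inr ⟨_, ⟨hy', d1⟩, _, ⟨mem_unitsL_of hz', d2⟩, rfl⟩⟩

/-- **every minimal vector is a unit multiple of an enumerated representative** -/
theorem exists_rep {v : V3} (hv : IsMinM v) : ∃ u ∈ unitsL, ∃ r ∈ linesEnum, v = smulL u r := by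
  obtain ⟨x, y, z⟩ := v
  by_cases hx : x = 0
  · subst hx; exact rep_caseA (q := Pos.p0) hv
  by_cases hy : y = 0
  · subst hy; exact rep_caseA (q := Pos.p1) (y := x) (z := z) hv
  by_cases hz : z = 0
  · subst hz; exact rep_caseA (q := Pos.p2) (y := x) (z := y) hv
  have hxI : InI x := hv.1.allI.1
  have hyI : InI y := hv.1.allI.2.1
  have hzI : InI z := hv.1.allI.2.2
  have e0 : nrm0 x + nrm0 y + nrm0 z = 16 := hv.2.1
  have px := nrm0_nonneg x
  have py := nrm0_nonneg y
  have pz := nrm0_nonneg z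
  have nx : nrm0 x ≠ 0 := fun h => hx (nrm0_eq_zero.1 h)
  have ny : nrm0 y ≠ 0 := fun h => hy (nrm0_eq_zero.1 h)
  have nz : nrm0 z ≠ 0 := fun h => hz (nrm0_eq_zero.1 h)
  have bx : nrm0 x ≤ 11 := by
    by_contra h
    have := nrm0_small hyI (by omega)
    omega
  have by' : nrm0 y ≤ 11 := by
    by_contra h
    have := nrm0_small hxI (by omega)
    omega
  have bz : nrm0 z ≤ 11 := by
    by_contra h
    have := nrm0_small hxI (by omega)
    omega
  have sx := nrm0_small hxI bx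
  have sy := nrm0_small hyI by'
  have sz := nrm0_small hzI bz
  have cases3 : (nrm0 x = 8 ∧ nrm0 y = 4 ∧ nrm0 z = 4) ∨ (nrm0 x = 4 ∧ nrm0 y = 8 ∧ nrm0 z = 4) ∨
      (nrm0 x = 4 ∧ nrm0 y = 4 ∧ nrm0 z = 8) := by omega
  rcases cases3 with ⟨h1, h2, h3⟩ | ⟨h1, h2, h3⟩ | ⟨h1, h2, h3⟩
  · exact rep_caseB (p := Pos.p0) (c := x) (y := y) (z := z) hv h1 h2 h3
  · exact rep_caseB (p := Pos.p1) (c := y) (y := x) (z := z) hv h2 h1 h3
  · exact rep_caseB (p := Pos.p2) (c := z) (y := x) (z := y) hv h3 h1 h2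

end V3

end Cfsg.Agent.J2
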