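import Mathlib
import Cfsg.Agent.Lib.Lead.J2.MinD
import Cfsg.Agent.Lib.Lead.J2.LinesData

set_option autoImplicit false

namespace Cfsg.Agent.J2

open Quaternion Cfsg.Spor Ico

/-! ### lists of keys -/

/-- equality of lists of natural numbers -/
def beqL : List ℕ → List ℕ → Bool
  | [], [] => true
  | a :: l, b :: m => Nat.beq a b && beqL l m
  | [], _ :: _ => false
  | _ :: _, [] => false

theorem beqL_iff : ∀ {a b : List ℕ}, beqL a b = true ↔ a = b
  | [], [] => by simp [beqL]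
  | [], _ :: _ => by simp [beqL]
  | _ :: _, [] => by simp [beqL]
  | a :: l, b :: m => by
    simp only [beqL, Bool.and_eq_true, List.cons.injEq, beqL_iff (a := l) (b := m)]
    constructor
    · rintro ⟨h1, h2⟩; exact ⟨Nat.eq_of_beq_eq_true h1, h2⟩
    · rintro ⟨rfl, h2⟩; exact ⟨Nat.beq_refl a, h2⟩

def memLL (a : List ℕ) : List (List ℕ) → Bool
  | [] => false
  | b :: l => beqL a b || memLL a l

theorem mem_of_memLL {a : List ℕ} : ∀ {l : List (List ℕ)}, memLL a l = true → a ∈ l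
  | [], h => by simp [memLL] at h
  | b :: l, h => by
    simp only [memLL, Bool.or_eq_true] at h
    rcases h with h | h
    · rw [beqL_iff.1 h]; exact List.mem_cons_self
    · exact List.mem_cons_of_mem _ (mem_of_memLL h)

def distinctFrom (a : List ℕ) : List (List ℕ) → Bool
  | [] => true
  | b :: l => !(beqL a b) && distinctFrom a l

def allDistinct : List (List ℕ) → Bool
  | [] => true
  | a :: l => distinctFrom a l && allDistinct l

theorem not_mem_of_distinctFrom {a : List ℕ} : ∀ {l : List (List ℕ)}, distinctFrom a l = true → a ∉ l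
  | [], _ => by simp
  | b :: l, h => by
    simp only [distinctFrom, Bool.and_eq_true, Bool.not_eq_true'] at h
    intro hm
    rcases List.mem_cons.1 hm with rfl | hm
    · have : beqL a a = true := beqL_iff.2 rfl
      rw [this] at h; exact Bool.noConfusion h.1
    · exact not_mem_of_distinctFrom h.2 hm

theorem nodup_of_allDistinct : ∀ {l : List (List ℕ)}, allDistinct l = true → l.Nodup
  | [], _ => List.nodup_nil
  | a :: l, h => by
    simp only [allDistinct, Bool.and_eq_true] at h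
    exact List.nodup_cons.2 ⟨not_mem_of_distinctFrom h.1, nodup_of_allDistinct h.2⟩

/-! ### a larger box -/

/-- all coordinates in `[-8, 8]` -/
def inBox8 (p : Ico) : Bool :=
  decide (-8 ≤ p.a0 ∧ p.a0 ≤ 8 ∧ -8 ≤ p.a1 ∧ p.a1 ≤ 8 ∧ -8 ≤ p.b0 ∧ p.b0 ≤ 8 ∧ -8 ≤ p.b1 ∧ p.b1 ≤ 8 ∧
    -8 ≤ p.c0 ∧ p.c0 ≤ 8 ∧ -8 ≤ p.c1 ∧ p.c1 ≤ 8 ∧ -8 ≤ p.d0 ∧ p.d0 ≤ 8 ∧ -8 ≤ p.d1 ∧ p.d1 ≤ 8)

/-- a numerical key, injective on the larger box -/
def key17 (p : Ico) : ℕ :=
  (p.a0 + 8).toNat + 17 * ((p.a1 + 8).toNat + 17 * ((p.b0 + 8).toNat + 17 * ((p.b1 + 8).toNat +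
    17 * ((p.c0 + 8).toNat + 17 * ((p.c1 + 8).toNat + 17 * ((p.d0 + 8).toNat + 17 * (p.d1 + 8).toNat))))))

theorem digit_split17 {a b r r' : ℕ} (ha : a < 17) (hb : b < 17) (h : a + 17 * r = b + 17 * r') :
    a = b ∧ r = r' := by omega

theorem toNat_inj_box8 {x y : ℤ} (hx : -8 ≤ x) (hy : -8 ≤ y) (h : (x + 8).toNat = (y + 8).toNat) : x = y := by
  omega

theorem toNat_lt_17 {x : ℤ} (h1 : -8 ≤ x) (h2 : x ≤ 8) : (x + 8).toNat < 17 := by omega

theorem key17_inj {p q : Ico} (hp : inBox8 p = true) (hq : inBox8 q = true) (h : key17 p = key17 q) : p = q := by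
  simp only [inBox8, decide_eq_true_eq] at hp hq
  obtain ⟨p0, p0', p1, p1', p2, p2', p3, p3', p4, p4', p5, p5', p6, p6', p7, p7'⟩ := hp
  obtain ⟨q0, q0', q1, q1', q2, q2', q3, q3', q4, q4', q5, q5', q6, q6', q7, q7'⟩ := hq
  unfold key17 at h
  obtain ⟨e0, h⟩ := digit_split17 (toNat_lt_17 p0 p0') (toNat_lt_17 q0 q0') h
  obtain ⟨e1, h⟩ := digit_split17 (toNat_lt_17 p1 p1') (toNat_lt_17 q1 q1') h
  obtain ⟨e2, h⟩ := digit_split17 (toNat_lt_17 p2 p2') (toNat_lt_17 q2 q2') h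
  obtain ⟨e3, h⟩ := digit_split17 (toNat_lt_17 p3 p3') (toNat_lt_17 q3 q3') h
  obtain ⟨e4, h⟩ := digit_split17 (toNat_lt_17 p4 p4') (toNat_lt_17 q4 q4') h
  obtain ⟨e5, h⟩ := digit_split17 (toNat_lt_17 p5 p5') (toNat_lt_17 q5 q5') h
  obtain ⟨e6, h⟩ := digit_split17 (toNat_lt_17 p6 p6') (toNat_lt_17 q6 q6') h
  ext
  · exact toNat_inj_box8 p0 q0 e0
  · exact toNat_inj_box8 p1 q1 e1
  · exact toNat_inj_box8 p2 q2 e2
  · exact toNat_inj_box8 p3 q3 e3
  · exact toNat_inj_box8 p4 q4 e4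
  · exact toNat_inj_box8 p5 q5 e5
  · exact toNat_inj_box8 p6 q6 e6
  · exact toNat_inj_box8 p7 q7 h

namespace V3

/-- the keys of the coordinates -/
def keys (v : V3) : List ℕ := [keyOf v.x, keyOf v.y, keyOf v.z]

def inBox3 (v : V3) : Bool := inBox v.x && inBox v.y && inBox v.z

theorem keys_inj {v w : V3} (hv : inBox3 v = true) (hw : inBox3 w = true) (h : keys v = keys w) : v = w := by
  simp only [inBox3, Bool.and_eq_true] at hv hw
  simp only [keys, List.cons.injEq, and_true] at h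
  cases v; cases w
  simp only [mk.injEq]
  exact ⟨keyOf_inj hv.1.1 hw.1.1 h.1, keyOf_inj hv.1.2 hw.1.2 h.2.1, keyOf_inj hv.2 hw.2 h.2.2⟩

theorem inBox3_of_min {v : V3} (hv : IsMinM v) : inBox3 v = true := by
  have e0 : nrm0 v.x + nrm0 v.y + nrm0 v.z = 16 := hv.2.1
  have px := nrm0_nonneg v.x
  have py := nrm0_nonneg v.y
  have pz := nrm0_nonneg v.z
  simp only [inBox3, Bool.and_eq_true]
  exact ⟨⟨inBox_of_nrm0 (by omega), inBox_of_nrm0 (by omega)⟩, inBox_of_nrm0 (by omega)⟩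

/-- the products `r̄_t r_s`: an invariant of the line of `r` -/
def sigV (r : V3) : List Ico :=
  [Ico.mul (Ico.conj r.x) r.x, Ico.mul (Ico.conj r.x) r.y, Ico.mul (Ico.conj r.x) r.z,
   Ico.mul (Ico.conj r.y) r.x, Ico.mul (Ico.conj r.y) r.y, Ico.mul (Ico.conj r.y) r.z,
   Ico.mul (Ico.conj r.z) r.x, Ico.mul (Ico.conj r.z) r.y, Ico.mul (Ico.conj r.z) r.z]

def sigKeys (r : V3) : List ℕ := (sigV r).map key17

def sigBox (r : V3) : Bool := (sigV r).all inBox8

end V3

open V3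

set_option maxRecDepth 100000 in
theorem linesL_min : (linesL.all fun r => decide (IsMinM r)) = true := by decide +kernel

set_option maxRecDepth 100000 in
theorem linesL_length : linesL.length = 315 := by decide +kernel

set_option maxRecDepth 100000 in
theorem sig_ok : (linesL.all sigBox && allDistinct (linesL.map sigKeys)) = true := by decide +kernel

set_option maxRecDepth 100000 in
theorem units_distinct : allDistinct (unitsL.map fun u => [keyOf u]) = true := by decide +kernel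

set_option maxRecDepth 100000 in
theorem unitsL_length : unitsL.length = 120 := by decide +kernel

end Cfsg.Agent.J2
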