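import Mathlib
import Cfsg.Agent.Lib.Lead.J2.MinE

set_option autoImplicit false

namespace Cfsg.Agent.J2

open Quaternion Cfsg.Spor Ico V3

set_option maxRecDepth 100000 in
theorem enum_sub : (linesEnum.all fun r => inBox3 r && memLL (keys r) (linesL.map keys)) = true := by
  decide +kernel

theorem isMinM_of_mem_linesL {r : V3} (hr : r ∈ linesL) : IsMinM r := by
  have := linesL_min
  rw [List.all_eq_true] at this
  simpa using this r hr

theorem mem_linesL_of_enum {r : V3} (hr : r ∈ linesEnum) : r ∈ linesL := by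
  have := enum_sub
  rw [List.all_eq_true] at this
  have h := this r hr
  rw [Bool.and_eq_true] at h
  have hk := mem_of_memLL h.2
  rw [List.mem_map] at hk
  obtain ⟨r', hr', e⟩ := hk
  have : r' = r := keys_inj (inBox3_of_min (isMinM_of_mem_linesL hr')) h.1 e
  rw [← this]; exact hr'

/-- **every minimal vector is a unit multiple of a listed representative** -/
theorem exists_line {v : V3} (hv : IsMinM v) : ∃ u ∈ unitsL, ∃ r ∈ linesL, v = smulL u r := by
  obtain ⟨u, hu, r, hr, e⟩ := exists_rep hv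
  exact ⟨u, hu, r, mem_linesL_of_enum hr, e⟩

theorem isMinM_smulL_line {u : Ico} {r : V3} (hu : u ∈ unitsL) (hr : r ∈ linesL) : IsMinM (smulL u r) :=
  (isMinM_of_mem_linesL hr).smulL (isUnitI_of_mem hu)

namespace Ico

theorem conj_mul_mul {u : Ico} (hu : IsUnitI u) {a b : Ico} (ha : InI a) (hb : InI b) :
    Ico.mul (Ico.conj (Ico.mul u a)) (Ico.mul u b) = Ico.mul (Ico.conj a) b := by
  apply emb_injective
  rw [emb_mul (hu.1.mul' ha).1.conj (hu.1.mul' hb).1, emb_conj, emb_mul hu.1 ha, emb_mul hu.1 hb,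
    emb_mul ha.conj hb, emb_conj, star_mul, mul_assoc, ← mul_assoc (star (emb u)), hu.star_mul, one_mul]

end Ico

theorem sigV_smulL {u : Ico} (hu : IsUnitI u) {r : V3} (hr : AllI r) : sigV (smulL u r) = sigV r := by
  obtain ⟨hx, hy, hz⟩ := hr
  simp only [sigV, smulL, conj_mul_mul hu hx hx, conj_mul_mul hu hx hy, conj_mul_mul hu hx hz,
    conj_mul_mul hu hy hx, conj_mul_mul hu hy hy, conj_mul_mul hu hy hz,
    conj_mul_mul hu hz hx, conj_mul_mul hu hz hy, conj_mul_mul hu hz hz]

theorem sigKeys_nodup : (linesL.map sigKeys).Nodup := by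
  have := sig_ok
  rw [Bool.and_eq_true] at this
  exact nodup_of_allDistinct this.2

theorem sigV_inj_on {r r' : V3} (hr : r ∈ linesL) (hr' : r' ∈ linesL) (h : sigV r = sigV r') : r = r' := by
  apply List.inj_on_of_nodup_map sigKeys_nodup hr hr'
  rw [sigKeys, sigKeys, h]

theorem linesL_nodup : linesL.Nodup := (List.Nodup.of_map _ sigKeys_nodup)

theorem unitsL_nodup : unitsL.Nodup := by
  have := nodup_of_allDistinct units_distinct
  exact List.Nodup.of_map _ this

/-- a representative is not zero -/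
theorem exists_ne_zero {r : V3} (hr : IsMinM r) : r.x ≠ 0 ∨ r.y ≠ 0 ∨ r.z ≠ 0 := by
  by_contra h
  push Not at h
  obtain ⟨h1, h2, h3⟩ := h
  have e0 : nrm0 r.x + nrm0 r.y + nrm0 r.z = 16 := hr.2.1
  rw [h1, h2, h3] at e0
  have : nrm0 (0 : Ico) = 0 := rfl
  omega

theorem mul_right_cancel' {u u' c : Ico} (hu : InI u) (hu' : InI u') (hc : InI c) (hc0 : c ≠ 0)
    (h : Ico.mul u c = Ico.mul u' c) : u = u' := by
  have h' := congrArg Ico.emb h
  rw [emb_mul hu hc, emb_mul hu' hc] at h'
  have hne : Ico.emb c ≠ 0 := fun e => hc0 (emb_eq_zero.1 e)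
  exact Ico.emb_injective (mul_right_cancel₀ hne h')

theorem smulL_inj {u u' : Ico} {r r' : V3} (hu : u ∈ unitsL) (hu' : u' ∈ unitsL) (hr : r ∈ linesL)
    (hr' : r' ∈ linesL) (h : smulL u r = smulL u' r') : u = u' ∧ r = r' := by
  have hm := isMinM_of_mem_linesL hr
  have hm' := isMinM_of_mem_linesL hr'
  have hU := isUnitI_of_mem hu
  have hU' := isUnitI_of_mem hu'
  have e : r = r' := by
    apply sigV_inj_on hr hr'
    rw [← sigV_smulL hU hm.1.allI, h, sigV_smulL hU' hm'.1.allI]
  subst e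
  refine ⟨?_, rfl⟩
  have hx := congrArg V3.x h
  have hy := congrArg V3.y h
  have hz := congrArg V3.z h
  simp only [smulL] at hx hy hz
  rcases exists_ne_zero hm with h0 | h0 | h0
  · exact mul_right_cancel' hU.1 hU'.1 hm.1.allI.1 h0 hx
  · exact mul_right_cancel' hU.1 hU'.1 hm.1.allI.2.1 h0 hy
  · exact mul_right_cancel' hU.1 hU'.1 hm.1.allI.2.2 h0 hz

/-- the minimal vectors of the model, as a finite set -/
def minFinset : Finset V3 := (unitsL.toFinset ×ˢ linesL.toFinset).image fun p => smulL p.1 p.2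

theorem mem_minFinset {v : V3} : v ∈ minFinset ↔ IsMinM v := by
  simp only [minFinset, Finset.mem_image, Finset.mem_product, List.mem_toFinset, Prod.exists]
  constructor
  · rintro ⟨u, r, ⟨hu, hr⟩, rfl⟩
    exact isMinM_smulL_line hu hr
  · intro hv
    obtain ⟨u, hu, r, hr, e⟩ := exists_line hv
    exact ⟨u, r, ⟨hu, hr⟩, e.symm⟩

set_option linter.constructorNameAsVariable false in
theorem card_minFinset : minFinset.card = 37800 := by
  rw [minFinset, Finset.card_image_of_injOn, Finset.card_product, List.toFinset_card_of_nodup unitsL_nodup,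
    List.toFinset_card_of_nodup linesL_nodup, unitsL_length, linesL_length]
  rintro ⟨u, r⟩ hp ⟨u', r'⟩ hp' h
  simp only [Finset.coe_product, Set.mem_prod, Finset.mem_coe, List.mem_toFinset] at hp hp'
  obtain ⟨e1, e2⟩ := smulL_inj hp.1 hp'.1 hp.2 hp'.2 h
  rw [e1, e2]

/-- **the icosian Leech lattice has 37800 minimal vectors** -/
theorem ncard_min : {r : Fin 3 → ℍ[ℝ] | r ∈ icoLeech ∧ qip r r = 4}.ncard = 37800 := by
  have : {r : Fin 3 → ℍ[ℝ] | r ∈ icoLeech ∧ qip r r = 4} = V3.emb '' (minFinset : Set V3) := by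
    ext w
    simp only [Set.mem_ofPred_eq, Set.mem_image, Finset.mem_coe, mem_minFinset]
    constructor
    · rintro ⟨hw, h4⟩
      obtain ⟨v, hv, rfl⟩ := (mem_icoLeech_iff w).1 hw
      exact ⟨v, ⟨hv, (qip_self_eq_four_iff v).1 h4⟩, rfl⟩
    · rintro ⟨v, hv, rfl⟩
      exact ⟨(mem_icoLeech_iff _).2 ⟨v, hv.1, rfl⟩, (qip_self_eq_four_iff v).2 hv.2⟩
  rw [this, Set.ncard_image_of_injective _ V3.emb_injective, Set.ncard_coe_finset, card_minFinset]

end Cfsg.Agent.J2
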