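import Mathlib
import Cfsg.Agent.Lib.Lead.J2.MinF
import Cfsg.Agent.Lib.Helper5.J2ReflB

set_option autoImplicit false

namespace Cfsg.Agent.J2

open Quaternion Cfsg.Spor Ico V3
open Cfsg.Agent.Lib.Helper5.J2Refl (reflPerm reflPerm_apply isIcoReflection_iff reflPerm_eq_imp reflPerm_eq_of lsm)

/-- the lattice vector of a model vector -/
noncomputable def toLeech (v : V3) (hv : InLam v) : icoLeech := ⟨V3.emb v, (mem_icoLeech_iff _).2 ⟨v, hv, rfl⟩⟩

theorem toLeech_coe (v : V3) (hv : InLam v) : ((toLeech v hv : icoLeech) : Fin 3 → ℍ[ℝ]) = V3.emb v := rfl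

/-- the `i`-th representative -/
def lineV (i : Fin 315) : V3 := linesL.getD i.1 ⟨0, 0, 0⟩

theorem lineV_eq (i : Fin 315) (h : i.1 < linesL.length) : lineV i = linesL[i.1] := by
  rw [lineV, List.getD_eq_getElem _ _ h]

theorem lt_length (i : Fin 315) : i.1 < linesL.length := by
  rw [linesL_length]; exact i.2

theorem lineV_mem (i : Fin 315) : lineV i ∈ linesL := by
  rw [lineV_eq i (lt_length i)]; exact List.getElem_mem _

theorem lineV_min (i : Fin 315) : IsMinM (lineV i) := isMinM_of_mem_linesL (lineV_mem i)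

theorem lineV_injective : Function.Injective lineV := by
  intro i j h
  rw [lineV_eq i (lt_length i), lineV_eq j (lt_length j)] at h
  exact Fin.ext ((List.Nodup.getElem_inj_iff linesL_nodup).1 h)

theorem exists_lineV_of_mem {r : V3} (hr : r ∈ linesL) : ∃ i, lineV i = r := by
  obtain ⟨k, hk, e⟩ := List.getElem_of_mem hr
  have hk' : k < 315 := by rw [← linesL_length]; exact hk
  refine ⟨⟨k, hk'⟩, ?_⟩
  rw [lineV_eq ⟨k, hk'⟩ hk]; exact e

/-- the `i`-th representative as a lattice vector -/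
noncomputable def lineVec (i : Fin 315) : icoLeech := toLeech (lineV i) (lineV_min i).1

theorem lineVec_coe (i : Fin 315) : ((lineVec i : icoLeech) : Fin 3 → ℍ[ℝ]) = V3.emb (lineV i) := rfl

theorem lineVec_qip (i : Fin 315) : qip (lineVec i : Fin 3 → ℍ[ℝ]) (lineVec i) = 4 :=
  (qip_self_eq_four_iff _).2 (lineV_min i).2

/-- the reflection in the `i`-th line -/
noncomputable def lineRefl (i : Fin 315) : Equiv.Perm icoLeech := reflPerm (lineVec i) (lineVec_qip i)

theorem emb_x (v : V3) : V3.emb v 0 = Ico.emb v.x := rfl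
theorem emb_y (v : V3) : V3.emb v 1 = Ico.emb v.y := rfl
theorem emb_z (v : V3) : V3.emb v 2 = Ico.emb v.z := rfl

theorem emb_conj_mul {a b : Ico} (ha : InI a) (hb : InI b) :
    Ico.emb (Ico.mul (Ico.conj a) b) = star (Ico.emb a) * Ico.emb b := by
  rw [emb_mul ha.conj hb, emb_conj]

/-- the signature, at the level of quaternions -/
theorem sig_iff {v w : V3} (hv : AllI v) (hw : AllI w) :
    (∀ t t' : Fin 3, star (V3.emb v t) * V3.emb v t' = star (V3.emb w t) * V3.emb w t') ↔ sigV v = sigV w := by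
  obtain ⟨vx, vy, vz⟩ := hv
  obtain ⟨wx, wy, wz⟩ := hw
  constructor
  · intro h
    have h00 := h 0 0; have h01 := h 0 1; have h02 := h 0 2
    have h10 := h 1 0; have h11 := h 1 1; have h12 := h 1 2
    have h20 := h 2 0; have h21 := h 2 1; have h22 := h 2 2
    simp only [emb_x, emb_y, emb_z] at h00 h01 h02 h10 h11 h12 h20 h21 h22
    rw [← emb_conj_mul vx vx, ← emb_conj_mul wx wx] at h00
    rw [← emb_conj_mul vx vy, ← emb_conj_mul wx wy] at h01
    rw [← emb_conj_mul vx vz, ← emb_conj_mul wx wz] at h02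
    rw [← emb_conj_mul vy vx, ← emb_conj_mul wy wx] at h10
    rw [← emb_conj_mul vy vy, ← emb_conj_mul wy wy] at h11
    rw [← emb_conj_mul vy vz, ← emb_conj_mul wy wz] at h12
    rw [← emb_conj_mul vz vx, ← emb_conj_mul wz wx] at h20
    rw [← emb_conj_mul vz vy, ← emb_conj_mul wz wy] at h21
    rw [← emb_conj_mul vz vz, ← emb_conj_mul wz wz] at h22
    simp only [sigV, Ico.emb_injective h00, Ico.emb_injective h01, Ico.emb_injective h02,
      Ico.emb_injective h10, Ico.emb_injective h11, Ico.emb_injective h12,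
      Ico.emb_injective h20, Ico.emb_injective h21, Ico.emb_injective h22]
  · intro h
    simp only [sigV, List.cons.injEq, and_true] at h
    obtain ⟨h00, h01, h02, h10, h11, h12, h20, h21, h22⟩ := h
    intro t t'
    fin_cases t <;> fin_cases t' <;>
      simp only [Fin.zero_eta, Fin.mk_one, Fin.reduceFinMk, emb_x, emb_y, emb_z]
    · rw [← emb_conj_mul vx vx, ← emb_conj_mul wx wx, h00]
    · rw [← emb_conj_mul vx vy, ← emb_conj_mul wx wy, h01]
    · rw [← emb_conj_mul vx vz, ← emb_conj_mul wx wz, h02]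
    · rw [← emb_conj_mul vy vx, ← emb_conj_mul wy wx, h10]
    · rw [← emb_conj_mul vy vy, ← emb_conj_mul wy wy, h11]
    · rw [← emb_conj_mul vy vz, ← emb_conj_mul wy wz, h12]
    · rw [← emb_conj_mul vz vx, ← emb_conj_mul wz wx, h20]
    · rw [← emb_conj_mul vz vy, ← emb_conj_mul wz wy, h21]
    · rw [← emb_conj_mul vz vz, ← emb_conj_mul wz wz, h22]

theorem lineRefl_injective : Function.Injective lineRefl := by
  intro i j h
  have h' := reflPerm_eq_imp _ _ _ _ h
  simp only [lineVec_coe] at h'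
  have := (sig_iff (lineV_min i).1.allI (lineV_min j).1.allI).1 h'
  exact lineV_injective (sigV_inj_on (lineV_mem i) (lineV_mem j) this)

/-- every minimal vector of the lattice comes from the model -/
theorem exists_model_of_min (r : icoLeech) (h4 : qip (r : Fin 3 → ℍ[ℝ]) r = 4) :
    ∃ v : V3, IsMinM v ∧ V3.emb v = r := by
  obtain ⟨v, hv, e⟩ := (mem_icoLeech_iff _).1 r.2
  refine ⟨v, ⟨hv, (qip_self_eq_four_iff v).1 ?_⟩, e⟩
  rw [e]; exact h4

/-- a minimal vector is a unit multiple of a line vector -/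
theorem exists_line_of_min (r : icoLeech) (h4 : qip (r : Fin 3 → ℍ[ℝ]) r = 4) :
    ∃ (i : Fin 315) (u : Ico), u ∈ unitsL ∧ (r : Fin 3 → ℍ[ℝ]) = V3.emb (smulL u (lineV i)) := by
  obtain ⟨v, hv, e⟩ := exists_model_of_min r h4
  obtain ⟨u, hu, l, hl, rfl⟩ := exists_line hv
  obtain ⟨i, rfl⟩ := exists_lineV_of_mem hl
  exact ⟨i, u, hu, e.symm⟩

theorem isIcoReflection_iff_lineRefl (f : Equiv.Perm icoLeech) : IsIcoReflection f ↔ ∃ i, f = lineRefl i := by
  rw [isIcoReflection_iff]
  constructor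
  · rintro ⟨r, h4, rfl⟩
    obtain ⟨i, u, hu, e⟩ := exists_line_of_min r h4
    refine ⟨i, ?_⟩
    apply reflPerm_eq_of
    rw [e, lineVec_coe]
    have hU := isUnitI_of_mem hu
    have hA := (lineV_min i).1.allI
    exact (sig_iff (hA.smulL hU.1) hA).2 (sigV_smulL hU hA)
  · rintro ⟨i, rfl⟩
    exact ⟨lineVec i, lineVec_qip i, rfl⟩

/-- **there are 315 reflections** -/
theorem ncard_refl : {f : Equiv.Perm icoLeech | IsIcoReflection f}.ncard = 315 := by
  have : {f : Equiv.Perm icoLeech | IsIcoReflection f} = Set.range lineRefl := by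
    ext f
    simp only [Set.mem_ofPred_eq, Set.mem_range, isIcoReflection_iff_lineRefl]
    constructor
    · rintro ⟨i, rfl⟩; exact ⟨i, rfl⟩
    · rintro ⟨i, rfl⟩; exact ⟨i, rfl⟩
  rw [this, ← Set.image_univ, Set.ncard_image_of_injective _ lineRefl_injective, Set.ncard_univ, Nat.card_fin]

end Cfsg.Agent.J2
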