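import Mathlib
import Cfsg.Agent.Lib.Lead.J2.Refl

set_option autoImplicit false

namespace Cfsg.Agent.J2

open Quaternion Cfsg.Spor Ico V3
open Cfsg.Agent.Lib.Helper5.J2Refl (reflPerm reflPerm_apply isIcoReflection_iff reflPerm_eq_imp reflPerm_eq_of lsm
  IsLin isLin_of_mem lsm_lsm)

/-- the vector `u • ℓ_i` of the lattice -/
theorem emb_smulL_eq_lsm {u : Ico} {v : V3} (hu : InI u) (hv : AllI v) :
    V3.emb (smulL u v) = lsm (Ico.emb u) (V3.emb v) := by
  funext t
  exact emb_smulL hu hv t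

theorem emb_mem_icosians {u : Ico} (hu : InI u) : Ico.emb u ∈ icosians := (mem_icosians_iff _).2 ⟨u, hu, rfl⟩

/-- minimal vectors of the lattice -/
def IsMinL (r : icoLeech) : Prop := qip (r : Fin 3 → ℍ[ℝ]) r = 4

/-- `r` lies on the `i`-th line -/
def OnLine (r : icoLeech) (i : Fin 315) : Prop :=
  ∃ u ∈ unitsL, (r : Fin 3 → ℍ[ℝ]) = lsm (Ico.emb u) (lineVec i)

theorem onLine_iff (r : icoLeech) (i : Fin 315) :
    OnLine r i ↔ ∃ u ∈ unitsL, (r : Fin 3 → ℍ[ℝ]) = V3.emb (smulL u (lineV i)) := by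
  constructor
  · rintro ⟨u, hu, e⟩
    exact ⟨u, hu, by rw [e, lineVec_coe, emb_smulL_eq_lsm (isUnitI_of_mem hu).1 (lineV_min i).1.allI]⟩
  · rintro ⟨u, hu, e⟩
    exact ⟨u, hu, by rw [e, lineVec_coe, emb_smulL_eq_lsm (isUnitI_of_mem hu).1 (lineV_min i).1.allI]⟩

theorem exists_onLine {r : icoLeech} (h : IsMinL r) : ∃ i, OnLine r i := by
  obtain ⟨i, u, hu, e⟩ := exists_line_of_min r h
  exact ⟨i, (onLine_iff r i).2 ⟨u, hu, e⟩⟩

theorem OnLine.unique {r : icoLeech} {i j : Fin 315} (hi : OnLine r i) (hj : OnLine r j) : i = j := by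
  obtain ⟨u, hu, e⟩ := (onLine_iff r i).1 hi
  obtain ⟨u', hu', e'⟩ := (onLine_iff r j).1 hj
  have := V3.emb_injective (e.symm.trans e')
  exact lineV_injective (smulL_inj hu hu' (lineV_mem i) (lineV_mem j) this).2

theorem OnLine.isMinL {r : icoLeech} {i : Fin 315} (h : OnLine r i) : IsMinL r := by
  obtain ⟨u, hu, e⟩ := (onLine_iff r i).1 h
  unfold IsMinL
  rw [e]
  exact (qip_self_eq_four_iff _).2 (isMinM_smulL_line hu (lineV_mem i)).2

theorem onLine_lineVec (i : Fin 315) : OnLine (lineVec i) i := by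
  refine ⟨mOne, ?_, ?_⟩
  · exact mem_unitsL_of ⟨by decide, by decide, by decide⟩
  · rw [emb_mOne]; funext t; simp [lsm]

/-- the line of a minimal vector -/
noncomputable def lineIdx (r : icoLeech) (h : IsMinL r) : Fin 315 := Classical.choose (exists_onLine h)

theorem onLine_lineIdx (r : icoLeech) (h : IsMinL r) : OnLine r (lineIdx r h) := Classical.choose_spec (exists_onLine h)

theorem lineIdx_eq {r : icoLeech} {i : Fin 315} (h : OnLine r i) : lineIdx r h.isMinL = i :=
  (onLine_lineIdx r h.isMinL).unique h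

/-- linear maps move lines to lines -/
theorem isMinL_of_isLin {g : Equiv.Perm icoLeech} (hg : IsLin g) {r : icoLeech} (h : IsMinL r) : IsMinL (g r) := by
  unfold IsMinL; rw [hg.qip]; exact h

theorem onLine_of_isLin {g : Equiv.Perm icoLeech} (hg : IsLin g) {r : icoLeech} {i j : Fin 315}
    (hr : OnLine r i) (hj : OnLine (g (lineVec i)) j) : OnLine (g r) j := by
  obtain ⟨u, hu, e⟩ := hr
  obtain ⟨u', hu', e'⟩ := hj
  have hU := isUnitI_of_mem hu
  have hU' := isUnitI_of_mem hu'
  refine ⟨Ico.mul u u', mem_unitsL_of (hU.mul hU'), ?_⟩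
  rw [hg.smul (Ico.emb u) (lineVec i) r (emb_mem_icosians hU.1) e, e', lsm_lsm, emb_mul hU.1 hU'.1]

/-- the action of a linear map on the indices of the lines -/
noncomputable def act (g : Equiv.Perm icoLeech) (hg : IsLin g) (i : Fin 315) : Fin 315 :=
  lineIdx (g (lineVec i)) (isMinL_of_isLin hg (onLine_lineVec i).isMinL)

theorem onLine_act (g : Equiv.Perm icoLeech) (hg : IsLin g) (i : Fin 315) : OnLine (g (lineVec i)) (act g hg i) :=
  onLine_lineIdx _ _

theorem act_eq {g : Equiv.Perm icoLeech} (hg : IsLin g) {i j : Fin 315} (h : OnLine (g (lineVec i)) j) :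
    act g hg i = j := (onLine_act g hg i).unique h

theorem act_one (i : Fin 315) : act 1 Cfsg.Agent.Lib.Helper5.J2Refl.isLin_one i = i :=
  act_eq _ (onLine_lineVec i)

theorem act_mul {g k : Equiv.Perm icoLeech} (hg : IsLin g) (hk : IsLin k) (i : Fin 315) :
    act (g * k) (hg.mul hk) i = act g hg (act k hk i) := by
  apply act_eq
  rw [Equiv.Perm.mul_apply]
  exact onLine_of_isLin hg (onLine_act k hk i) (onLine_act g hg _)

/-- the action of `twoJ2` on the 315 lines -/
noncomputable instance lineAction : MulAction twoJ2 (Fin 315) where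
  smul g i := act g.1 (isLin_of_mem g.2) i
  one_smul i := act_one i
  mul_smul g k i := act_mul (isLin_of_mem g.2) (isLin_of_mem k.2) i

theorem smul_def (g : twoJ2) (i : Fin 315) : g • i = act g.1 (isLin_of_mem g.2) i := rfl

/-- the permutation representation on the lines -/
noncomputable def phi : twoJ2 →* Equiv.Perm (Fin 315) := MulAction.toPermHom twoJ2 (Fin 315)

theorem phi_apply (g : twoJ2) (i : Fin 315) : phi g i = act g.1 (isLin_of_mem g.2) i := rfl

theorem phi_eq_of_onLine {g : twoJ2} {i j : Fin 315} (h : OnLine (g.1 (lineVec i)) j) : phi g i = j :=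
  act_eq (isLin_of_mem g.2) h

end Cfsg.Agent.J2
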