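import Mathlib
import Cfsg.Agent.Lib.Lead.J2.Phi
import Cfsg.Agent.Lib.Lead.J2.PermGrp
import Cfsg.Agent.Lib.Lead.J2.ReflCertData

set_option autoImplicit false

namespace Cfsg.Agent.J2

open Quaternion Cfsg.Spor Ico V3
open Cfsg.Agent.Lib.Helper5.J2Refl (reflPerm reflPerm_apply reflPerm_mem lsm IsLin isLin_of_mem)
open Cfsg.Agent.Lib.Helper6.SS (toPerm toPerm_apply Valid)

namespace V3

/-- the Hermitian product, in the model -/
def qipM (x r : V3) : Ico :=
  Ico.mul x.x (Ico.conj r.x) + Ico.mul x.y (Ico.conj r.y) + Ico.mul x.z (Ico.conj r.z)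

/-- the reflection, in the model -/
def reflM (r x : V3) : V3 :=
  ⟨x.x - Ico.mul (Ico.half (qipM x r)) r.x, x.y - Ico.mul (Ico.half (qipM x r)) r.y,
    x.z - Ico.mul (Ico.half (qipM x r)) r.z⟩

theorem emb_qipM {x r : V3} (hx : AllI x) (hr : AllI r) : Ico.emb (qipM x r) = qip (V3.emb x) (V3.emb r) := by
  unfold qipM qip
  rw [Fin.sum_univ_three, emb_add, emb_add, emb_mul hx.1 hr.1.conj, emb_mul hx.2.1 hr.2.1.conj,
    emb_mul hx.2.2 hr.2.2.conj, emb_conj, emb_conj, emb_conj]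
  rfl

theorem emb_half {q : Ico} (hd : DvdAll 2 q) : Ico.emb (Ico.half q) = (1 / 2 : ℝ) • Ico.emb q := by
  have h := smul_two_half hd
  have h2 := congrArg Ico.emb h
  rw [emb_smul] at h2
  rw [← h2, _root_.smul_smul]
  norm_num

theorem emb_reflM {x r : V3} (hx : AllI x) (hr : AllI r) (hd : DvdAll 2 (qipM x r))
    (hc : InI (Ico.half (qipM x r))) : V3.emb (reflM r x) = qrefl (V3.emb r) (V3.emb x) := by
  funext t
  have hq : Ico.emb (Ico.half (qipM x r)) = (1 / 2 : ℝ) • qip (V3.emb x) (V3.emb r) := by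
    rw [emb_half hd, emb_qipM hx hr]
  fin_cases t
  · show Ico.emb (x.x - Ico.mul (Ico.half (qipM x r)) r.x) = _
    rw [emb_sub, emb_mul hc hr.1, hq]; rfl
  · show Ico.emb (x.y - Ico.mul (Ico.half (qipM x r)) r.y) = _
    rw [emb_sub, emb_mul hc hr.2.1, hq]; rfl
  · show Ico.emb (x.z - Ico.mul (Ico.half (qipM x r)) r.z) = _
    rw [emb_sub, emb_mul hc hr.2.2, hq]; rfl

end V3

/-- the certificate for the action of the reflection in line `k` -/
def certOK (k : ℕ) (gK uK : List ℕ) : Bool := (List.range 315).all fun j =>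
  decide (DvdAll 2 (qipM (linesL.getD j ⟨0, 0, 0⟩) (linesL.getD k ⟨0, 0, 0⟩))) &&
  decide (InI (Ico.half (qipM (linesL.getD j ⟨0, 0, 0⟩) (linesL.getD k ⟨0, 0, 0⟩)))) &&
  decide (reflM (linesL.getD k ⟨0, 0, 0⟩) (linesL.getD j ⟨0, 0, 0⟩) =
    smulL (unitsL.getD (uK.getD j 0) 0) (linesL.getD (gK.getD j 0) ⟨0, 0, 0⟩)) &&
  decide (uK.getD j 0 < 120) && decide (gK.getD j 0 < 315)

theorem lineRefl_mem (k : Fin 315) : lineRefl k ∈ twoJ2 := reflPerm_mem _ _

theorem phi_lineRefl_of_cert {k : Fin 315} {gK uK : List ℕ} (hv : Valid 315 gK) (h : certOK k.1 gK uK = true) :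
    phi ⟨lineRefl k, lineRefl_mem k⟩ = toPerm 315 gK := by
  refine Equiv.ext fun j => Fin.ext ?_
  rw [toPerm_apply hv]
  rw [certOK, List.all_eq_true] at h
  have hj := h j.1 (List.mem_range.2 j.2)
  simp only [Bool.and_eq_true, decide_eq_true_eq] at hj
  obtain ⟨⟨⟨⟨hd, hc⟩, he⟩, hu⟩, hg⟩ := hj
  have hu' : uK.getD j.1 0 < unitsL.length := by rw [unitsL_length]; exact hu
  have hmem : unitsL.getD (uK.getD j.1 0) 0 ∈ unitsL := by
    rw [List.getD_eq_getElem _ _ hu']; exact List.getElem_mem _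
  have key : phi ⟨lineRefl k, lineRefl_mem k⟩ j = ⟨gK.getD j.1 0, hg⟩ := by
    apply phi_eq_of_onLine
    rw [onLine_iff]
    refine ⟨_, hmem, ?_⟩
    show ((lineRefl k (lineVec j) : icoLeech) : Fin 3 → ℍ[ℝ]) = _
    rw [lineRefl, reflPerm_apply, lineVec_coe, lineVec_coe]
    have e := emb_reflM (x := lineV j) (r := lineV k) (lineV_min j).1.allI (lineV_min k).1.allI hd hc
    rw [← e]
    congr 1
  rw [key]

set_option maxRecDepth 100000 in
theorem cert24 : certOK 24 g24 u24 = true := by decide +kernel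

end Cfsg.Agent.J2
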