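import Mathlib
import Cfsg.Agent.Lib.Lead.J2.ReflCert

set_option autoImplicit false

namespace Cfsg.Agent.J2

open Quaternion Cfsg.Spor Ico V3
open Cfsg.Agent.Lib.Helper6.SS (toPerm toPerm_apply Valid)

set_option maxRecDepth 100000 in
theorem cert77 : certOK 77 g77 u77 = true := by decide +kernel

set_option maxRecDepth 100000 in
theorem cert165 : certOK 165 g165 u165 = true := by decide +kernel

set_option maxRecDepth 100000 in
theorem cert202 : certOK 202 g202 u202 = true := by decide +kernel

theorem phi24 : phi ⟨lineRefl 24, lineRefl_mem 24⟩ = toPerm 315 g24 :=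
  phi_lineRefl_of_cert (k := 24) valid_g24 cert24
theorem phi77 : phi ⟨lineRefl 77, lineRefl_mem 77⟩ = toPerm 315 g77 :=
  phi_lineRefl_of_cert (k := 77) valid_g77 cert77
theorem phi165 : phi ⟨lineRefl 165, lineRefl_mem 165⟩ = toPerm 315 g165 :=
  phi_lineRefl_of_cert (k := 165) valid_g165 cert165
theorem phi202 : phi ⟨lineRefl 202, lineRefl_mem 202⟩ = toPerm 315 g202 :=
  phi_lineRefl_of_cert (k := 202) valid_g202 cert202

end Cfsg.Agent.J2
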