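import Mathlib
import Cfsg.Agent.Lib.Lead.J2.ReflCert2
import Cfsg.Agent.Lib.Lead.J2.Gen

set_option autoImplicit false

namespace Cfsg.Agent.J2

open Quaternion Cfsg.Spor Ico V3
open Cfsg.Agent.Lib.Helper5.J2Refl (reflPerm reflPerm_apply reflPerm_mem reflPerm_eq_of conj_reflPerm lsm IsLin
  isLin_of_mem)
open Cfsg.Agent.Lib.Helper6.SS (toPerm toPerm_apply Valid)

/-- the reflection in a vector of the `i`-th line -/
theorem reflPerm_eq_of_onLine {r : icoLeech} (h4 : qip (r : Fin 3 → ℍ[ℝ]) r = 4) {i : Fin 315} (h : OnLine r i) :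
    reflPerm r h4 = lineRefl i := by
  obtain ⟨u, hu, e⟩ := h
  apply reflPerm_eq_of
  intro t t'
  rw [e]
  have hU := isUnitI_of_mem hu
  simp only [lsm]
  rw [star_mul, mul_assoc, ← mul_assoc (star (Ico.emb u)), hU.star_mul, one_mul]

/-- conjugation of the line reflections -/
theorem conj_lineRefl (g : twoJ2) (j : Fin 315) : g.1 * lineRefl j * g.1⁻¹ = lineRefl (phi g j) := by
  have hlin := isLin_of_mem g.2
  have hmin : IsMinL (g.1 (lineVec j)) := isMinL_of_isLin hlin (onLine_lineVec j).isMinL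
  rw [lineRefl, conj_reflPerm g.2 (lineVec j) (lineVec_qip j) hmin]
  exact reflPerm_eq_of_onLine hmin (onLine_act g.1 hlin j)

/-- the line reflections as elements of the group -/
noncomputable def lineReflG (i : Fin 315) : twoJ2 := ⟨lineRefl i, lineRefl_mem i⟩

theorem conj_lineReflG (g : twoJ2) (j : Fin 315) : g * lineReflG j * g⁻¹ = lineReflG (phi g j) :=
  Subtype.ext (conj_lineRefl g j)

theorem phi_lineReflG_mem (i : Fin 315) : phi (lineReflG i) ∈ PJ2 := by
  have m24 : phi (lineReflG 24) ∈ PJ2 := by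
    show phi ⟨lineRefl 24, lineRefl_mem 24⟩ ∈ PJ2
    rw [phi24]; exact Subgroup.subset_closure (by simp)
  have m77 : phi (lineReflG 77) ∈ PJ2 := by
    show phi ⟨lineRefl 77, lineRefl_mem 77⟩ ∈ PJ2
    rw [phi77]; exact Subgroup.subset_closure (by simp)
  have m165 : phi (lineReflG 165) ∈ PJ2 := by
    show phi ⟨lineRefl 165, lineRefl_mem 165⟩ ∈ PJ2
    rw [phi165]; exact Subgroup.subset_closure (by simp)
  have m202 : phi (lineReflG 202) ∈ PJ2 := by
    show phi ⟨lineRefl 202, lineRefl_mem 202⟩ ∈ PJ2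
    rw [phi202]; exact Subgroup.subset_closure (by simp)
  have step : ∀ (k : Fin 315), phi (lineReflG k) ∈ PJ2 → ∀ j, phi (lineReflG j) ∈ PJ2 →
      phi (lineReflG (phi (lineReflG k) j)) ∈ PJ2 := by
    intro k hk j hj
    rw [← conj_lineReflG, map_mul, map_mul, map_inv]
    exact PJ2.mul_mem (PJ2.mul_mem hk hj) (PJ2.inv_mem hk)
  refine lines_induction (fun i => phi (lineReflG i) ∈ PJ2) m24 m77 m165 m202 ?_ ?_ ?_ ?_ i
  · intro j hj
    have := step 24 m24 j hj
    rwa [show phi (lineReflG 24) = toPerm 315 g24 from phi24] at this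
  · intro j hj
    have := step 77 m77 j hj
    rwa [show phi (lineReflG 77) = toPerm 315 g77 from phi77] at this
  · intro j hj
    have := step 165 m165 j hj
    rwa [show phi (lineReflG 165) = toPerm 315 g165 from phi165] at this
  · intro j hj
    have := step 202 m202 j hj
    rwa [show phi (lineReflG 202) = toPerm 315 g202 from phi202] at this

/-- `twoJ2` is generated by the 315 line reflections -/
theorem twoJ2_eq_closure : twoJ2 = Subgroup.closure (Set.range lineRefl) := by
  unfold twoJ2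
  congr 1
  ext f
  simp only [Set.mem_ofPred_eq, Set.mem_range, isIcoReflection_iff_lineRefl]
  constructor
  · rintro ⟨i, rfl⟩; exact ⟨i, rfl⟩
  · rintro ⟨i, rfl⟩; exact ⟨i, rfl⟩

theorem phi_mem (g : twoJ2) : phi g ∈ PJ2 := by
  obtain ⟨g, hg⟩ := g
  have hg' : g ∈ Subgroup.closure (Set.range lineRefl) := by rw [← twoJ2_eq_closure]; exact hg
  induction hg' using Subgroup.closure_induction with
  | mem x hx =>
    obtain ⟨i, rfl⟩ := hx
    exact phi_lineReflG_mem i
  | one =>
    have : (⟨1, hg⟩ : twoJ2) = 1 := rfl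
    rw [this, map_one]
    exact PJ2.one_mem
  | mul x y hx hy ihx ihy =>
    have hx' : x ∈ twoJ2 := by rw [twoJ2_eq_closure]; exact hx
    have hy' : y ∈ twoJ2 := by rw [twoJ2_eq_closure]; exact hy
    have : (⟨x * y, hg⟩ : twoJ2) = ⟨x, hx'⟩ * ⟨y, hy'⟩ := rfl
    rw [this, map_mul]
    exact PJ2.mul_mem (ihx hx') (ihy hy')
  | inv x hx ihx =>
    have hx' : x ∈ twoJ2 := by rw [twoJ2_eq_closure]; exact hx
    have : (⟨x⁻¹, hg⟩ : twoJ2) = (⟨x, hx'⟩ : twoJ2)⁻¹ := rfl
    rw [this, map_inv]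
    exact PJ2.inv_mem (ihx hx')

/-- **the image of the action on the lines is the permutation group `PJ2`** -/
theorem phi_range : phi.range = PJ2 := by
  apply le_antisymm
  · rintro σ ⟨g, rfl⟩
    exact phi_mem g
  · unfold PJ2
    rw [Subgroup.closure_le]
    intro σ hσ
    simp only [Set.mem_insert_iff, Set.mem_singleton_iff] at hσ
    rcases hσ with rfl | rfl | rfl | rfl
    · exact ⟨lineReflG 24, phi24⟩
    · exact ⟨lineReflG 77, phi77⟩
    · exact ⟨lineReflG 165, phi165⟩
    · exact ⟨lineReflG 202, phi202⟩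

end Cfsg.Agent.J2
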