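import Cfsg.Agent.Lib.Lead.J2.OutData

/-! # Kernel checks for the automorphism group of `PJ2` -/

set_option autoImplicit false
set_option maxRecDepth 100000

namespace Cfsg.Agent.J2.Card

/-- the packed reflection in the line `k` -/
def tk (k : ℕ) : ℕ := TP.getD k 0

/-- the transversal from the point 24 -/
def WP : List ℕ := idP :: WT

theorem chk_W : slpOKp (gens4 ++ [idP]) WT progW = true := by decide +kernel

theorem chk_Wpts : ∀ k < 315, k ∈ WP.map (fun w => lk w 24) := by decide +kernel

theorem chk_TPinv : allB 315 (fun k => invOK (tk k) (tk k)) = true := by decide +kernel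

theorem chk_TPconj : WP.all (fun w => allB 315 (fun x =>
    Nat.beq (lk (tk (lk w 24)) (lk w x)) (lk w (lk g24P x)))) = true := by decide +kernel

theorem chk_tk : tk 24 = g24P ∧ tk 77 = g77P ∧ tk 165 = g165P ∧ tk 202 = g202P := by
  decide +kernel

theorem chk_base : ordPP [g24P, g77P] 2 1 = true ∧ ordPP [g24P, g165P] 3 0 = true ∧
    ordPP [g77P, g165P] 3 0 = true ∧ ordPP [g24P, g77P, g165P] 2 2 = true ∧
    ordPP [g165P, g202P] 2 0 = true ∧ ordPP [g24P, g202P] 3 0 = true ∧
    ordPP [g77P, g202P] 5 0 = true := by decide +kernel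

/-- the first test: the product with the reflection 24 has order 4 -/
def test1 (k : ℕ) : Bool := ordPP [g24P, tk k] 2 1

/-- the second test -/
def test2 (k : ℕ) : Bool :=
  ordPP [g24P, tk k] 3 0 && ordPP [g77P, tk k] 3 0 && ordPP [g24P, g77P, tk k] 2 2

/-- the third test -/
def test3 (k : ℕ) : Bool :=
  ordPP [g165P, tk k] 2 0 && ordPP [g24P, tk k] 3 0 && ordPP [g77P, tk k] 5 0

theorem chk_cnt1 : (Finset.univ.filter (fun k : Fin 315 => test1 k.val = true)).card = 80 := by
  decide +kernel

theorem chk_cnt2 : (Finset.univ.filter (fun k : Fin 315 => test2 k.val = true)).card = 48 := by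
  decide +kernel

theorem chk_cnt3 : (Finset.univ.filter (fun k : Fin 315 => test3 k.val = true)).card = 1 := by
  decide +kernel

end Cfsg.Agent.J2.Card
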