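import Cfsg.Agent.Lib.Lead.J2.SSPkData

/-! # Kernel checks of the stabiliser chain of `PJ2`: the closure test of the second level -/

set_option autoImplicit false
set_option maxRecDepth 100000

namespace Cfsg.Agent.J2.Card

theorem chk_blk1 : blockOK (pls1.map Prod.snd) U1P S1P fac1 = true := by decide +kernel

end Cfsg.Agent.J2.Card
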