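import Cfsg.Agent.Lib.Lead.J2.SSPkData

/-! # Kernel checks of the stabiliser chain of `PJ2`: the closure test of the first level, generator 1 -/

set_option autoImplicit false
set_option maxRecDepth 100000

namespace Cfsg.Agent.J2.Card

theorem chk_row0_1 : rowOK (pls0.map Prod.snd) g77P U0P fac0_1 = true := by decide +kernel

end Cfsg.Agent.J2.Card
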