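import Cfsg.Agent.Lib.Lead.J2.SSPkChkA
import Cfsg.Agent.Lib.Lead.J2.SSPkChkB
import Cfsg.Agent.Lib.Lead.J2.SSPkChkT
import Cfsg.Agent.Lib.Lead.J2.SSPkChkR0
import Cfsg.Agent.Lib.Lead.J2.SSPkChkR1
import Cfsg.Agent.Lib.Lead.J2.SSPkChkR2
import Cfsg.Agent.Lib.Lead.J2.SSPkChkR3

/-!
# The order of the permutation group `PJ2` on the 315 lines

`card_PJ2 : Nat.card PJ2 = 604800`, from a verified stabiliser chain with base `0, 1, 5, 2, 10` and orbits of
lengths `315, 80, 6, 2, 2`.
-/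

set_option autoImplicit false

namespace Cfsg.Agent.J2.Card

open Cfsg.Agent.Lib.Helper6.SS

/-- the strong generators as lists -/
def sgs : List (List ℕ) := sgsP.map unpack

theorem valid_idP : Valid 315 (unpack idP) := by rw [chk_id]; exact valid_idL 315

theorem toPerm_idP : toPerm 315 (unpack idP) = 1 := by rw [chk_id]; exact toPerm_idL 315

theorem gens4_mem : ∀ e ∈ gens4, Valid 315 (unpack e) ∧ toPerm 315 (unpack e) ∈ PJ2 := by
  intro e he
  rw [gens4] at he
  simp only [List.mem_cons, List.not_mem_nil, or_false] at he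
  rcases he with rfl | rfl | rfl | rfl
  · rw [chk_g24]; exact ⟨valid_g24, Subgroup.subset_closure (by simp)⟩
  · rw [chk_g77]; exact ⟨valid_g77, Subgroup.subset_closure (by simp)⟩
  · rw [chk_g165]; exact ⟨valid_g165, Subgroup.subset_closure (by simp)⟩
  · rw [chk_g202]; exact ⟨valid_g202, Subgroup.subset_closure (by simp)⟩

theorem slpE_mem : ∀ e ∈ slpE, Valid 315 (unpack e) ∧ toPerm 315 (unpack e) ∈ PJ2 :=
  slp_sound PJ2 gens4_mem chk_slp

theorem sgsP_mem : ∀ s ∈ sgsP, Valid 315 (unpack s) ∧ toPerm 315 (unpack s) ∈ PJ2 := by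
  intro s hs
  rcases List.mem_append.1 (chk_sgs s hs) with h | h
  · exact gens4_mem s h
  · exact slpE_mem s h

theorem sgs_valid : ∀ s ∈ sgs, Valid 315 s := by
  intro s hs
  rw [sgs, List.mem_map] at hs
  obtain ⟨p, hp, rfl⟩ := hs
  exact (sgsP_mem p hp).1

theorem gens4_sub : ∀ p ∈ gens4, p ∈ sgsP := by
  intro p hp
  rw [gens4] at hp
  simp only [List.mem_cons, List.not_mem_nil, or_false] at hp
  rw [sgsP]
  rcases hp with rfl | rfl | rfl | rfl
  · exact List.mem_cons_self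
  · exact List.mem_cons_of_mem _ List.mem_cons_self
  · exact List.mem_cons_of_mem _ (List.mem_cons_of_mem _ List.mem_cons_self)
  · exact List.mem_cons_of_mem _ (List.mem_cons_of_mem _ (List.mem_cons_of_mem _ List.mem_cons_self))

theorem PJ2_eq_closure_gens4 :
    PJ2 = Subgroup.closure {g | ∃ p ∈ gens4, g = toPerm 315 (unpack p)} := by
  rw [PJ2]
  congr 1
  ext g
  simp only [Set.mem_insert_iff, Set.mem_singleton_iff, Set.mem_ofPred_eq, gens4, List.mem_cons,
    List.not_mem_nil, or_false]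
  constructor
  · rintro (rfl | rfl | rfl | rfl)
    · exact ⟨g24P, Or.inl rfl, by rw [chk_g24]⟩
    · exact ⟨g77P, Or.inr (Or.inl rfl), by rw [chk_g77]⟩
    · exact ⟨g165P, Or.inr (Or.inr (Or.inl rfl)), by rw [chk_g165]⟩
    · exact ⟨g202P, Or.inr (Or.inr (Or.inr rfl)), by rw [chk_g202]⟩
  · rintro ⟨p, (rfl | rfl | rfl | rfl), rfl⟩
    · rw [chk_g24]; exact Or.inl rfl
    · rw [chk_g77]; exact Or.inr (Or.inl rfl)
    · rw [chk_g165]; exact Or.inr (Or.inr (Or.inl rfl))
    · rw [chk_g202]; exact Or.inr (Or.inr (Or.inr rfl))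

theorem Hgrp_nil_eq : Hgrp 315 sgs [] = PJ2 := by
  rw [Hgrp_nil]
  apply le_antisymm
  · rw [Subgroup.closure_le]
    rintro g ⟨s, hs, rfl⟩
    rw [sgs, List.mem_map] at hs
    obtain ⟨p, hp, rfl⟩ := hs
    exact (sgsP_mem p hp).2
  · rw [PJ2_eq_closure_gens4]
    apply Subgroup.closure_mono
    rintro g ⟨p, hp, rfl⟩
    exact ⟨unpack p, List.mem_map_of_mem (gens4_sub p hp), rfl⟩

/-- the packed strong generators fixing the points of `pre` -/
def filt (pre : List ℕ) : List ℕ := sgsP.filter (fun s => fixesAll pre (unpack s))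

theorem gensAt_iff (pre : List ℕ) (g : Equiv.Perm (Fin 315)) :
    g ∈ gensAt 315 sgs pre ↔ ∃ p ∈ filt pre, g = toPerm 315 (unpack p) := by
  constructor
  · rintro ⟨s, hs, hf, rfl⟩
    rw [sgs, List.mem_map] at hs
    obtain ⟨p, hp, rfl⟩ := hs
    exact ⟨p, List.mem_filter.2 ⟨hp, hf⟩, rfl⟩
  · rintro ⟨p, hp, rfl⟩
    rw [filt, List.mem_filter] at hp
    exact ⟨unpack p, List.mem_map_of_mem hp.1, hp.2, rfl⟩

theorem filt_mem (pre : List ℕ) :
    ∀ p ∈ filt pre, Valid 315 (unpack p) ∧ toPerm 315 (unpack p) ∈ Hgrp 315 sgs pre := by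
  intro p hp
  refine ⟨(sgsP_mem p (List.mem_filter.1 hp).1).1, ?_⟩
  exact Subgroup.subset_closure ((gensAt_iff pre _).2 ⟨p, hp, rfl⟩)

theorem tree_level (pre : List ℕ) {UT : List ℕ} {prog : List (ℕ × ℕ)}
    (h : slpOKp (filt pre ++ [idP]) UT prog = true) :
    ∀ u ∈ idP :: UT, Valid 315 (unpack u) ∧ toPerm 315 (unpack u) ∈ Hgrp 315 sgs pre := by
  have hid : Valid 315 (unpack idP) ∧ toPerm 315 (unpack idP) ∈ Hgrp 315 sgs pre :=
    ⟨valid_idP, by rw [toPerm_idP]; exact Subgroup.one_mem _⟩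
  have hbase : ∀ e ∈ filt pre ++ [idP],
      Valid 315 (unpack e) ∧ toPerm 315 (unpack e) ∈ Hgrp 315 sgs pre := by
    intro e he
    rcases List.mem_append.1 he with h1 | h1
    · exact filt_mem pre e h1
    · rw [List.mem_singleton] at h1
      rw [h1]; exact hid
  intro u hu
  rcases List.mem_cons.1 hu with rfl | hu'
  · exact hid
  · exact slp_sound _ hbase h u hu'

/-- the statement of one level of the chain -/
def LevelStmt (pre : List ℕ) (b : ℕ) (UT : List ℕ) (ps : List (ℕ × List ℕ)) : Prop :=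
  (Hgrp 315 sgs pre : Set (Equiv.Perm (Fin 315))) =
      Tset 315 (((b, idP :: UT) :: ps).map toLvl) ∧
    (∀ p ∈ (b, idP :: UT) :: ps, ∀ u ∈ p.2, Valid 315 (unpack u)) ∧
    Nat.card (Hgrp 315 sgs pre) =
      (idP :: UT).length * Nat.card (Hgrp 315 sgs (pre ++ [b]))

/-- one level of the chain, from the kernel checks -/
theorem level_step (pre : List ℕ) (b : ℕ) (UT : List ℕ) (prog : List (ℕ × ℕ))
    (ps : List (ℕ × List ℕ)) (hb : b < 315)
    (hrest : (Hgrp 315 sgs (pre ++ [b]) : Set (Equiv.Perm (Fin 315))) = Tset 315 (ps.map toLvl))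
    (hvrest : ∀ p ∈ ps, ∀ u ∈ p.2, Valid 315 (unpack u))
    (htree : slpOKp (filt pre ++ [idP]) UT prog = true)
    (hnd : ((idP :: UT).map (fun u => lk u b)).Nodup)
    (gsP : List ℕ) (hgsv : ∀ s ∈ gsP, Valid 315 (unpack s))
    (hgs : Hgrp 315 sgs pre ≤ Subgroup.closure {g | ∃ p ∈ gsP, g = toPerm 315 (unpack p)})
    (facs : List (List (List ℕ)))
    (hblk : blockOK (((b, idP :: UT) :: ps).map Prod.snd) (idP :: UT) gsP facs = true) :
    LevelStmt pre b UT ps := by
  have hT := tree_level pre htree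
  have hv : ∀ p ∈ (b, idP :: UT) :: ps, ∀ u ∈ p.2, Valid 315 (unpack u) := by
    intro p hp
    rcases List.mem_cons.1 hp with rfl | hp'
    · exact fun u hu => (hT u hu).1
    · exact hvrest p hp'
  have hcl := block_sound hv (fun u hu => (hT u hu).1) gsP facs hblk hgsv
  have key := step' sgs sgs_valid pre (toLvl (b, idP :: UT)) (ps.map toLvl) hrest hb
    (by
      show idL 315 ∈ (idP :: UT).map unpack
      rw [List.map_cons, chk_id]
      exact List.mem_cons_self)
    (by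
      intro u hu
      change u ∈ (idP :: UT).map unpack at hu
      rw [List.mem_map] at hu
      obtain ⟨p, hp, rfl⟩ := hu
      exact hT p hp)
    (by
      show (((idP :: UT).map unpack).map (fun u => u.getD b 0)).Nodup
      rw [List.map_map]
      have : (fun u : List ℕ => u.getD b 0) ∘ unpack = fun u => lk u b := by
        funext p
        exact unpack_getD p hb
      rw [this]
      exact hnd)
    {g | ∃ p ∈ gsP, g = toPerm 315 (unpack p)} hgs
    (by
      rintro g ⟨s, hs, rfl⟩ u hu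
      change u ∈ (idP :: UT).map unpack at hu
      rw [List.mem_map] at hu
      obtain ⟨p, hp, rfl⟩ := hu
      exact hcl s hs p hp)
  refine ⟨key.1, hv, ?_⟩
  rw [key.2]
  show ((idP :: UT).map unpack).length * _ = _
  rw [List.length_map]
  rfl

theorem hgs_filt (pre : List ℕ) :
    Hgrp 315 sgs pre ≤ Subgroup.closure {g | ∃ p ∈ filt pre, g = toPerm 315 (unpack p)} := by
  apply Subgroup.closure_mono
  intro g hg
  exact (gensAt_iff pre g).1 hg

theorem filt_valid (pre : List ℕ) : ∀ s ∈ filt pre, Valid 315 (unpack s) :=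
  fun s hs => (filt_mem pre s hs).1

/-! ### the levels -/

theorem level5 : (Hgrp 315 sgs [0, 1, 5, 2, 10] : Set (Equiv.Perm (Fin 315))) =
      Tset 315 (([] : List (ℕ × List ℕ)).map toLvl) ∧
    Nat.card (Hgrp 315 sgs [0, 1, 5, 2, 10]) = 1 := by
  have h0 : gensAt 315 sgs [0, 1, 5, 2, 10] = ∅ := by
    ext g
    rw [gensAt_iff, filt, chk_S5]
    simp
  have hbot : Hgrp 315 sgs [0, 1, 5, 2, 10] = ⊥ := by
    rw [Hgrp, h0, Subgroup.closure_empty]
  rw [hbot]
  exact ⟨rfl, Subgroup.card_bot⟩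

theorem filt1 : filt [0] = S1P := chk_S1.symm
theorem filt2 : filt [0, 1] = S2P := chk_S2.symm
theorem filt3 : filt [0, 1, 5] = S3P := chk_S3.symm
theorem filt4 : filt [0, 1, 5, 2] = S4P := chk_S4.symm

theorem level4 : LevelStmt [0, 1, 5, 2] 10 U4T [] := level_step [0, 1, 5, 2] 10 U4T prog4 [] (by norm_num) level5.1
  (by intro p hp; exact absurd hp List.not_mem_nil) (by rw [filt4]; exact chk_tree4) chk_nd4
  (filt [0, 1, 5, 2]) (filt_valid _) (hgs_filt _) fac4 (by rw [filt4]; exact chk_blk4)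

theorem level3 : LevelStmt [0, 1, 5] 2 U3T pls4 := level_step [0, 1, 5] 2 U3T prog3 pls4 (by norm_num) level4.1 level4.2.1
  (by rw [filt3]; exact chk_tree3) chk_nd3 (filt [0, 1, 5]) (filt_valid _) (hgs_filt _) fac3
  (by rw [filt3]; exact chk_blk3)

theorem level2 : LevelStmt [0, 1] 5 U2T pls3 := level_step [0, 1] 5 U2T prog2 pls3 (by norm_num) level3.1 level3.2.1
  (by rw [filt2]; exact chk_tree2) chk_nd2 (filt [0, 1]) (filt_valid _) (hgs_filt _) fac2
  (by rw [filt2]; exact chk_blk2)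

theorem level1 : LevelStmt [0] 1 U1T pls2 := level_step [0] 1 U1T prog1 pls2 (by norm_num) level2.1 level2.2.1
  (by rw [filt1]; exact chk_tree1) chk_nd1 (filt [0]) (filt_valid _) (hgs_filt _) fac1
  (by rw [filt1]; exact chk_blk1)

theorem filt_nil : filt [] = sgsP := by
  rw [filt]
  apply List.filter_eq_self.2
  intro s _
  rfl

theorem blk0 : blockOK (pls0.map Prod.snd) U0P gens4 [fac0_0, fac0_1, fac0_2, fac0_3] = true := by
  show blockOK (pls0.map Prod.snd) U0P [g24P, g77P, g165P, g202P] _ = true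
  rw [blockOK, blockOK, blockOK, blockOK, blockOK, chk_row0_0, chk_row0_1, chk_row0_2, chk_row0_3]
  rfl

theorem level0 : LevelStmt [] 0 U0T pls1 := level_step [] 0 U0T prog0 pls1 (by norm_num) level1.1 level1.2.1
  (by rw [filt_nil]; exact chk_tree0) chk_nd0 gens4 (fun s hs => (gens4_mem s hs).1)
  (by rw [Hgrp_nil_eq, PJ2_eq_closure_gens4]) [fac0_0, fac0_1, fac0_2, fac0_3] blk0

set_option maxRecDepth 100000 in
/-- **the order of `PJ2`** -/
theorem card_PJ2 : Nat.card ↥PJ2 = 604800 := by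
  have h0 := level0.2.2
  have h1 := level1.2.2
  have h2 := level2.2.2
  have h3 := level3.2.2
  have h4 := level4.2.2
  have h5 := level5.2
  obtain ⟨l0, l1, l2, l3, l4⟩ := chk_len
  rw [Hgrp_nil_eq] at h0
  rw [h0]
  change U0P.length * Nat.card (Hgrp 315 sgs [0]) = _
  rw [l0]
  change Nat.card (Hgrp 315 sgs [0]) = U1P.length * Nat.card (Hgrp 315 sgs [0, 1]) at h1
  change Nat.card (Hgrp 315 sgs [0, 1]) = U2P.length * Nat.card (Hgrp 315 sgs [0, 1, 5]) at h2
  change Nat.card (Hgrp 315 sgs [0, 1, 5]) =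
    U3P.length * Nat.card (Hgrp 315 sgs [0, 1, 5, 2]) at h3
  change Nat.card (Hgrp 315 sgs [0, 1, 5, 2]) =
    U4P.length * Nat.card (Hgrp 315 sgs [0, 1, 5, 2, 10]) at h4
  rw [h1, h2, h3, h4, h5, l1, l2, l3, l4]

end Cfsg.Agent.J2.Card
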