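import Cfsg.Agent.Lib.Lead.J2.OutB
import Cfsg.Agent.Lib.Lead.J2.SSPkCard
import Cfsg.Agent.Lib.Helper5.J2Iso
import Cfsg.Prelude.Def_KGroupFacts

/-!
# The stem extension `2·J₂ → J₂`

The centre of the icosian reflection group `twoJ2` lies in its commutator subgroup: the product `x` of the
reflections in the lines `0, 1, 178, 187` squares to `−1` (its image in `PJ2` is an involution, and `x²` moves a
lattice vector), and squares are products of commutators in a group generated by involutions.
-/

set_option autoImplicit false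

namespace Cfsg.Agent.J2.Card

open Quaternion Cfsg.Spor Cfsg.Agent.J2 Cfsg.Agent.J2.Ico Cfsg.Agent.J2.V3
open Cfsg.Agent.Lib.Helper5.J2Refl (reflPerm reflPerm_apply reflPerm_mem)
open Cfsg.Agent.Lib.Helper6.SS (toPerm Valid)
open Cfsg.Agent.Lib.Helper8.J2Cent (T)

/-! ### evaluation of reflections in the model -/

theorem lineRefl_toLeech (k : Fin 315) (v : V3) (hv : InLam v)
    (hd : DvdAll 2 (qipM v (lineV k))) (hc : InI (Ico.half (qipM v (lineV k))))
    (hv' : InLam (reflM (lineV k) v)) :
    lineRefl k (toLeech v hv) = toLeech (reflM (lineV k) v) hv' := by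
  apply Subtype.ext
  rw [lineRefl, reflPerm_apply, lineVec_coe, toLeech_coe, toLeech_coe]
  exact (emb_reflM hv.allI (lineV_min k).1.allI hd hc).symm

/-- the test of one step -/
def stepOK (k : ℕ) (v : V3) : Bool :=
  decide (k < 315) && (decide (DvdAll 2 (qipM v (linesL.getD k ⟨0, 0, 0⟩))) &&
    (decide (InI (Ico.half (qipM v (linesL.getD k ⟨0, 0, 0⟩)))) &&
      decide (InLam (reflM (linesL.getD k ⟨0, 0, 0⟩) v))))

/-- the image of a vector under a product of reflections, in the model -/
def evalW : List ℕ → V3 → V3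
  | [], v => v
  | k :: ks, v => reflM (linesL.getD k ⟨0, 0, 0⟩) (evalW ks v)

/-- the test of all the steps -/
def chainOK : List ℕ → V3 → Bool
  | [], _ => true
  | k :: ks, v => chainOK ks v && stepOK k (evalW ks v)

/-- the product of the reflections in the lines of a list -/
noncomputable def prodR : List ℕ → Equiv.Perm icoLeech
  | [] => 1
  | k :: ks => (if h : k < 315 then lineRefl ⟨k, h⟩ else 1) * prodR ks

theorem prodR_apply : ∀ (ks : List ℕ) (v : V3) (hv : InLam v), chainOK ks v = true →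
    ∃ hv' : InLam (evalW ks v), prodR ks (toLeech v hv) = toLeech (evalW ks v) hv' := by
  intro ks
  induction ks with
  | nil => intro v hv _; exact ⟨hv, rfl⟩
  | cons k ks ih =>
    intro v hv h
    rw [chainOK, Bool.and_eq_true] at h
    obtain ⟨h1, h2⟩ := h
    obtain ⟨hw, he⟩ := ih v hv h1
    rw [stepOK] at h2
    simp only [Bool.and_eq_true, decide_eq_true_eq] at h2
    obtain ⟨hk, hd, hc, hl⟩ := h2
    refine ⟨hl, ?_⟩
    rw [prodR, dif_pos hk, Equiv.Perm.mul_apply, he]
    exact lineRefl_toLeech ⟨k, hk⟩ (evalW ks v) hw hd hc hl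

/-! ### the element `x` -/

/-- the lines of the four reflections -/
def xw : List ℕ := [0, 1, 178, 187]

/-- the product of the four reflections -/
noncomputable def xG : twoJ2 := lineReflG 0 * lineReflG 1 * lineReflG 178 * lineReflG 187

theorem xG_val : (xG : Equiv.Perm icoLeech) = prodR xw := by
  show lineRefl 0 * lineRefl 1 * lineRefl 178 * lineRefl 187 = _
  simp only [xw, prodR]
  rw [dif_pos (by norm_num : (0 : ℕ) < 315), dif_pos (by norm_num : (1 : ℕ) < 315),
    dif_pos (by norm_num : (178 : ℕ) < 315), dif_pos (by norm_num : (187 : ℕ) < 315), mul_one, mul_assoc,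
    mul_assoc]
  rfl

theorem prodR_append (a b : List ℕ) : prodR (a ++ b) = prodR a * prodR b := by
  induction a with
  | nil => rw [List.nil_append, prodR, one_mul]
  | cons k ks ih => rw [List.cons_append, prodR, prodR, ih, mul_assoc]

theorem chk_chain : chainOK (xw ++ xw) (linesL.getD 0 ⟨0, 0, 0⟩) = true := by decide +kernel

theorem chk_eval : evalW (xw ++ xw) (linesL.getD 0 ⟨0, 0, 0⟩) ≠ linesL.getD 0 ⟨0, 0, 0⟩ := by
  decide +kernel

theorem xG_sq_ne_one : xG * xG ≠ 1 := by
  intro h
  have h1 : (xG : Equiv.Perm icoLeech) * (xG : Equiv.Perm icoLeech) = 1 := by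
    have := congrArg Subtype.val h
    exact this
  rw [xG_val, ← prodR_append] at h1
  have hv : InLam (linesL.getD 0 ⟨0, 0, 0⟩) := (lineV_min 0).1
  obtain ⟨hv', he⟩ := prodR_apply (xw ++ xw) _ hv chk_chain
  rw [h1, Equiv.Perm.one_apply] at he
  have := congrArg (fun p : icoLeech => (p : Fin 3 → ℍ[ℝ])) he
  simp only [toLeech_coe] at this
  exact chk_eval (V3.emb_injective this).symm

/-- the image of `x` in `PJ2` is an involution -/
theorem chk_xsq : powOne [tk 0, tk 1, tk 178, tk 187] 2 = true := by decide +kernel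

theorem phi_xG_sq : phi (xG * xG) = 1 := by
  have hv : ∀ w ∈ [tk 0, tk 1, tk 178, tk 187], Valid 315 (unpack w) := by
    intro w hw
    simp only [List.mem_cons, List.not_mem_nil, or_false] at hw
    rcases hw with rfl | rfl | rfl | rfl
    · exact tk_valid (by norm_num)
    · exact tk_valid (by norm_num)
    · exact tk_valid (by norm_num)
    · exact tk_valid (by norm_num)
  have h := (powOne_iff _ hv 2).1 chk_xsq
  have e : prodP [tk 0, tk 1, tk 178, tk 187] = phi xG := by
    rw [prodP_cons, prodP_cons, prodP_cons, prodP_cons, prodP_nil, mul_one]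
    have e0 := T_eq_tk 0
    have e1 := T_eq_tk 1
    have e2 := T_eq_tk 178
    have e3 := T_eq_tk 187
    rw [show ((0 : Fin 315) : ℕ) = 0 from rfl] at e0
    rw [show ((1 : Fin 315) : ℕ) = 1 from rfl] at e1
    rw [show ((178 : Fin 315) : ℕ) = 178 from rfl] at e2
    rw [show ((187 : Fin 315) : ℕ) = 187 from rfl] at e3
    rw [← e0, ← e1, ← e2, ← e3, xG, map_mul, map_mul, map_mul, mul_assoc, mul_assoc]
    rfl
  rw [map_mul, ← sq, ← e]
  exact h

theorem xG_sq_mem_center : xG * xG ∈ Subgroup.center twoJ2 := by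
  rw [← Cfsg.Agent.Lib.Helper5.J2Iso.ker_phi, MonoidHom.mem_ker]
  exact phi_xG_sq

/-! ### squares lie in the commutator subgroup -/

theorem lineReflG_mul_self (k : Fin 315) : lineReflG k * lineReflG k = 1 := by
  apply Subtype.ext
  show lineRefl k * lineRefl k = 1
  refine Equiv.ext fun x => ?_
  rw [Equiv.Perm.mul_apply, Equiv.Perm.one_apply, lineRefl]
  exact (reflPerm (lineVec k) (lineVec_qip k)).left_inv x

theorem closure_aux : ∀ g ∈ Subgroup.closure (Set.range lineRefl),
    ∃ h : g ∈ twoJ2, (⟨g, h⟩ : twoJ2) ∈ Subgroup.closure (Set.range lineReflG) := by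
  intro g hg
  induction hg using Subgroup.closure_induction with
  | mem x hx =>
    obtain ⟨k, rfl⟩ := hx
    exact ⟨lineRefl_mem k, Subgroup.subset_closure ⟨k, rfl⟩⟩
  | one => exact ⟨twoJ2.one_mem, Subgroup.one_mem _⟩
  | mul x y _ _ ihx ihy =>
    obtain ⟨hx', mx⟩ := ihx
    obtain ⟨hy', my⟩ := ihy
    exact ⟨twoJ2.mul_mem hx' hy', Subgroup.mul_mem _ mx my⟩
  | inv x _ ihx =>
    obtain ⟨hx', mx⟩ := ihx
    exact ⟨twoJ2.inv_mem hx', Subgroup.inv_mem _ mx⟩

theorem closure_lineReflG : Subgroup.closure (Set.range lineReflG) = (⊤ : Subgroup twoJ2) := by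
  rw [eq_top_iff]
  rintro ⟨g, hg⟩ _
  obtain ⟨_, hm⟩ := closure_aux g (by rw [← twoJ2_eq_closure]; exact hg)
  exact hm

theorem sq_mem_commutator (g : twoJ2) : g * g ∈ commutator twoJ2 := by
  rw [← Abelianization.ker_of, MonoidHom.mem_ker, map_mul]
  have key : ∀ g : twoJ2, g ∈ Subgroup.closure (Set.range lineReflG) →
      Abelianization.of g * Abelianization.of g = 1 := by
    intro g hg
    induction hg using Subgroup.closure_induction with
    | mem x hx =>
      obtain ⟨k, rfl⟩ := hx
      rw [← map_mul, lineReflG_mul_self, map_one]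
    | one => rw [map_one, one_mul]
    | mul x y _ _ ihx ihy =>
      rw [map_mul, mul_mul_mul_comm, ihx, ihy, one_mul]
    | inv x _ ihx =>
      rw [map_inv, ← mul_inv, ihx, inv_one]
  exact key g (by rw [closure_lineReflG]; exact Subgroup.mem_top g)

theorem center_le_commutator : Subgroup.center twoJ2 ≤ commutator twoJ2 := by
  intro z hz
  rcases (Cfsg.Agent.Lib.Helper5.J2Refl.center_twoJ2 z).1 hz with rfl | rfl
  · exact Subgroup.one_mem _
  · rcases (Cfsg.Agent.Lib.Helper5.J2Refl.center_twoJ2 (xG * xG)).1 xG_sq_mem_center with h | h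
    · exact absurd h xG_sq_ne_one
    · rw [← h]; exact sq_mem_commutator xG

/-- **the stem extension `2·J₂ → J₂`**, with kernel of order `2` -/
theorem stem_twoJ2 : ∃ (Γ : Type) (_ : Group Γ) (_ : Finite Γ) (σ : Γ →* Cfsg.Spor.J2),
    Cfsg.IsStemExtension σ ∧ Nonempty (σ.ker ≃* Multiplicative (ZMod 2)) := by
  have hfin : Finite twoJ2 := by
    apply Nat.finite_of_card_ne_zero
    rw [Cfsg.Agent.Lib.Helper5.J2Iso.card_twoJ2 card_PJ2]
    norm_num
  have hker : (QuotientGroup.mk' (Subgroup.center twoJ2)).ker = Subgroup.center twoJ2 :=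
    QuotientGroup.ker_mk' _
  refine ⟨twoJ2, inferInstance, hfin, QuotientGroup.mk' (Subgroup.center twoJ2), ⟨?_, ?_, ?_⟩, ?_⟩
  · exact QuotientGroup.mk'_surjective _
  · rw [hker]
  · rw [hker]; exact center_le_commutator
  · have : Fact (Nat.Prime 2) := ⟨Nat.prime_two⟩
    refine ⟨mulEquivOfPrimeCardEq (p := 2) ?_ ?_⟩
    · rw [hker]; exact Cfsg.Agent.Lib.Helper5.J2Refl.card_center_twoJ2
    · rw [Nat.card_eq_fintype_card]; rfl

end Cfsg.Agent.J2.Card
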