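import Mathlib
import Cfsg.Agent.Lib.Lead.J2.GenI
import Cfsg.Agent.Lib.Lead.J2.Data

set_option autoImplicit false

namespace Cfsg.Agent.J2

open Ico

/-- the possible values of `nrm1` for a given value of `nrm0` -/
def allowedT (s : ℤ) : List ℤ :=
  if s = 0 then [0] else if s = 4 then [0, 4] else if s = 8 then [-4, 0, 4, 8, 12]
  else if s = 12 then [-4, 0, 4, 8, 12, 16] else if s = 16 then [-8, -4, 0, 4, 8, 12, 16, 20, 24] else []

def clsOK (s : ℤ) : Bool := (genI s).all fun p => (allowedT s).contains (nrm1 p)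

set_option maxRecDepth 100000 in
theorem clsOK_small : (clsOK 0 && clsOK 1 && clsOK 2 && clsOK 3 && clsOK 4 && clsOK 5 && clsOK 6 && clsOK 7 &&
    clsOK 8 && clsOK 9 && clsOK 10 && clsOK 11) = true := by decide +kernel

set_option maxRecDepth 100000 in
theorem clsOK_12 : (clsOK 12 && clsOK 13 && clsOK 14 && clsOK 15) = true := by decide +kernel

set_option maxRecDepth 100000 in
theorem clsOK_16 : clsOK 16 = true := by decide +kernel

end Cfsg.Agent.J2
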