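import Cfsg.Agent.Lib.Lead.J2.SSPk

/-!
# Products and powers of packed permutations of 315 points

`evalChain ws x` is the image of `x` under the product of the packed permutations `ws`; `powOne ws m` tests whether
the `m`-th power of this product is the identity.
-/

set_option autoImplicit false

namespace Cfsg.Agent.J2.Card

open Cfsg.Agent.Lib.Helper6.SS

/-- the product of the permutations of a list of packed permutations -/
noncomputable def prodP (ws : List ℕ) : Equiv.Perm (Fin 315) :=
  (ws.map (fun w => toPerm 315 (unpack w))).prod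

theorem prodP_nil : prodP [] = 1 := rfl

theorem prodP_cons (w : ℕ) (ws : List ℕ) : prodP (w :: ws) = toPerm 315 (unpack w) * prodP ws := by
  rw [prodP, List.map_cons, List.prod_cons]; rfl

theorem prodP_apply : ∀ (ws : List ℕ), (∀ w ∈ ws, Valid 315 (unpack w)) → ∀ (x : ℕ) (hx : x < 315),
    ((prodP ws ⟨x, hx⟩ : Fin 315) : ℕ) = evalChain ws x := by
  intro ws
  induction ws with
  | nil => intro _ x hx; rfl
  | cons w ws ih =>
    intro hv x hx
    rw [prodP_cons, Equiv.Perm.mul_apply, toPerm_unpack_apply (hv w List.mem_cons_self),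
      ih (fun v hv' => hv v (List.mem_cons_of_mem _ hv')) x hx, evalChain_cons]

/-- iteration, written with the recursor -/
def iter (m : ℕ) (f : ℕ → ℕ) (x : ℕ) : ℕ := Nat.rec x (fun _ ih => f ih) m

theorem iter_zero (f : ℕ → ℕ) (x : ℕ) : iter 0 f x = x := rfl

theorem iter_succ (m : ℕ) (f : ℕ → ℕ) (x : ℕ) : iter (m + 1) f x = f (iter m f x) := rfl

theorem prodP_pow_apply (ws : List ℕ) (hv : ∀ w ∈ ws, Valid 315 (unpack w)) (m : ℕ) (x : ℕ)
    (hx : x < 315) : (((prodP ws ^ m) ⟨x, hx⟩ : Fin 315) : ℕ) = iter m (evalChain ws) x := by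
  induction m with
  | zero => rfl
  | succ m ih =>
    rw [pow_succ', Equiv.Perm.mul_apply, iter_succ, ← ih]
    exact prodP_apply ws hv _ ((prodP ws ^ m) ⟨x, hx⟩).2

/-- the test of `σ ^ m = 1` for the product `σ` of the packed permutations `ws` -/
def powOne (ws : List ℕ) (m : ℕ) : Bool :=
  allB 315 (fun x => Nat.beq (iter m (evalChain ws) x) x)

theorem powOne_iff (ws : List ℕ) (hv : ∀ w ∈ ws, Valid 315 (unpack w)) (m : ℕ) :
    powOne ws m = true ↔ prodP ws ^ m = 1 := by
  rw [powOne, allB_iff]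
  constructor
  · intro h
    refine Equiv.ext fun i => Fin.ext ?_
    rw [prodP_pow_apply ws hv m i.1 i.2]
    exact Nat.eq_of_beq_eq_true (h i.1 i.2)
  · intro h x hx
    have := prodP_pow_apply ws hv m x hx
    rw [h] at this
    rw [← this]
    exact Nat.beq_refl x

theorem powOne_false_iff (ws : List ℕ) (hv : ∀ w ∈ ws, Valid 315 (unpack w)) (m : ℕ) :
    powOne ws m = false ↔ prodP ws ^ m ≠ 1 := by
  rw [Ne, ← powOne_iff ws hv m]
  cases powOne ws m <;> simp

/-- the test of `orderOf σ = p ^ (e + 1)` -/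
def ordPP (ws : List ℕ) (p e : ℕ) : Bool :=
  powOne ws (p ^ (e + 1)) && !(powOne ws (p ^ e))

theorem ordPP_iff (ws : List ℕ) (hv : ∀ w ∈ ws, Valid 315 (unpack w)) (p e : ℕ) [hp : Fact p.Prime] :
    ordPP ws p e = true ↔ orderOf (prodP ws) = p ^ (e + 1) := by
  rw [ordPP, Bool.and_eq_true, Bool.not_eq_true', powOne_iff ws hv, powOne_false_iff ws hv]
  constructor
  · rintro ⟨h1, h2⟩
    exact orderOf_eq_prime_pow h2 h1
  · intro h
    refine ⟨by rw [← h]; exact pow_orderOf_eq_one _, ?_⟩
    intro h2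
    have := orderOf_dvd_of_pow_eq_one h2
    rw [h] at this
    have hlt : p ^ e < p ^ (e + 1) := Nat.pow_lt_pow_right hp.out.one_lt (Nat.lt_succ_self e)
    exact absurd (Nat.le_of_dvd (pow_pos hp.out.pos e) this) (not_le.2 hlt)

end Cfsg.Agent.J2.Card
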