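import Cfsg.Agent.Lib.Lead.J2.OutChk
import Cfsg.Agent.Lib.Lead.J2.SSPkCard
import Cfsg.Agent.Lib.Helper8.J2Cent

/-!
# The automorphism group of `PJ2` has order at most 1209600

Given that every automorphism permutes the 315 reflections `Tp k`, an automorphism is determined by the images of
the four generating reflections, and the orders of products of reflections leave at most `315 * 80 * 48 * 1`
possibilities.
-/

set_option autoImplicit false

namespace Cfsg.Agent.J2.Card

open Cfsg.Agent.Lib.Helper6.SS Cfsg.Agent.Lib.Helper8.J2Cent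

/-! ### a counting lemma -/

section count

variable {A X : Type*} [Group A] [Finite A] [MulAction A X] [DecidableEq X]

theorem card_le_step (B : Subgroup A) (x : X) (S : Finset X) (h : ∀ b ∈ B, b • x ∈ S) :
    ∃ B' : Subgroup A, (∀ b, b ∈ B' ↔ b ∈ B ∧ b • x = x) ∧ Nat.card B ≤ S.card * Nat.card B' := by
  refine ⟨(MulAction.stabilizer B x).map B.subtype, ?_, ?_⟩
  · intro b
    constructor
    · rintro ⟨c, hc, rfl⟩
      exact ⟨c.2, MulAction.mem_stabilizer_iff.1 hc⟩
    · rintro ⟨hb, hx⟩
      exact ⟨⟨b, hb⟩, MulAction.mem_stabilizer_iff.2 hx, rfl⟩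
  · have h1 := Subgroup.card_mul_index (MulAction.stabilizer B x)
    have h2 : (MulAction.stabilizer B x).index = (MulAction.orbit B x).ncard :=
      MulAction.index_stabilizer B x
    have h3 : (MulAction.orbit B x).ncard ≤ S.card := by
      rw [← Set.ncard_coe_finset S]
      apply Set.ncard_le_ncard _ (Finset.finite_toSet S)
      rintro y ⟨b, rfl⟩
      exact h b.1 b.2
    have h4 : Nat.card ((MulAction.stabilizer B x).map B.subtype) =
        Nat.card (MulAction.stabilizer B x) :=
      Subgroup.card_map_of_injective B.subtype_injective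
    rw [h4, ← h1, h2, mul_comm]
    exact Nat.mul_le_mul_right _ h3

end count

/-! ### the reflections -/

/-- the reflection in the line `k`, as an element of the group -/
noncomputable def Tp (k : Fin 315) : ↥PJ2 := ⟨T k, phi_mem _⟩

theorem Tp_val (k : Fin 315) : (Tp k : Equiv.Perm (Fin 315)) = T k := rfl

theorem Tp_injective : Function.Injective Tp := fun _ _ h => T_injective (congrArg Subtype.val h)

theorem Tp_conj (σ : ↥PJ2) (k : Fin 315) : σ * Tp k * σ⁻¹ = Tp (σ.1 k) := by
  obtain ⟨g, hg⟩ : ∃ g, phi g = σ.1 := by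
    have : σ.1 ∈ phi.range := by rw [phi_range]; exact σ.2
    exact this
  apply Subtype.ext
  show σ.1 * T k * σ.1⁻¹ = T (σ.1 k)
  rw [← hg, conj_T]

/-! ### the table of the reflections -/

theorem WP_mem : ∀ w ∈ WP, Valid 315 (unpack w) ∧ toPerm 315 (unpack w) ∈ PJ2 := by
  have hid : Valid 315 (unpack idP) ∧ toPerm 315 (unpack idP) ∈ PJ2 :=
    ⟨valid_idP, by rw [toPerm_idP]; exact Subgroup.one_mem _⟩
  have hbase : ∀ e ∈ gens4 ++ [idP], Valid 315 (unpack e) ∧ toPerm 315 (unpack e) ∈ PJ2 := by
    intro e he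
    rcases List.mem_append.1 he with h1 | h1
    · exact gens4_mem e h1
    · rw [List.mem_singleton] at h1
      rw [h1]; exact hid
  intro w hw
  rcases List.mem_cons.1 hw with rfl | hw'
  · exact hid
  · exact slp_sound _ hbase chk_W w hw'

theorem tk_valid {k : ℕ} (hk : k < 315) : Valid 315 (unpack (tk k)) :=
  valid_of_invOK (allB_iff.1 chk_TPinv k hk)

theorem T_eq_tk (k : Fin 315) : T k = toPerm 315 (unpack (tk k.val)) := by
  obtain ⟨w, hw, hwk⟩ := List.mem_map.1 (chk_Wpts k.val k.2)
  obtain ⟨vw, mw⟩ := WP_mem w hw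
  have hc := List.all_eq_true.1 chk_TPconj w hw
  rw [allB_iff] at hc
  set σ : ↥PJ2 := ⟨toPerm 315 (unpack w), mw⟩ with hσ
  have hσk : σ.1 24 = k := by
    apply Fin.ext
    rw [hσ, toPerm_unpack_apply vw]
    exact hwk
  have h1 := congrArg Subtype.val (Tp_conj σ 24)
  rw [hσk] at h1
  simp only [Subgroup.coe_mul, Subgroup.coe_inv, Tp_val] at h1
  rw [← h1, T24, ← chk_g24, mul_inv_eq_iff_eq_mul]
  have v24 : Valid 315 (unpack g24P) := (gens4_mem g24P (by simp [gens4])).1
  have vk : Valid 315 (unpack (tk k.val)) := tk_valid k.2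
  refine Equiv.ext fun i => Fin.ext ?_
  rw [Equiv.Perm.mul_apply, Equiv.Perm.mul_apply, toPerm_unpack_apply vw,
    toPerm_unpack_apply v24, toPerm_unpack_apply vk, toPerm_unpack_apply vw]
  have := Nat.eq_of_beq_eq_true (hc i.1 i.2)
  rw [hwk] at this
  exact this.symm

/-! ### orders of products of reflections -/

theorem prodP_two (a b : Fin 315) : prodP [tk a.val, tk b.val] = T a * T b := by
  rw [prodP_cons, prodP_cons, prodP_nil, mul_one, ← T_eq_tk, ← T_eq_tk]

theorem prodP_three (a b c : Fin 315) : prodP [tk a.val, tk b.val, tk c.val] = T a * T b * T c := by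
  rw [prodP_cons, prodP_cons, prodP_cons, prodP_nil, mul_one, ← T_eq_tk, ← T_eq_tk, ← T_eq_tk,
    mul_assoc]

theorem ord_two (a b : Fin 315) (p e : ℕ) [Fact p.Prime] :
    ordPP [tk a.val, tk b.val] p e = true ↔ orderOf (Tp a * Tp b) = p ^ (e + 1) := by
  rw [ordPP_iff _ (by
    intro w hw
    simp only [List.mem_cons, List.not_mem_nil, or_false] at hw
    rcases hw with rfl | rfl
    · exact tk_valid a.2
    · exact tk_valid b.2), prodP_two, ← Subgroup.orderOf_coe]
  rfl

theorem ord_three (a b c : Fin 315) (p e : ℕ) [Fact p.Prime] :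
    ordPP [tk a.val, tk b.val, tk c.val] p e = true ↔
      orderOf (Tp a * Tp b * Tp c) = p ^ (e + 1) := by
  rw [ordPP_iff _ (by
    intro w hw
    simp only [List.mem_cons, List.not_mem_nil, or_false] at hw
    rcases hw with rfl | rfl | rfl
    · exact tk_valid a.2
    · exact tk_valid b.2
    · exact tk_valid c.2), prodP_three, ← Subgroup.orderOf_coe]
  rfl

end Cfsg.Agent.J2.Card
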