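import Cfsg.Agent.Lib.Lead.J2.OutB

/-!
# The automorphism group of `PJ2` has order at most 1209600 (continued)
-/

set_option autoImplicit false

namespace Cfsg.Agent.J2.Card

open Cfsg.Agent.Lib.Helper6.SS Cfsg.Agent.Lib.Helper8.J2Cent

instance : Fact (Nat.Prime 2) := ⟨Nat.prime_two⟩
instance : Fact (Nat.Prime 3) := ⟨Nat.prime_three⟩
instance : Fact (Nat.Prime 5) := ⟨Nat.prime_five⟩

theorem tk24 : tk 24 = g24P := chk_tk.1
theorem tk77 : tk 77 = g77P := chk_tk.2.1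
theorem tk165 : tk 165 = g165P := chk_tk.2.2.1
theorem tk202 : tk 202 = g202P := chk_tk.2.2.2

/-! ### the orders of the products of the generating reflections -/

theorem o_24_77 : orderOf (Tp 24 * Tp 77) = 2 ^ (1 + 1) :=
  (ord_two 24 77 2 1).1 (by
    show ordPP [tk 24, tk 77] 2 1 = true
    rw [tk24, tk77]; exact chk_base.1)

theorem o_24_165 : orderOf (Tp 24 * Tp 165) = 3 ^ (0 + 1) :=
  (ord_two 24 165 3 0).1 (by
    show ordPP [tk 24, tk 165] 3 0 = true
    rw [tk24, tk165]; exact chk_base.2.1)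

theorem o_77_165 : orderOf (Tp 77 * Tp 165) = 3 ^ (0 + 1) :=
  (ord_two 77 165 3 0).1 (by
    show ordPP [tk 77, tk 165] 3 0 = true
    rw [tk77, tk165]; exact chk_base.2.2.1)

theorem o_24_77_165 : orderOf (Tp 24 * Tp 77 * Tp 165) = 2 ^ (2 + 1) :=
  (ord_three 24 77 165 2 2).1 (by
    show ordPP [tk 24, tk 77, tk 165] 2 2 = true
    rw [tk24, tk77, tk165]; exact chk_base.2.2.2.1)

theorem o_165_202 : orderOf (Tp 165 * Tp 202) = 2 ^ (0 + 1) :=
  (ord_two 165 202 2 0).1 (by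
    show ordPP [tk 165, tk 202] 2 0 = true
    rw [tk165, tk202]; exact chk_base.2.2.2.2.1)

theorem o_24_202 : orderOf (Tp 24 * Tp 202) = 3 ^ (0 + 1) :=
  (ord_two 24 202 3 0).1 (by
    show ordPP [tk 24, tk 202] 3 0 = true
    rw [tk24, tk202]; exact chk_base.2.2.2.2.2.1)

theorem o_77_202 : orderOf (Tp 77 * Tp 202) = 5 ^ (0 + 1) :=
  (ord_two 77 202 5 0).1 (by
    show ordPP [tk 77, tk 202] 5 0 = true
    rw [tk77, tk202]; exact chk_base.2.2.2.2.2.2)

/-! ### the tests -/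

theorem test1_of (k : Fin 315) (h : orderOf (Tp 24 * Tp k) = 2 ^ (1 + 1)) : test1 k.val = true := by
  rw [test1, ← tk24]
  exact (ord_two 24 k 2 1).2 h

theorem test2_of (k : Fin 315) (h1 : orderOf (Tp 24 * Tp k) = 3 ^ (0 + 1))
    (h2 : orderOf (Tp 77 * Tp k) = 3 ^ (0 + 1)) (h3 : orderOf (Tp 24 * Tp 77 * Tp k) = 2 ^ (2 + 1)) :
    test2 k.val = true := by
  rw [test2, ← tk24, ← tk77, Bool.and_eq_true, Bool.and_eq_true]
  exact ⟨⟨(ord_two 24 k 3 0).2 h1, (ord_two 77 k 3 0).2 h2⟩, (ord_three 24 77 k 2 2).2 h3⟩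

theorem test3_of (k : Fin 315) (h1 : orderOf (Tp 165 * Tp k) = 2 ^ (0 + 1))
    (h2 : orderOf (Tp 24 * Tp k) = 3 ^ (0 + 1)) (h3 : orderOf (Tp 77 * Tp k) = 5 ^ (0 + 1)) :
    test3 k.val = true := by
  rw [test3, ← tk165, ← tk24, ← tk77, Bool.and_eq_true, Bool.and_eq_true]
  exact ⟨⟨(ord_two 165 k 2 0).2 h1, (ord_two 24 k 3 0).2 h2⟩, (ord_two 77 k 5 0).2 h3⟩

/-! ### generation -/

theorem closure_Tp : Subgroup.closure ({Tp 24, Tp 77, Tp 165, Tp 202} : Set ↥PJ2) = ⊤ := by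
  have h := Subgroup.closure_closure_coe_preimage
    (k := ({toPerm 315 g24, toPerm 315 g77, toPerm 315 g165, toPerm 315 g202} :
      Set (Equiv.Perm (Fin 315))))
  have hset : ((↑) : ↥PJ2 → Equiv.Perm (Fin 315)) ⁻¹'
      ({toPerm 315 g24, toPerm 315 g77, toPerm 315 g165, toPerm 315 g202} :
        Set (Equiv.Perm (Fin 315))) = {Tp 24, Tp 77, Tp 165, Tp 202} := by
    ext x
    simp only [Set.mem_preimage, Set.mem_insert_iff, Set.mem_singleton_iff, Subtype.ext_iff, Tp_val]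
    rw [show T 24 = toPerm 315 g24 from phi24, show T 77 = toPerm 315 g77 from phi77,
      show T 165 = toPerm 315 g165 from phi165, show T 202 = toPerm 315 g202 from phi202]
  rw [← hset]
  exact h

theorem aut_eq_one (α : MulAut ↥PJ2) (h1 : α (Tp 24) = Tp 24) (h2 : α (Tp 77) = Tp 77)
    (h3 : α (Tp 165) = Tp 165) (h4 : α (Tp 202) = Tp 202) : α = 1 := by
  have : (α : ↥PJ2 →* ↥PJ2) = MonoidHom.id _ := by
    apply MonoidHom.eq_of_eqOn_dense closure_Tp
    intro x hx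
    simp only [Set.mem_insert_iff, Set.mem_singleton_iff] at hx
    rcases hx with rfl | rfl | rfl | rfl
    · exact h1
    · exact h2
    · exact h3
    · exact h4
  refine MulEquiv.ext fun x => ?_
  exact congrArg (fun f : ↥PJ2 →* ↥PJ2 => f x) this

/-! ### the bound -/

section bound

variable (hA : ∀ (α : MulAut ↥PJ2) (k : Fin 315), ∃ k' : Fin 315, α (Tp k) = Tp k')

include hA

open Classical in
theorem card_aut_le : Nat.card (MulAut ↥PJ2) ≤ 1209600 := by
  -- the four sets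
  let F0 : Finset ↥PJ2 := (Finset.univ : Finset (Fin 315)).image Tp
  let F1 : Finset ↥PJ2 := (Finset.univ.filter (fun k : Fin 315 => test1 k.val = true)).image Tp
  let F2 : Finset ↥PJ2 := (Finset.univ.filter (fun k : Fin 315 => test2 k.val = true)).image Tp
  let F3 : Finset ↥PJ2 := (Finset.univ.filter (fun k : Fin 315 => test3 k.val = true)).image Tp
  have c0 : F0.card ≤ 315 := by
    refine Finset.card_image_le.trans ?_
    rw [Finset.card_univ, Fintype.card_fin]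
  have c1 : F1.card ≤ 80 := Finset.card_image_le.trans (le_of_eq chk_cnt1)
  have c2 : F2.card ≤ 48 := Finset.card_image_le.trans (le_of_eq chk_cnt2)
  have c3 : F3.card ≤ 1 := Finset.card_image_le.trans (le_of_eq chk_cnt3)
  have hsm : ∀ (b : MulAut ↥PJ2) (x : ↥PJ2), b • x = b x := fun _ _ => rfl
  -- first step
  obtain ⟨B1, m1, k1⟩ := card_le_step (⊤ : Subgroup (MulAut ↥PJ2)) (Tp 24) F0 (by
    intro b _
    obtain ⟨k', hk'⟩ := hA b 24
    rw [hsm, hk']
    exact Finset.mem_image_of_mem _ (Finset.mem_univ _))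
  -- second step
  obtain ⟨B2, m2, k2⟩ := card_le_step B1 (Tp 77) F1 (by
    intro b hb
    have f24 : b (Tp 24) = Tp 24 := ((m1 b).1 hb).2
    obtain ⟨k', hk'⟩ := hA b 77
    rw [hsm, hk']
    refine Finset.mem_image_of_mem _ (Finset.mem_filter.2 ⟨Finset.mem_univ _, test1_of k' ?_⟩)
    rw [← f24, ← hk', ← map_mul, MulEquiv.orderOf_eq]
    exact o_24_77)
  -- third step
  obtain ⟨B3, m3, k3⟩ := card_le_step B2 (Tp 165) F2 (by
    intro b hb
    have hb1 : b ∈ B1 := ((m2 b).1 hb).1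
    have f24 : b (Tp 24) = Tp 24 := ((m1 b).1 hb1).2
    have f77 : b (Tp 77) = Tp 77 := ((m2 b).1 hb).2
    obtain ⟨k', hk'⟩ := hA b 165
    rw [hsm, hk']
    refine Finset.mem_image_of_mem _ (Finset.mem_filter.2 ⟨Finset.mem_univ _, test2_of k' ?_ ?_ ?_⟩)
    · rw [← f24, ← hk', ← map_mul, MulEquiv.orderOf_eq]
      exact o_24_165
    · rw [← f77, ← hk', ← map_mul, MulEquiv.orderOf_eq]
      exact o_77_165
    · rw [← f24, ← f77, ← hk', ← map_mul, ← map_mul, MulEquiv.orderOf_eq]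
      exact o_24_77_165)
  -- fourth step
  obtain ⟨B4, m4, k4⟩ := card_le_step B3 (Tp 202) F3 (by
    intro b hb
    have hb2 : b ∈ B2 := ((m3 b).1 hb).1
    have hb1 : b ∈ B1 := ((m2 b).1 hb2).1
    have f24 : b (Tp 24) = Tp 24 := ((m1 b).1 hb1).2
    have f77 : b (Tp 77) = Tp 77 := ((m2 b).1 hb2).2
    have f165 : b (Tp 165) = Tp 165 := ((m3 b).1 hb).2
    obtain ⟨k', hk'⟩ := hA b 202
    rw [hsm, hk']
    refine Finset.mem_image_of_mem _ (Finset.mem_filter.2 ⟨Finset.mem_univ _, test3_of k' ?_ ?_ ?_⟩)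
    · rw [← f165, ← hk', ← map_mul, MulEquiv.orderOf_eq]
      exact o_165_202
    · rw [← f24, ← hk', ← map_mul, MulEquiv.orderOf_eq]
      exact o_24_202
    · rw [← f77, ← hk', ← map_mul, MulEquiv.orderOf_eq]
      exact o_77_202)
  -- the last group is trivial
  have hB4 : B4 = ⊥ := by
    rw [Subgroup.eq_bot_iff_forall]
    intro b hb
    have hb3 : b ∈ B3 := ((m4 b).1 hb).1
    have hb2 : b ∈ B2 := ((m3 b).1 hb3).1
    have hb1 : b ∈ B1 := ((m2 b).1 hb2).1
    exact aut_eq_one b ((m1 b).1 hb1).2 ((m2 b).1 hb2).2 ((m3 b).1 hb3).2 ((m4 b).1 hb).2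
  have k5 : Nat.card B4 = 1 := by rw [hB4]; exact Subgroup.card_bot
  rw [← Subgroup.card_top (G := MulAut ↥PJ2)]
  calc Nat.card (⊤ : Subgroup (MulAut ↥PJ2)) ≤ F0.card * Nat.card B1 := k1
    _ ≤ 315 * (F1.card * Nat.card B2) := Nat.mul_le_mul c0 k2
    _ ≤ 315 * (80 * (F2.card * Nat.card B3)) :=
        Nat.mul_le_mul_left _ (Nat.mul_le_mul c1 k3)
    _ ≤ 315 * (80 * (48 * (F3.card * Nat.card B4))) :=
        Nat.mul_le_mul_left _ (Nat.mul_le_mul_left _ (Nat.mul_le_mul c2 k4))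
    _ ≤ 315 * (80 * (48 * (1 * 1))) := by
        rw [k5]
        exact Nat.mul_le_mul_left _ (Nat.mul_le_mul_left _ (Nat.mul_le_mul_left _
          (Nat.mul_le_mul_right _ c3)))
    _ = 1209600 := by norm_num

end bound

end Cfsg.Agent.J2.Card
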