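import Cfsg.Agent.Lib.Lead.J2.OutChk

/-! # An outer automorphism of `PJ2`: data and kernel checks -/

set_option autoImplicit false
set_option maxRecDepth 100000

namespace Cfsg.Agent.J2.Card

/-- a permutation of the 315 lines of order 2 normalising `PJ2`, packed -/
def tauP : ℕ := 2173209821665011175225912289950002948337143465912680180573470062064419642611428546546146928003384809277389874782151401540551706593454440752225786246077538613679623748059773366071635647481234116688698889054211229415742205041864488182478665393883068292621453887818387763005108442321107010399029441423110966909271762021860960816620898596338768711392579429497456828486533342584121250616522034465709390037143334410300251056520390841219789099537731621132920110048216846044105760369977303046757060306421929581156845236290698146083965386145128019650003515979408098758318109637686383534272774086595575568306165624366806007882492901718657691965657643850348124264942267631808441631971567891998615790198841064673008551149932760593950750881625790539246001992785283632563967466017228537762227887048993627133941737972578128962509196149343418989001195302327953164471885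

theorem chk_tauinv : invOK tauP tauP = true := by decide +kernel

theorem chk_taunorm : [24, 77, 165, 202].all (fun k => allB 315 (fun x =>
    Nat.beq (lk tauP (lk (tk k) x)) (lk (tk (lk tauP k)) (lk tauP x)))) = true := by decide +kernel

theorem chk_supp24 : (Finset.univ.filter (fun x : Fin 315 => lk g24P x.val ≠ x.val)).card = 304 := by
  decide +kernel

theorem chk_supptau : (Finset.univ.filter (fun x : Fin 315 => lk tauP x.val ≠ x.val)).card = 294 := by
  decide +kernel

theorem chk_fix3 : allB 315 (fun x => cond (Nat.beq (lk (tk 24) x) x && Nat.beq (lk (tk 23) x) x &&
    Nat.beq (lk (tk 88) x) x) (Nat.beq x 24) true) = true := by decide +kernel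

theorem chk_fix24 : lk (tk 24) 24 = 24 ∧ lk (tk 23) 24 = 24 ∧ lk (tk 88) 24 = 24 := by
  decide +kernel

end Cfsg.Agent.J2.Card
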