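import Cfsg.Agent.Lib.Lead.J2.OutC
import Cfsg.Agent.Lib.Helper7.J2Perm
import Cfsg.Agent.Lib.Helper6.OutGeneric

/-!
# The outer automorphism group of the Hall–Janko group has order 2

Assembled from two inputs: every involution of `PJ2` whose centraliser has order 1920 is a reflection, and there is
a non-inner automorphism.
-/

set_option autoImplicit false

namespace Cfsg.Agent.J2.Card

open Cfsg.Agent.Lib.Helper6.SS Cfsg.Agent.Lib.Helper8.J2Cent

set_option maxRecDepth 100000 in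
theorem chk_ord24 : ordPP [g24P] 2 0 = true := by decide +kernel

theorem orderOf_Tp24 : orderOf (Tp 24) = 2 := by
  have h := (ordPP_iff [tk 24] (by
    intro w hw
    rw [List.mem_singleton] at hw
    rw [hw]; exact tk_valid (by norm_num)) 2 0).1 (by rw [tk24]; exact chk_ord24)
  have e : T 24 = toPerm 315 (unpack (tk 24)) := T_eq_tk 24
  rw [prodP_cons, prodP_nil, mul_one, ← e] at h
  have h' : orderOf (T 24) = 2 := by simpa using h
  rw [← Subgroup.orderOf_coe]
  exact h'

theorem exists_mem_apply (k : Fin 315) : ∃ σ : ↥PJ2, σ.1 24 = k := by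
  obtain ⟨g, hg⟩ := exists_phi_eq 24 k
  exact ⟨⟨phi g, phi_mem g⟩, hg⟩

theorem orderOf_Tp (k : Fin 315) : orderOf (Tp k) = 2 := by
  obtain ⟨σ, hσ⟩ := exists_mem_apply k
  rw [← hσ, ← Tp_conj, ← orderOf_Tp24]
  exact ((MulAut.conj σ).orderOf_eq (Tp 24))

theorem centralizer_Tp (k : Fin 315) :
    Subgroup.centralizer ({Tp k} : Set ↥PJ2) = MulAction.stabilizer ↥PJ2 k := by
  ext σ
  rw [Subgroup.mem_centralizer_singleton_iff, MulAction.mem_stabilizer_iff]
  constructor
  · intro h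
    have h1 : σ * Tp k * σ⁻¹ = Tp k := by rw [h, mul_inv_cancel_right]
    rw [Tp_conj] at h1
    exact Tp_injective h1
  · intro h
    have h1 := Tp_conj σ k
    rw [show σ.1 k = k from h] at h1
    rw [← h1, inv_mul_cancel_right, h1]

theorem card_centralizer_Tp (k : Fin 315) :
    Nat.card (Subgroup.centralizer ({Tp k} : Set ↥PJ2)) = 1920 := by
  rw [centralizer_Tp]
  exact Cfsg.Agent.Lib.Helper8.J2Stab.card_stab Cfsg.Agent.Lib.Helper7.J2Perm.card_PJ2 k

theorem card_centralizer_map (α : MulAut ↥PJ2) (x : ↥PJ2) :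
    Nat.card (Subgroup.centralizer ({α x} : Set ↥PJ2)) =
      Nat.card (Subgroup.centralizer ({x} : Set ↥PJ2)) := by
  symm
  refine Nat.card_congr
    { toFun := fun z => ⟨α z.1, ?_⟩
      invFun := fun z => ⟨α.symm z.1, ?_⟩
      left_inv := fun z => Subtype.ext (α.symm_apply_apply z.1)
      right_inv := fun z => Subtype.ext (α.apply_symm_apply z.1) }
  · have := z.2
    rw [Subgroup.mem_centralizer_singleton_iff] at this ⊢
    rw [← map_mul, this, map_mul]
  · have := z.2
    rw [Subgroup.mem_centralizer_singleton_iff] at this ⊢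
    apply α.injective
    rw [map_mul, map_mul, α.apply_symm_apply, this]

section final

variable (hA : ∀ x : ↥PJ2, orderOf x = 2 →
    Nat.card (Subgroup.centralizer ({x} : Set ↥PJ2)) = 1920 →
    ∃ k : Fin 315, (x : Equiv.Perm (Fin 315)) = phi (lineReflG k))
  (hO : ∃ α : MulAut ↥PJ2, ∀ g : ↥PJ2, α ≠ MulAut.conj g)

include hA in
theorem aut_perm (α : MulAut ↥PJ2) (k : Fin 315) : ∃ k' : Fin 315, α (Tp k) = Tp k' := by
  obtain ⟨k', hk'⟩ := hA (α (Tp k)) (by rw [MulEquiv.orderOf_eq]; exact orderOf_Tp k)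
    (by rw [card_centralizer_map]; exact card_centralizer_Tp k)
  exact ⟨k', Subtype.ext hk'⟩

theorem conj_injective : Function.Injective (MulAut.conj : ↥PJ2 →* MulAut ↥PJ2) := by
  rw [injective_iff_map_eq_one]
  intro g hg
  have hk : ∀ k : Fin 315, g.1 k = k := by
    intro k
    have h1 := Tp_conj g k
    have h2 : g * Tp k * g⁻¹ = Tp k := by
      have := congrArg (fun β : MulAut ↥PJ2 => β (Tp k)) hg
      simpa [MulAut.conj_apply] using this
    rw [h2] at h1
    exact (Tp_injective h1).symm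
  exact Subtype.ext (Equiv.ext hk)

theorem card_inn : Nat.card (Cfsg.Inn ↥PJ2) = 604800 := by
  have : Nat.card (Cfsg.Inn ↥PJ2) = Nat.card ↥PJ2 :=
    (Nat.card_congr (MonoidHom.ofInjective conj_injective).toEquiv).symm
  rw [this]
  exact Cfsg.Agent.Lib.Helper7.J2Perm.card_PJ2

include hA hO in
theorem card_out_PJ2 : Nat.card (Cfsg.Out ↥PJ2) = 2 := by
  have h1 : Nat.card (MulAut ↥PJ2) ≤ 1209600 := card_aut_le (aut_perm hA)
  have h2 := Subgroup.card_mul_index (Cfsg.Inn ↥PJ2)
  rw [card_inn] at h2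
  have h3 : (Cfsg.Inn ↥PJ2).index ≠ 1 := by
    rw [Ne, Subgroup.index_eq_one]
    intro htop
    obtain ⟨α, hα⟩ := hO
    have : α ∈ Cfsg.Inn ↥PJ2 := by rw [htop]; exact Subgroup.mem_top _
    obtain ⟨g, hg⟩ := this
    exact hα g hg.symm
  have h4 : (Cfsg.Inn ↥PJ2).index ≠ 0 := by
    intro h0
    rw [h0, mul_zero] at h2
    have : Nat.card (MulAut ↥PJ2) ≠ 0 := Nat.card_pos.ne'
    exact this h2.symm
  show Nat.card (MulAut ↥PJ2 ⧸ Cfsg.Inn ↥PJ2) = 2
  rw [← Subgroup.index_eq_card]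
  have h5 : 604800 * (Cfsg.Inn ↥PJ2).index ≤ 1209600 := by rw [h2]; exact h1
  omega

include hA hO in
theorem S2066_of : Nat.card (Cfsg.Out Cfsg.Spor.J2) = 2 := by
  rw [Cfsg.Agent.Lib.Helper6.OutGeneric.card_out_congr Cfsg.Agent.Lib.Helper5.J2Iso.isoPJ2]
  exact card_out_PJ2 hA hO

end final

end Cfsg.Agent.J2.Card
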