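import Cfsg.Agent.Lib.Lead.J2.OutChk2
import Cfsg.Agent.Lib.Lead.J2.OutD

/-!
# A non-inner automorphism of `PJ2`

Conjugation by an odd permutation `τ` of the 315 lines that normalises `PJ2`; the group `PJ2` consists of even
permutations and its centraliser in the symmetric group is trivial.
-/

set_option autoImplicit false

namespace Cfsg.Agent.J2.Card

open Cfsg.Agent.Lib.Helper6.SS Cfsg.Agent.Lib.Helper8.J2Cent

/-! ### the sign of an involution -/

theorem sign_of_sq_eq_one {n : ℕ} (σ : Equiv.Perm (Fin n)) (h2 : σ * σ = 1) (h1 : σ ≠ 1) :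
    Equiv.Perm.sign σ = (-1) ^ (σ.support.card / 2) := by
  have ho : orderOf σ = 2 := orderOf_eq_prime (by rw [pow_two]; exact h2) h1
  obtain ⟨m, hm⟩ := Equiv.Perm.cycleType_prime_order (σ := σ) (by rw [ho]; exact Nat.prime_two)
  rw [ho] at hm
  have hs : σ.support.card = (m + 1) * 2 := by
    rw [← Equiv.Perm.sum_cycleType, hm, Multiset.sum_replicate, smul_eq_mul]
  rw [Equiv.Perm.sign_of_cycleType, hm, hs, Multiset.sum_replicate, Multiset.card_replicate,
    smul_eq_mul, Nat.mul_div_cancel _ (by norm_num : 0 < 2), pow_add, pow_mul]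
  norm_num

theorem support_card_unpack {P : ℕ} (hv : Valid 315 (unpack P)) :
    (toPerm 315 (unpack P)).support.card =
      (Finset.univ.filter (fun x : Fin 315 => lk P x.val ≠ x.val)).card := by
  congr 1
  ext x
  rw [Equiv.Perm.mem_support, Finset.mem_filter, Ne, Fin.ext_iff, toPerm_unpack_apply hv]
  simp

theorem sq_of_invOK {P : ℕ} (h : invOK P P = true) :
    toPerm 315 (unpack P) * toPerm 315 (unpack P) = 1 := by
  have hv := valid_of_invOK h
  rw [invOK, allB_iff] at h
  refine Equiv.ext fun i => Fin.ext ?_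
  rw [Equiv.Perm.mul_apply, toPerm_unpack_apply hv, toPerm_unpack_apply hv]
  have := h i.1 i.2
  cases hb : Nat.ble 315 (lk P i.1) with
  | true => rw [hb] at this; exact absurd this (by simp)
  | false =>
    rw [hb] at this
    exact Nat.eq_of_beq_eq_true this

/-! ### the group consists of even permutations -/

theorem v24P : Valid 315 (unpack g24P) := (gens4_mem g24P (by simp [gens4])).1

theorem T24_eq : T 24 = toPerm 315 (unpack g24P) := by
  rw [show T 24 = toPerm 315 g24 from phi24, chk_g24]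

theorem T24_ne_one : T 24 ≠ 1 := by
  intro h
  have := orderOf_Tp24
  rw [← Subgroup.orderOf_coe, Tp_val, h, orderOf_one] at this
  exact absurd this (by norm_num)

theorem sign_T24 : Equiv.Perm.sign (T 24) = 1 := by
  have h2 : T 24 * T 24 = 1 := by
    have := orderOf_Tp24
    have h3 : (Tp 24) ^ 2 = 1 := by rw [← this]; exact pow_orderOf_eq_one _
    have := congrArg Subtype.val h3
    rw [pow_two] at this
    exact this
  rw [sign_of_sq_eq_one _ h2 T24_ne_one, T24_eq, support_card_unpack v24P, chk_supp24]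
  norm_num

theorem sign_T (k : Fin 315) : Equiv.Perm.sign (T k) = 1 := by
  obtain ⟨σ, hσ⟩ := exists_mem_apply k
  have := congrArg Subtype.val (Tp_conj σ 24)
  rw [hσ] at this
  simp only [Subgroup.coe_mul, Subgroup.coe_inv, Tp_val] at this
  rw [← this, Equiv.Perm.sign_mul, Equiv.Perm.sign_mul, Equiv.Perm.sign_inv, sign_T24, mul_one,
    Int.units_mul_self]

theorem sign_of_mem {x : Equiv.Perm (Fin 315)} (hx : x ∈ PJ2) : Equiv.Perm.sign x = 1 := by
  have : PJ2 ≤ (Equiv.Perm.sign : Equiv.Perm (Fin 315) →* ℤˣ).ker := by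
    rw [PJ2, Subgroup.closure_le]
    intro g hg
    simp only [Set.mem_insert_iff, Set.mem_singleton_iff] at hg
    rw [SetLike.mem_coe, MonoidHom.mem_ker]
    rcases hg with rfl | rfl | rfl | rfl
    · rw [← show T 24 = toPerm 315 g24 from phi24]; exact sign_T 24
    · rw [← show T 77 = toPerm 315 g77 from phi77]; exact sign_T 77
    · rw [← show T 165 = toPerm 315 g165 from phi165]; exact sign_T 165
    · rw [← show T 202 = toPerm 315 g202 from phi202]; exact sign_T 202
  exact MonoidHom.mem_ker.1 (this hx)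

/-! ### the permutation `τ` -/

/-- the permutation `τ` -/
noncomputable def tau : Equiv.Perm (Fin 315) := toPerm 315 (unpack tauP)

theorem vtau : Valid 315 (unpack tauP) := valid_of_invOK chk_tauinv

theorem tau_sq : tau * tau = 1 := sq_of_invOK chk_tauinv

theorem tau_inv : tau⁻¹ = tau := inv_eq_of_mul_eq_one_left tau_sq

theorem sign_tau : Equiv.Perm.sign tau = -1 := by
  have hne : tau ≠ 1 := by
    intro h
    have h1 := support_card_unpack vtau
    rw [chk_supptau, show toPerm 315 (unpack tauP) = tau from rfl, h, Equiv.Perm.support_one,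
      Finset.card_empty] at h1
    exact absurd h1 (by norm_num)
  rw [sign_of_sq_eq_one _ tau_sq hne, show tau = toPerm 315 (unpack tauP) from rfl,
    support_card_unpack vtau, chk_supptau]
  norm_num

theorem tau_not_mem : tau ∉ PJ2 := by
  intro h
  have := sign_of_mem h
  rw [sign_tau] at this
  exact absurd this (by decide)

theorem tau_conj_T {k : ℕ} (hk : k ∈ [24, 77, 165, 202]) (hk' : k < 315) :
    tau * T ⟨k, hk'⟩ * tau⁻¹ = T (tau ⟨k, hk'⟩) := by
  have hc := List.all_eq_true.1 chk_taunorm k hk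
  rw [allB_iff] at hc
  have hval : ((tau ⟨k, hk'⟩ : Fin 315) : ℕ) = lk tauP k := toPerm_unpack_apply vtau ⟨k, hk'⟩
  obtain ⟨j, hj⟩ : ∃ j : Fin 315, tau ⟨k, hk'⟩ = j := ⟨_, rfl⟩
  rw [hj] at hval ⊢
  rw [mul_inv_eq_iff_eq_mul, T_eq_tk, T_eq_tk]
  refine Equiv.ext fun i => Fin.ext ?_
  have e1 : ∀ y : Fin 315, ((tau y : Fin 315) : ℕ) = lk tauP y.val :=
    fun y => toPerm_unpack_apply vtau y
  rw [Equiv.Perm.mul_apply, Equiv.Perm.mul_apply, e1, toPerm_unpack_apply (tk_valid hk'),
    toPerm_unpack_apply (tk_valid j.2), e1, hval]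
  exact Nat.eq_of_beq_eq_true (hc i.1 i.2)

theorem tau_conj_mem {x : Equiv.Perm (Fin 315)} (hx : x ∈ PJ2) : tau * x * tau⁻¹ ∈ PJ2 := by
  have : PJ2 ≤ PJ2.comap (MulAut.conj tau).toMonoidHom := by
    conv_lhs => rw [PJ2]
    rw [Subgroup.closure_le]
    intro g hg
    simp only [Set.mem_insert_iff, Set.mem_singleton_iff] at hg
    rw [SetLike.mem_coe, Subgroup.mem_comap]
    show tau * g * tau⁻¹ ∈ PJ2
    rcases hg with rfl | rfl | rfl | rfl
    · rw [← show T 24 = toPerm 315 g24 from phi24]
      rw [show (24 : Fin 315) = ⟨24, by norm_num⟩ from rfl, tau_conj_T (by simp)]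
      exact phi_mem _
    · rw [← show T 77 = toPerm 315 g77 from phi77]
      rw [show (77 : Fin 315) = ⟨77, by norm_num⟩ from rfl, tau_conj_T (by simp)]
      exact phi_mem _
    · rw [← show T 165 = toPerm 315 g165 from phi165]
      rw [show (165 : Fin 315) = ⟨165, by norm_num⟩ from rfl, tau_conj_T (by simp)]
      exact phi_mem _
    · rw [← show T 202 = toPerm 315 g202 from phi202]
      rw [show (202 : Fin 315) = ⟨202, by norm_num⟩ from rfl, tau_conj_T (by simp)]
      exact phi_mem _
  exact this hx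

/-- conjugation by `τ`, as an automorphism of the group -/
noncomputable def alphaTau : MulAut ↥PJ2 where
  toFun x := ⟨tau * x.1 * tau⁻¹, tau_conj_mem x.2⟩
  invFun x := ⟨tau * x.1 * tau⁻¹, tau_conj_mem x.2⟩
  left_inv x := by
    apply Subtype.ext
    show tau * (tau * x.1 * tau⁻¹) * tau⁻¹ = x.1
    rw [tau_inv]
    calc tau * (tau * x.1 * tau) * tau = (tau * tau) * x.1 * (tau * tau) := by group
      _ = x.1 := by rw [tau_sq, one_mul, mul_one]
  right_inv x := by
    apply Subtype.ext
    show tau * (tau * x.1 * tau⁻¹) * tau⁻¹ = x.1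
    rw [tau_inv]
    calc tau * (tau * x.1 * tau) * tau = (tau * tau) * x.1 * (tau * tau) := by group
      _ = x.1 := by rw [tau_sq, one_mul, mul_one]
  map_mul' x y := by
    apply Subtype.ext
    show tau * (x.1 * y.1) * tau⁻¹ = (tau * x.1 * tau⁻¹) * (tau * y.1 * tau⁻¹)
    group

/-! ### the centraliser of the group in the symmetric group is trivial -/

theorem cent_trivial (c : Equiv.Perm (Fin 315)) (hc : ∀ x ∈ PJ2, c * x = x * c) : c = 1 := by
  have hfix : ∀ k : Fin 315, (T k) 24 = 24 → T k (c 24) = c 24 := by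
    intro k hk
    have := congrArg (fun σ : Equiv.Perm (Fin 315) => σ 24) (hc (T k) (phi_mem _))
    simp only [Equiv.Perm.mul_apply, hk] at this
    exact this.symm
  have f24 : (T 24) 24 = 24 := T_fix 24
  have hT : ∀ (k : ℕ) (hk : k < 315), lk (tk k) 24 = 24 → (T ⟨k, hk⟩) 24 = 24 := by
    intro k hk h
    apply Fin.ext
    rw [T_eq_tk, toPerm_unpack_apply (tk_valid hk)]
    exact h
  have hval : ∀ (k : ℕ) (hk : k < 315), lk (tk k) 24 = 24 → lk (tk k) (c 24).val = (c 24).val := by
    intro k hk h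
    have := congrArg Fin.val (hfix ⟨k, hk⟩ (hT k hk h))
    rwa [T_eq_tk, toPerm_unpack_apply (tk_valid hk)] at this
  have h1 := hval 24 (by norm_num) chk_fix24.1
  have h2 := hval 23 (by norm_num) chk_fix24.2.1
  have h3 := hval 88 (by norm_num) chk_fix24.2.2
  have hchk := allB_iff.1 chk_fix3 (c 24).val (c 24).2
  rw [h1, h2, h3, Nat.beq_refl] at hchk
  have hc24 : c 24 = 24 := Fin.ext (Nat.eq_of_beq_eq_true hchk)
  refine Equiv.ext fun k => ?_
  obtain ⟨σ, hσ⟩ := exists_mem_apply k
  have := congrArg (fun ρ : Equiv.Perm (Fin 315) => ρ 24) (hc σ.1 σ.2)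
  simp only [Equiv.Perm.mul_apply, hσ, hc24] at this
  exact this

/-! ### the automorphism is not inner -/

theorem exists_outer : ∃ α : MulAut ↥PJ2, ∀ g : ↥PJ2, α ≠ MulAut.conj g := by
  refine ⟨alphaTau, fun g h => ?_⟩
  have hx : ∀ x ∈ PJ2, tau * x * tau⁻¹ = g.1 * x * g.1⁻¹ := by
    intro x hx
    have := congrArg (fun β : MulAut ↥PJ2 => ((β ⟨x, hx⟩ : ↥PJ2) : Equiv.Perm (Fin 315))) h
    simpa [alphaTau, MulAut.conj_apply] using this
  have hc : g.1⁻¹ * tau = 1 := by
    apply cent_trivial
    intro x hx'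
    have := hx x hx'
    calc g.1⁻¹ * tau * x = g.1⁻¹ * (tau * x * tau⁻¹) * tau := by group
      _ = g.1⁻¹ * (g.1 * x * g.1⁻¹) * tau := by rw [this]
      _ = x * (g.1⁻¹ * tau) := by group
  have : tau = g.1 := by
    have := congrArg (fun y => g.1 * y) hc
    simpa using this
  exact tau_not_mem (this ▸ g.2)

/-- **the outer automorphism group of the Hall–Janko group has order 2**, given that the involutions with centraliser
of order 1920 are the reflections -/
theorem S2066_of' (hA : ∀ x : ↥PJ2, orderOf x = 2 →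
    Nat.card (Subgroup.centralizer ({x} : Set ↥PJ2)) = 1920 →
    ∃ k : Fin 315, (x : Equiv.Perm (Fin 315)) = phi (lineReflG k)) :
    Nat.card (Cfsg.Out Cfsg.Spor.J2) = 2 := S2066_of hA exists_outer

end Cfsg.Agent.J2.Card
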