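import Cfsg.Agent.Lib.Helper6.SSApp
import Cfsg.Agent.Lib.Lead.J2.PermGrp

/-!
# A Schreier–Sims certificate with packed permutations

Permutations of 315 points are packed in one natural number, nine bits for each image.  The checks are pointwise,
which keeps the kernel computations small.  The combinatorial core is the one of
`Cfsg.Agent.Lib.Helper6.SS` (`Tset`, `Hgrp`), with the hypotheses of the step restated as propositions.
-/

set_option autoImplicit false

namespace Cfsg.Agent.J2.Card

open Cfsg.Agent.Lib.Helper6.SS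

/-- lookup in a packed permutation -/
def lk (P i : ℕ) : ℕ := Nat.mod (Nat.shiftRight P (Nat.mul 9 i)) 512

/-- bounded universal quantifier, written with the recursor for fast kernel evaluation -/
def allB (k : ℕ) (f : ℕ → Bool) : Bool := Nat.rec true (fun i ih => cond (f i) ih false) k

theorem allB_succ (k : ℕ) (f : ℕ → Bool) : allB (k + 1) f = cond (f k) (allB k f) false := rfl

theorem allB_iff {k : ℕ} {f : ℕ → Bool} : allB k f = true ↔ ∀ i < k, f i = true := by
  induction k with
  | zero => exact ⟨fun _ i hi => absurd hi (Nat.not_lt_zero i), fun _ => rfl⟩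
  | succ k ih =>
    rw [allB_succ]
    constructor
    · intro h i hi
      cases hk : f k with
      | false => rw [hk] at h; exact absurd h (by simp)
      | true =>
        rw [hk] at h
        rcases Nat.lt_succ_iff_lt_or_eq.1 hi with h1 | h1
        · exact ih.1 h i h1
        · rw [h1]; exact hk
    · intro h
      rw [h k (Nat.lt_succ_self k)]
      exact ih.2 fun i hi => h i (Nat.lt_succ_of_lt hi)

/-- the list of a packed permutation -/
def unpack (P : ℕ) : List ℕ := (List.range 315).map (lk P)

theorem unpack_length (P : ℕ) : (unpack P).length = 315 := by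
  rw [unpack, List.length_map, List.length_range]

theorem unpack_getD (P : ℕ) {i : ℕ} (hi : i < 315) : (unpack P).getD i 0 = lk P i := by
  rw [List.getD_eq_getElem _ _ (by rw [unpack_length]; exact hi)]
  simp only [unpack, List.getElem_map, List.getElem_range]

/-- validity from a packed inverse -/
def invOK (P Q : ℕ) : Bool :=
  allB 315 fun i => cond (Nat.ble 315 (lk P i)) false (Nat.beq (lk Q (lk P i)) i)

theorem valid_of_invOK {P Q : ℕ} (h : invOK P Q = true) : Valid 315 (unpack P) := by
  rw [invOK, allB_iff] at h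
  have h1 : ∀ i < 315, lk P i < 315 ∧ lk Q (lk P i) = i := by
    intro i hi
    have := h i hi
    cases hb : Nat.ble 315 (lk P i) with
    | true => rw [hb] at this; exact absurd this (by simp)
    | false =>
      rw [hb] at this
      refine ⟨?_, Nat.eq_of_beq_eq_true this⟩
      by_contra hc
      rw [Nat.ble_eq_true_of_le (Nat.le_of_not_lt hc)] at hb
      exact absurd hb (by simp)
  refine ⟨unpack_length P, ?_, ?_⟩
  · intro x hx
    rw [unpack, List.mem_map] at hx
    obtain ⟨i, hi, rfl⟩ := hx
    exact (h1 i (List.mem_range.1 hi)).1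
  · rw [unpack]
    apply List.Nodup.map_on _ List.nodup_range
    intro x hx y hy hxy
    rw [← (h1 x (List.mem_range.1 hx)).2, ← (h1 y (List.mem_range.1 hy)).2, hxy]

theorem lk_lt_of_valid {P : ℕ} (h : Valid 315 (unpack P)) {i : ℕ} (hi : i < 315) : lk P i < 315 := by
  rw [← unpack_getD P hi]
  exact h.getD_lt hi

theorem toPerm_unpack_apply {P : ℕ} (h : Valid 315 (unpack P)) (i : Fin 315) :
    ((toPerm 315 (unpack P) i : Fin 315) : ℕ) = lk P i := by
  rw [toPerm_apply h, unpack_getD P i.2]

theorem unpack_cmp {A B C : ℕ} (hB : Valid 315 (unpack B))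
    (h : ∀ x < 315, lk C x = lk A (lk B x)) : unpack C = Cfsg.Agent.Lib.Helper6.SS.cmp (unpack A) (unpack B) := by
  have e1 : Cfsg.Agent.Lib.Helper6.SS.cmp (unpack A) (unpack B) =
      (List.range 315).map (fun x => (unpack A).getD (lk B x) 0) := by
    show ((List.range 315).map (lk B)).map (fun i => (unpack A).getD i 0) = _
    rw [List.map_map]
    rfl
  rw [e1, unpack]
  apply List.map_congr_left
  intro x hx
  have hx' : x < 315 := List.mem_range.1 hx
  rw [h x hx', unpack_getD A (lk_lt_of_valid hB hx')]

/-! ### straight-line programs -/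

/-- the test of a straight-line program: the entry `i` of `ext` is the product of the entries
`(prog[i]).1` and `(prog[i]).2` of `base ++ ext`, which come before it -/
def slpOKp (base ext : List ℕ) (prog : List (ℕ × ℕ)) : Bool :=
  allB ext.length fun i =>
    cond (Nat.blt (prog.getD i (0, 0)).1 (base.length + i))
      (cond (Nat.blt (prog.getD i (0, 0)).2 (base.length + i))
        (allB 315 fun x => Nat.beq (lk (ext.getD i 0) x)
          (lk ((base ++ ext).getD (prog.getD i (0, 0)).1 0)
            (lk ((base ++ ext).getD (prog.getD i (0, 0)).2 0) x)))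
        false)
      false

theorem slp_sound (H : Subgroup (Equiv.Perm (Fin 315))) {base ext : List ℕ} {prog : List (ℕ × ℕ)}
    (hbase : ∀ e ∈ base, Valid 315 (unpack e) ∧ toPerm 315 (unpack e) ∈ H)
    (h : slpOKp base ext prog = true) :
    ∀ e ∈ ext, Valid 315 (unpack e) ∧ toPerm 315 (unpack e) ∈ H := by
  rw [slpOKp, allB_iff] at h
  have key : ∀ k, k < (base ++ ext).length →
      Valid 315 (unpack ((base ++ ext).getD k 0)) ∧
        toPerm 315 (unpack ((base ++ ext).getD k 0)) ∈ H := by
    intro k
    induction k using Nat.strong_induction_on with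
    | _ k ih =>
      intro hk
      by_cases hkb : k < base.length
      · rw [List.getD_eq_getElem _ _ hk, List.getElem_append_left hkb]
        exact hbase _ (List.getElem_mem _)
      · have hkb' : base.length ≤ k := Nat.le_of_not_lt hkb
        obtain ⟨i, rfl⟩ := Nat.exists_eq_add_of_le hkb'
        have hi : i < ext.length := by
          rw [List.length_append] at hk; omega
        have hc := h i hi
        cases h1 : Nat.blt (prog.getD i (0, 0)).1 (base.length + i) with
        | false => rw [h1] at hc; exact absurd hc (by simp)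
        | true =>
          rw [h1] at hc
          cases h2 : Nat.blt (prog.getD i (0, 0)).2 (base.length + i) with
          | false => rw [h2] at hc; exact absurd hc (by simp)
          | true =>
            rw [h2] at hc
            simp only [cond_true] at hc
            rw [allB_iff] at hc
            have l1 : (prog.getD i (0, 0)).1 < base.length + i := by
              simpa [Nat.blt] using h1
            have l2 : (prog.getD i (0, 0)).2 < base.length + i := by
              simpa [Nat.blt] using h2
            obtain ⟨v1, m1⟩ := ih _ l1 (by omega)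
            obtain ⟨v2, m2⟩ := ih _ l2 (by omega)
            have hget : (base ++ ext).getD (base.length + i) 0 = ext.getD i 0 := by
              rw [List.getD_eq_getElem _ _ hk, List.getD_eq_getElem _ _ hi,
                List.getElem_append_right (by omega)]
              congr 1
              omega
            rw [hget]
            have := unpack_cmp (A := (base ++ ext).getD (prog.getD i (0, 0)).1 0) v2
              (fun x hx => Nat.eq_of_beq_eq_true (hc x hx))
            rw [this]
            exact ⟨v1.cmp v2, by rw [toPerm_cmp v1 v2]; exact H.mul_mem m1 m2⟩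
  intro e he
  obtain ⟨i, hi, rfl⟩ := List.getElem_of_mem he
  have hk : base.length + i < (base ++ ext).length := by
    rw [List.length_append]; omega
  have := key (base.length + i) hk
  have hget : (base ++ ext).getD (base.length + i) 0 = ext[i] := by
    rw [List.getD_eq_getElem _ _ hk, List.getElem_append_right (by omega)]
    congr 1
    omega
  rwa [hget] at this

/-! ### products of transversal elements -/

/-- the value at `x` of the product of the packed permutations `as` -/
def evalChain (as : List ℕ) (x : ℕ) : ℕ :=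
  List.rec (motive := fun _ => ℕ) x (fun a _ ih => lk a ih) as

theorem evalChain_nil (x : ℕ) : evalChain [] x = x := rfl

theorem evalChain_cons (a : ℕ) (as : List ℕ) (x : ℕ) :
    evalChain (a :: as) x = lk a (evalChain as x) := rfl

/-- the chosen elements of the transversals -/
def getAll : List (List ℕ) → List ℕ → List ℕ
  | U :: Us, j :: js => U.getD j 0 :: getAll Us js
  | _, _ => []

/-- the indices are in range -/
def jsOK : List (List ℕ) → List ℕ → Bool
  | U :: Us, j :: js => decide (j < U.length) && jsOK Us js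
  | [], [] => true
  | _, _ => false

/-- a packed level: base point and transversal -/
def toLvl (p : ℕ × List ℕ) : Lvl := ⟨p.1, p.2.map unpack, []⟩

theorem chain_mem : ∀ (pls : List (ℕ × List ℕ)) (js : List ℕ),
    (∀ p ∈ pls, ∀ u ∈ p.2, Valid 315 (unpack u)) →
    jsOK (pls.map Prod.snd) js = true →
    ∃ t ∈ Tset 315 (pls.map toLvl), ∀ x (hx : x < 315),
      ((t ⟨x, hx⟩ : Fin 315) : ℕ) = evalChain (getAll (pls.map Prod.snd) js) x := by
  intro pls
  induction pls with
  | nil =>
    intro js _ hj
    cases js with
    | nil => exact ⟨1, rfl, fun x hx => rfl⟩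
    | cons j js => simp [jsOK] at hj
  | cons p pls ih =>
    intro js hv hj
    cases js with
    | nil => simp [jsOK] at hj
    | cons j js =>
      rw [List.map_cons, jsOK, Bool.and_eq_true, decide_eq_true_eq] at hj
      obtain ⟨hj1, hj2⟩ := hj
      obtain ⟨t, ht, hx⟩ := ih js (fun q hq => hv q (List.mem_cons_of_mem _ hq)) hj2
      have hmem : p.2.getD j 0 ∈ p.2 := by
        rw [List.getD_eq_getElem _ _ hj1]; exact List.getElem_mem _
      have hval := hv p List.mem_cons_self _ hmem
      refine ⟨toPerm 315 (unpack (p.2.getD j 0)) * t, ?_, ?_⟩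
      · rw [List.map_cons]
        exact ⟨unpack (p.2.getD j 0), List.mem_map_of_mem hmem, t, ht, rfl⟩
      · intro x hx'
        rw [Equiv.Perm.mul_apply, toPerm_unpack_apply hval, List.map_cons, getAll,
          evalChain_cons, ← hx x hx']

/-- the test of one product -/
def pairOK (Us : List (List ℕ)) (s u : ℕ) (js : List ℕ) : Bool :=
  allB 315 (fun x => Nat.beq (lk s (lk u x)) (evalChain (getAll Us js) x))

theorem pair_sound {pls : List (ℕ × List ℕ)} {js : List ℕ} {s u : ℕ}
    (hv : ∀ p ∈ pls, ∀ u ∈ p.2, Valid 315 (unpack u))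
    (hs : Valid 315 (unpack s)) (hu : Valid 315 (unpack u))
    (hj : jsOK (pls.map Prod.snd) js = true) (h : pairOK (pls.map Prod.snd) s u js = true) :
    toPerm 315 (unpack s) * toPerm 315 (unpack u) ∈ Tset 315 (pls.map toLvl) := by
  obtain ⟨t, ht, hx⟩ := chain_mem pls js hv hj
  rw [pairOK, allB_iff] at h
  have : toPerm 315 (unpack s) * toPerm 315 (unpack u) = t := by
    refine Equiv.ext fun i => Fin.ext ?_
    rw [Equiv.Perm.mul_apply, toPerm_unpack_apply hs, toPerm_unpack_apply hu, hx i i.2]
    exact Nat.eq_of_beq_eq_true (h i i.2)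
  rw [this]; exact ht

/-- the test of the products of one generator with a list of elements -/
def rowOK (Us : List (List ℕ)) (s : ℕ) : List ℕ → List (List ℕ) → Bool
  | u :: us, js :: jss => (jsOK Us js && pairOK Us s u js) && rowOK Us s us jss
  | [], [] => true
  | _, _ => false

theorem row_sound {pls : List (ℕ × List ℕ)} {s : ℕ}
    (hv : ∀ p ∈ pls, ∀ u ∈ p.2, Valid 315 (unpack u)) (hs : Valid 315 (unpack s)) :
    ∀ (U : List ℕ) (fac : List (List ℕ)), rowOK (pls.map Prod.snd) s U fac = true →
      (∀ u ∈ U, Valid 315 (unpack u)) →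
      ∀ u ∈ U, toPerm 315 (unpack s) * toPerm 315 (unpack u) ∈ Tset 315 (pls.map toLvl) := by
  intro U
  induction U with
  | nil => intro _ _ _ u hu; exact absurd hu (List.not_mem_nil)
  | cons u0 U ih =>
    intro fac h hU u hu
    cases fac with
    | nil => simp [rowOK] at h
    | cons js fac =>
      rw [rowOK, Bool.and_eq_true, Bool.and_eq_true] at h
      obtain ⟨⟨h1, h2⟩, h3⟩ := h
      rcases List.mem_cons.1 hu with rfl | hu'
      · exact pair_sound hv hs (hU _ List.mem_cons_self) h1 h2
      · exact ih fac h3 (fun w hw => hU w (List.mem_cons_of_mem _ hw)) u hu'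

/-- the test of the products of several generators with a list of elements -/
def blockOK (Us : List (List ℕ)) (U : List ℕ) : List ℕ → List (List (List ℕ)) → Bool
  | s :: ss, fac :: facs => rowOK Us s U fac && blockOK Us U ss facs
  | [], [] => true
  | _, _ => false

theorem block_sound {pls : List (ℕ × List ℕ)} {U : List ℕ}
    (hv : ∀ p ∈ pls, ∀ u ∈ p.2, Valid 315 (unpack u)) (hU : ∀ u ∈ U, Valid 315 (unpack u)) :
    ∀ (S : List ℕ) (facs : List (List (List ℕ))), blockOK (pls.map Prod.snd) U S facs = true →
      (∀ s ∈ S, Valid 315 (unpack s)) →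
      ∀ s ∈ S, ∀ u ∈ U,
        toPerm 315 (unpack s) * toPerm 315 (unpack u) ∈ Tset 315 (pls.map toLvl) := by
  intro S
  induction S with
  | nil => intro _ _ _ s hs; exact absurd hs (List.not_mem_nil)
  | cons s0 S ih =>
    intro facs h hS s hs
    cases facs with
    | nil => simp [blockOK] at h
    | cons fac facs =>
      rw [blockOK, Bool.and_eq_true] at h
      rcases List.mem_cons.1 hs with rfl | hs'
      · exact row_sound hv (hS _ List.mem_cons_self) U fac h.1 hU
      · exact ih facs h.2 (fun w hw => hS w (List.mem_cons_of_mem _ hw)) s hs'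

/-! ### one step of the chain, with propositional hypotheses -/

variable {n : ℕ}

theorem step' (sgs : List (List ℕ)) (hs : ∀ s ∈ sgs, Valid n s) (pre : List ℕ) (lv : Lvl)
    (rest : List Lvl)
    (hrest : (Hgrp n sgs (pre ++ [lv.b]) : Set (Equiv.Perm (Fin n))) = Tset n rest)
    (hb : lv.b < n) (hid : idL n ∈ lv.U)
    (hU : ∀ u ∈ lv.U, Valid n u ∧ toPerm n u ∈ Hgrp n sgs pre)
    (hnd : (lv.U.map (fun u => u.getD lv.b 0)).Nodup)
    (gs : Set (Equiv.Perm (Fin n))) (hgs : Hgrp n sgs pre ≤ Subgroup.closure gs)
    (hclosed : ∀ g ∈ gs, ∀ u ∈ lv.U, g * toPerm n u ∈ Tset n (lv :: rest)) :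
    (Hgrp n sgs pre : Set (Equiv.Perm (Fin n))) = Tset n (lv :: rest) ∧
      Nat.card (Hgrp n sgs pre) = lv.U.length * Nat.card (Hgrp n sgs (pre ++ [lv.b])) := by
  set H := Hgrp n sgs pre with hH
  set K := Hgrp n sgs (pre ++ [lv.b]) with hK
  have hKH : K ≤ H := Hgrp_mono sgs pre lv.b
  have F3 := hU
  have hTK : ∀ t, t ∈ Tset n rest ↔ t ∈ K := by
    intro t; rw [← hrest]; rfl
  have h1T : (1 : Equiv.Perm (Fin n)) ∈ Tset n (lv :: rest) :=
    ⟨idL n, hid, 1, (hTK 1).2 K.one_mem, by rw [toPerm_idL, one_mul]⟩
  have F5 : Tset n (lv :: rest) ⊆ H := by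
    rintro g ⟨u, hu, t, ht, rfl⟩
    exact H.mul_mem (F3 u hu).2 (hKH ((hTK t).1 ht))
  have F6 : ∀ s ∈ gs, ∀ g ∈ Tset n (lv :: rest), s * g ∈ Tset n (lv :: rest) := by
    rintro s hsm g ⟨u, hu, t, ht, rfl⟩
    obtain ⟨u', hu', t', ht', e⟩ := hclosed s hsm u hu
    refine ⟨u', hu', t' * t, (hTK _).2 (K.mul_mem ((hTK _).1 ht') ((hTK _).1 ht)), ?_⟩
    rw [← mul_assoc, e, mul_assoc]
  have hfin : (Tset n (lv :: rest)).Finite := Set.toFinite _
  let M : Subgroup (Equiv.Perm (Fin n)) :=
    { carrier := {g | ∀ x ∈ Tset n (lv :: rest), g * x ∈ Tset n (lv :: rest)}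
      one_mem' := by intro x hx; rw [one_mul]; exact hx
      mul_mem' := by
        intro a b ha hb x hx
        rw [mul_assoc]; exact ha _ (hb _ hx)
      inv_mem' := by
        intro a ha x hx
        have hmaps : Set.MapsTo (fun y => a * y) (Tset n (lv :: rest)) (Tset n (lv :: rest)) := ha
        have hinj : Set.InjOn (fun y => a * y) (Tset n (lv :: rest)) :=
          fun y _ z _ hyz => mul_left_cancel hyz
        have hbij := (Set.Finite.injOn_iff_bijOn_of_mapsTo hfin hmaps).1 hinj
        obtain ⟨y, hy, hyx⟩ := hbij.surjOn hx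
        have : a⁻¹ * x = y := by rw [← hyx]; simp
        rw [this]; exact hy }
  have hHM : H ≤ M := by
    refine hgs.trans ?_
    rw [Subgroup.closure_le]
    intro g hg
    exact F6 g hg
  have F7 : (H : Set (Equiv.Perm (Fin n))) ⊆ Tset n (lv :: rest) := by
    intro g hg
    have := hHM hg 1 h1T
    rwa [mul_one] at this
  have hset : (H : Set (Equiv.Perm (Fin n))) = Tset n (lv :: rest) := Set.Subset.antisymm F7 F5
  refine ⟨hset, ?_⟩
  have hKfix : ∀ t ∈ K, t ⟨lv.b, hb⟩ = ⟨lv.b, hb⟩ := fun t ht => Hgrp_fix sgs hs pre hb ht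
  let φ : Fin lv.U.length × K → H := fun p =>
    ⟨toPerm n (lv.U.get p.1) * p.2.1, H.mul_mem (F3 _ (List.get_mem _ _)).2 (hKH p.2.2)⟩
  have hφ : Function.Bijective φ := by
    constructor
    · rintro ⟨i, t⟩ ⟨j, t'⟩ h
      have h' : toPerm n (lv.U.get i) * t.1 = toPerm n (lv.U.get j) * t'.1 :=
        congrArg Subtype.val h
      have h2 := congrArg (fun σ : Equiv.Perm (Fin n) => ((σ ⟨lv.b, hb⟩ : Fin n) : ℕ)) h'
      simp only [Equiv.Perm.mul_apply, hKfix t.1 t.2, hKfix t'.1 t'.2] at h2
      rw [toPerm_apply (F3 _ (List.get_mem _ i)).1,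
        toPerm_apply (F3 _ (List.get_mem _ j)).1, List.get_eq_getElem, List.get_eq_getElem] at h2
      have hi : (i : ℕ) < (lv.U.map (fun u => u.getD lv.b 0)).length := by
        rw [List.length_map]; exact i.2
      have hj : (j : ℕ) < (lv.U.map (fun u => u.getD lv.b 0)).length := by
        rw [List.length_map]; exact j.2
      have h3 : (lv.U.map (fun u => u.getD lv.b 0))[(i : ℕ)] =
          (lv.U.map (fun u => u.getD lv.b 0))[(j : ℕ)] := by
        rw [List.getElem_map, List.getElem_map]; exact h2
      have hij : (i : ℕ) = j := (List.Nodup.getElem_inj_iff hnd).1 h3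
      have hij' : i = j := Fin.ext hij
      subst hij'
      have : t.1 = t'.1 := mul_left_cancel h'
      rw [Prod.mk.injEq]
      exact ⟨rfl, Subtype.ext this⟩
    · rintro ⟨g, hg⟩
      have hg' : g ∈ Tset n (lv :: rest) := by rw [← hset]; exact hg
      obtain ⟨u, hu, t, ht, rfl⟩ := hg'
      obtain ⟨k, hk, rfl⟩ := List.getElem_of_mem hu
      refine ⟨(⟨k, hk⟩, ⟨t, (hTK t).1 ht⟩), ?_⟩
      apply Subtype.ext
      show toPerm n (lv.U.get ⟨k, hk⟩) * t = _
      rw [List.get_eq_getElem]
  rw [← Nat.card_congr (Equiv.ofBijective φ hφ), Nat.card_prod, Nat.card_fin]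

end Cfsg.Agent.J2.Card
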