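import Cfsg.Agent.Lib.Lead.J2.SSPkData

/-! # The small kernel checks of the stabiliser chain of `PJ2` -/

set_option autoImplicit false
set_option maxRecDepth 100000

namespace Cfsg.Agent.J2.Card

open Cfsg.Agent.Lib.Helper6.SS

theorem chk_id : unpack idP = idL 315 := by decide +kernel

theorem chk_g24 : unpack g24P = g24 := by decide +kernel
theorem chk_g77 : unpack g77P = g77 := by decide +kernel
theorem chk_g165 : unpack g165P = g165 := by decide +kernel
theorem chk_g202 : unpack g202P = g202 := by decide +kernel

theorem chk_slp : slpOKp gens4 slpE slpProg = true := by decide +kernel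

theorem chk_sgs : ∀ s ∈ sgsP, s ∈ gens4 ++ slpE := by decide +kernel

theorem chk_S1 : S1P = sgsP.filter (fun s => fixesAll [0] (unpack s)) := by decide +kernel
theorem chk_S2 : S2P = sgsP.filter (fun s => fixesAll [0, 1] (unpack s)) := by decide +kernel
theorem chk_S3 : S3P = sgsP.filter (fun s => fixesAll [0, 1, 5] (unpack s)) := by decide +kernel
theorem chk_S4 : S4P = sgsP.filter (fun s => fixesAll [0, 1, 5, 2] (unpack s)) := by decide +kernel
theorem chk_S5 : sgsP.filter (fun s => fixesAll [0, 1, 5, 2, 10] (unpack s)) = [] := by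
  decide +kernel

theorem chk_nd0 : (U0P.map (fun u => lk u 0)).Nodup := by decide +kernel
theorem chk_nd1 : (U1P.map (fun u => lk u 1)).Nodup := by decide +kernel
theorem chk_nd2 : (U2P.map (fun u => lk u 5)).Nodup := by decide +kernel
theorem chk_nd3 : (U3P.map (fun u => lk u 2)).Nodup := by decide +kernel
theorem chk_nd4 : (U4P.map (fun u => lk u 10)).Nodup := by decide +kernel

theorem chk_len : U0P.length = 315 ∧ U1P.length = 80 ∧ U2P.length = 6 ∧ U3P.length = 2 ∧
    U4P.length = 2 := by decide +kernel

theorem chk_tree1 : slpOKp (S1P ++ [idP]) U1T prog1 = true := by decide +kernel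
theorem chk_tree2 : slpOKp (S2P ++ [idP]) U2T prog2 = true := by decide +kernel
theorem chk_tree3 : slpOKp (S3P ++ [idP]) U3T prog3 = true := by decide +kernel
theorem chk_tree4 : slpOKp (S4P ++ [idP]) U4T prog4 = true := by decide +kernel

theorem chk_blk2 : blockOK (pls2.map Prod.snd) U2P S2P fac2 = true := by decide +kernel
theorem chk_blk3 : blockOK (pls3.map Prod.snd) U3P S3P fac3 = true := by decide +kernel
theorem chk_blk4 : blockOK (pls4.map Prod.snd) U4P S4P fac4 = true := by decide +kernel

end Cfsg.Agent.J2.Card
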