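import Cfsg.Agent.Lib.Lead.J2.SpecData

/-! # Towards the spectrum of `PJ2`: kernel checks, second part -/

set_option autoImplicit false
set_option maxRecDepth 100000

namespace Cfsg.Agent.J2.Card

theorem chk_specR3 : chkR (U0P.getD 161 0) = true := by decide +kernel
theorem chk_specR4 : chkR (U0P.getD 171 0) = true := by decide +kernel
theorem chk_specR5 : chkR (U0P.getD 272 0) = true := by decide +kernel

end Cfsg.Agent.J2.Card
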