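import Cfsg.Agent.Lib.Lead.J2.SpecData

/-! # Towards the spectrum of `PJ2`: kernel checks, third part (conjugators, representatives, witnesses) -/

set_option autoImplicit false
set_option maxRecDepth 100000

namespace Cfsg.Agent.J2.Card

/-- the test of the table of conjugators -/
def conjOK : Bool :=
  allB 315 fun j => jsOK (pls1.map Prod.snd) (conjT.getD j []) &&
    memL (evalChain (getAll (pls1.map Prod.snd) (conjT.getD j [])) j) repPts

theorem chk_conj : conjOK = true := by decide +kernel

/-- the members of the first transversal that map `0` to a representative are the six listed ones -/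
def repsOK : Bool := allL U0P fun u => cond (memL (lk u 0) repPts) (memL u repsP) true

theorem chk_reps : repsOK = true := by decide +kernel

/-- the test of `σ ^ m = 1` for the permutation described by `f` -/
def powOneF (f : ℕ → ℕ) (m : ℕ) : Bool := allB 315 (fun x => Nat.beq (iter m f x) x)

/-- the test of `orderOf σ = n` for the permutation described by `f` -/
def ordOK (f : ℕ → ℕ) (n : ℕ) : Bool :=
  powOneF f n && allB n fun d =>
    cond (Nat.beq d 0) true (cond (Nat.beq (n % d) 0) (!(powOneF f d)) true)

/-- the test of a witness -/
def witOK (js : List ℕ) (n : ℕ) : Bool :=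
  jsOK (pls0.map Prod.snd) js && ordOK (evalChain (getAll (pls0.map Prod.snd) js)) n

theorem chk_wit1 : witOK wit1 1 = true := by decide +kernel
theorem chk_wit2 : witOK wit2 2 = true := by decide +kernel
theorem chk_wit3 : witOK wit3 3 = true := by decide +kernel
theorem chk_wit4 : witOK wit4 4 = true := by decide +kernel
theorem chk_wit5 : witOK wit5 5 = true := by decide +kernel
theorem chk_wit6 : witOK wit6 6 = true := by decide +kernel
theorem chk_wit7 : witOK wit7 7 = true := by decide +kernel
theorem chk_wit8 : witOK wit8 8 = true := by decide +kernel
theorem chk_wit10 : witOK wit10 10 = true := by decide +kernel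
theorem chk_wit12 : witOK wit12 12 = true := by decide +kernel
theorem chk_wit15 : witOK wit15 15 = true := by decide +kernel

end Cfsg.Agent.J2.Card
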