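import Cfsg.Agent.Lib.Lead.J2.SpecChkA
import Cfsg.Agent.Lib.Lead.J2.SpecChkB
import Cfsg.Agent.Lib.Lead.J2.SpecChkC

/-!
# The spectrum of `PJ2`

`spec_PJ2 : Set.range (orderOf : ↥PJ2 → ℕ) = {1, 2, 3, 4, 5, 6, 7, 8, 10, 12, 15}`.
-/

set_option autoImplicit false

namespace Cfsg.Agent.J2.Card

open Cfsg.Agent.Lib.Helper6.SS

theorem tset1_eq : Tset 315 (pls1.map toLvl) = (Hgrp 315 sgs [0] : Set (Equiv.Perm (Fin 315))) :=
  level1.1.symm

theorem tset0_eq : Tset 315 (pls0.map toLvl) = (PJ2 : Set (Equiv.Perm (Fin 315))) := by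
  rw [← Hgrp_nil_eq]
  exact level0.1.symm

theorem valid_pls0 : ∀ p ∈ pls0, ∀ u ∈ p.2, Valid 315 (unpack u) := level0.2.1

theorem valid_pls1 : ∀ p ∈ pls1, ∀ u ∈ p.2, Valid 315 (unpack u) := level1.2.1

theorem tset1_fix {t : Equiv.Perm (Fin 315)} (ht : t ∈ Tset 315 (pls1.map toLvl)) :
    t ⟨0, by norm_num⟩ = ⟨0, by norm_num⟩ := by
  rw [tset1_eq] at ht
  exact Hgrp_fix sgs sgs_valid [] (b := 0) (by norm_num) ht

theorem tset1_mem {t : Equiv.Perm (Fin 315)} (ht : t ∈ Tset 315 (pls1.map toLvl)) : t ∈ PJ2 := by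
  rw [tset1_eq] at ht
  rw [← Hgrp_nil_eq]
  exact Hgrp_mono sgs [] 0 ht

theorem chkR_of_mem {w : ℕ} (hw : w ∈ repsP) : chkR w = true := by
  rw [repsP] at hw
  simp only [List.mem_cons, List.not_mem_nil, or_false] at hw
  rcases hw with rfl | rfl | rfl | rfl | rfl | rfl
  · exact chk_specR0
  · exact chk_specR1
  · exact chk_specR2
  · exact chk_specR3
  · exact chk_specR4
  · exact chk_specR5

/-- the order of an element of `PJ2` is one of the eleven numbers -/
theorem order_mem_specSet {g : Equiv.Perm (Fin 315)} (hg : g ∈ PJ2) : orderOf g ∈ specSet := by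
  have hj : ((g ⟨0, by norm_num⟩ : Fin 315) : ℕ) < 315 := (g ⟨0, by norm_num⟩).2
  set j : ℕ := ((g ⟨0, by norm_num⟩ : Fin 315) : ℕ) with hjdef
  have hc := chk_conj
  rw [conjOK, allB_iff] at hc
  have hcj := hc j hj
  rw [Bool.and_eq_true, memL_iff] at hcj
  obtain ⟨hjs, hrep⟩ := hcj
  obtain ⟨c, hcT, hcrep⟩ := chain_mem pls1 (conjT.getD j []) valid_pls1 hjs
  have hc0 : c ⟨0, by norm_num⟩ = ⟨0, by norm_num⟩ := tset1_fix hcT
  have hcinv0 : c⁻¹ ⟨0, by norm_num⟩ = ⟨0, by norm_num⟩ := by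
    rw [Equiv.Perm.inv_eq_iff_eq, hc0]
  have hcP : c ∈ PJ2 := tset1_mem hcT
  have hg'P : c * g * c⁻¹ ∈ PJ2 := PJ2.mul_mem (PJ2.mul_mem hcP hg) (PJ2.inv_mem hcP)
  have hord : orderOf g = orderOf (c * g * c⁻¹) := by
    apply SemiconjBy.orderOf_eq c
    rw [SemiconjBy, inv_mul_cancel_right]
  rw [hord]
  -- the image of `0`
  have him : (((c * g * c⁻¹) ⟨0, by norm_num⟩ : Fin 315) : ℕ) ∈ repPts := by
    rw [Equiv.Perm.mul_apply, Equiv.Perm.mul_apply, hcinv0]
    have : g ⟨0, by norm_num⟩ = ⟨j, hj⟩ := Fin.ext rfl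
    rw [this, hcrep j hj]
    exact hrep
  -- the factorisation
  have hT0 : c * g * c⁻¹ ∈ Tset 315 (pls0.map toLvl) := by
    rw [tset0_eq]; exact hg'P
  have hT0' : c * g * c⁻¹ ∈ Tset 315 (toLvl (0, U0P) :: pls1.map toLvl) := hT0
  obtain ⟨u, hu, t', ht', he⟩ := hT0'
  change u ∈ U0P.map unpack at hu
  rw [List.mem_map] at hu
  obtain ⟨w, hw, rfl⟩ := hu
  have hwv : Valid 315 (unpack w) := valid_pls0 (0, U0P) List.mem_cons_self w hw
  rw [he] at him hg'P ⊢
  rw [Equiv.Perm.mul_apply, tset1_fix ht', toPerm_unpack_apply hwv] at him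
  have hr := chk_reps
  rw [repsOK, allL_iff] at hr
  have hrw := hr w hw
  rw [memL_iff.2 him] at hrw
  have hwreps : w ∈ repsP := memL_iff.1 hrw
  obtain ⟨ws, hws, hrepT⟩ := tset_rep pls1 valid_pls1 t' ht'
  have hrepG : Rep (toPerm 315 (unpack w) * t') (evalChain (w :: ws)) := by
    intro x hx
    rw [Equiv.Perm.mul_apply, toPerm_unpack_apply hwv, evalChain_cons, ← hrepT x hx]
  have hphi : phiOK (w :: ws) = true := by
    have := chkR_of_mem hwreps
    rw [chkR] at this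
    exact allProd_sound _ _ this ws hws
  exact order_mem_of_phiOK hg'P hrepG hphi

theorem pow_eq_one_iff_powOneF {t : Equiv.Perm (Fin 315)} {f : ℕ → ℕ} (h : Rep t f) (m : ℕ) :
    powOneF f m = true ↔ t ^ m = 1 := by
  rw [powOneF, allB_iff]
  constructor
  · intro hm
    refine Equiv.ext fun i => Fin.ext ?_
    rw [h.pow m i.1 i.2]
    exact Nat.eq_of_beq_eq_true (hm i.1 i.2)
  · intro hm x hx
    have := h.pow m x hx
    rw [hm] at this
    rw [← this]
    exact Nat.beq_refl x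

theorem orderOf_eq_of_ordOK {t : Equiv.Perm (Fin 315)} {f : ℕ → ℕ} (h : Rep t f) {n : ℕ}
    (hn : 0 < n) (hok : ordOK f n = true) : orderOf t = n := by
  rw [ordOK, Bool.and_eq_true, allB_iff] at hok
  obtain ⟨h1, h2⟩ := hok
  have hpow : t ^ n = 1 := (pow_eq_one_iff_powOneF h n).1 h1
  have hdvd : orderOf t ∣ n := orderOf_dvd_of_pow_eq_one hpow
  have hpos : 0 < orderOf t := Nat.pos_of_dvd_of_pos hdvd hn
  by_contra hne
  have hlt : orderOf t < n := lt_of_le_of_ne (Nat.le_of_dvd hn hdvd) hne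
  have hd := h2 (orderOf t) hlt
  have e1 : Nat.beq (orderOf t) 0 = false := by
    cases hb : Nat.beq (orderOf t) 0 with
    | false => rfl
    | true => exact absurd (Nat.eq_of_beq_eq_true hb) (Nat.pos_iff_ne_zero.1 hpos)
  have e2 : Nat.beq (n % orderOf t) 0 = true := by
    rw [Nat.mod_eq_zero_of_dvd hdvd]; rfl
  rw [e1, e2] at hd
  simp only [cond_false, cond_true, Bool.not_eq_true'] at hd
  have := (pow_eq_one_iff_powOneF h (orderOf t)).2 (pow_orderOf_eq_one t)
  rw [this] at hd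
  exact absurd hd (by simp)

theorem exists_of_witOK {js : List ℕ} {n : ℕ} (hn : 0 < n) (h : witOK js n = true) :
    ∃ g : ↥PJ2, orderOf g = n := by
  rw [witOK, Bool.and_eq_true] at h
  obtain ⟨hjs, hok⟩ := h
  obtain ⟨t, htT, hrep⟩ := chain_mem pls0 js valid_pls0 hjs
  have htP : t ∈ PJ2 := by
    have : t ∈ (PJ2 : Set (Equiv.Perm (Fin 315))) := by rw [← tset0_eq]; exact htT
    exact this
  refine ⟨⟨t, htP⟩, ?_⟩
  rw [← Subgroup.orderOf_coe]
  exact orderOf_eq_of_ordOK hrep hn hok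

/-- **the spectrum of `PJ2`** -/
theorem spec_PJ2 : Set.range (orderOf : ↥PJ2 → ℕ) = {1, 2, 3, 4, 5, 6, 7, 8, 10, 12, 15} := by
  apply Set.Subset.antisymm
  · rintro n ⟨g, rfl⟩
    rw [← Subgroup.orderOf_coe]
    exact order_mem_specSet g.2
  · intro n hn
    simp only [Set.mem_insert_iff, Set.mem_singleton_iff] at hn
    rcases hn with rfl | rfl | rfl | rfl | rfl | rfl | rfl | rfl | rfl | rfl | rfl
    · exact exists_of_witOK (by norm_num) chk_wit1
    · exact exists_of_witOK (by norm_num) chk_wit2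
    · exact exists_of_witOK (by norm_num) chk_wit3
    · exact exists_of_witOK (by norm_num) chk_wit4
    · exact exists_of_witOK (by norm_num) chk_wit5
    · exact exists_of_witOK (by norm_num) chk_wit6
    · exact exists_of_witOK (by norm_num) chk_wit7
    · exact exists_of_witOK (by norm_num) chk_wit8
    · exact exists_of_witOK (by norm_num) chk_wit10
    · exact exists_of_witOK (by norm_num) chk_wit12
    · exact exists_of_witOK (by norm_num) chk_wit15

end Cfsg.Agent.J2.Card
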