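import Cfsg.Agent.Lib.Lead.J2.SSPkCard
import Cfsg.Agent.Lib.Lead.J2.OutA
import Cfsg.Agent.Lib.Helper7.J2Perm

/-!
# Towards the spectrum of `PJ2`: the generic part

Every element of `PJ2` is conjugate, under the stabiliser of the point `0`, to a product `u₀ u₁ u₂ u₃ u₄` of
transversal elements of the stabiliser chain in which `u₀` is one of six elements; the orders of these `11520`
products are found from the cycles of the three base points `0, 74, 1`.
-/

set_option autoImplicit false

namespace Cfsg.Agent.J2.Card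

open Cfsg.Agent.Lib.Helper6.SS

/-- the permutation `t` is described by the function `f` -/
def Rep (t : Equiv.Perm (Fin 315)) (f : ℕ → ℕ) : Prop :=
  ∀ x (hx : x < 315), ((t ⟨x, hx⟩ : Fin 315) : ℕ) = f x

theorem Rep.pow {t : Equiv.Perm (Fin 315)} {f : ℕ → ℕ} (h : Rep t f) (m : ℕ) :
    Rep (t ^ m) (iter m f) := by
  induction m with
  | zero => intro x hx; rfl
  | succ m ih =>
    intro x hx
    rw [pow_succ', Equiv.Perm.mul_apply, iter_succ, ← ih x hx]
    exact h _ ((t ^ m) ⟨x, hx⟩).2

/-- a universal quantifier over a list, written with the recursor -/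
def allL (l : List ℕ) (f : ℕ → Bool) : Bool :=
  List.rec (motive := fun _ => Bool) true (fun a _ ih => cond (f a) ih false) l

theorem allL_iff {l : List ℕ} {f : ℕ → Bool} : allL l f = true ↔ ∀ a ∈ l, f a = true := by
  induction l with
  | nil => exact ⟨fun _ a ha => absurd ha List.not_mem_nil, fun _ => rfl⟩
  | cons b l ih =>
    have e : allL (b :: l) f = cond (f b) (allL l f) false := rfl
    rw [e]
    constructor
    · intro h a ha
      cases hb : f b with
      | false => rw [hb] at h; exact absurd h (by simp)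
      | true =>
        rw [hb] at h
        rcases List.mem_cons.1 ha with rfl | ha'
        · exact hb
        · exact ih.1 h a ha'
    · intro h
      rw [h b List.mem_cons_self]
      exact ih.2 fun a ha => h a (List.mem_cons_of_mem _ ha)

/-- membership in a list, written with the recursor -/
def memL (a : ℕ) (l : List ℕ) : Bool :=
  List.rec (motive := fun _ => Bool) false (fun b _ ih => cond (Nat.beq a b) true ih) l

theorem memL_iff {a : ℕ} {l : List ℕ} : memL a l = true ↔ a ∈ l := by
  induction l with
  | nil => exact ⟨fun h => absurd h (by simp [memL]), fun h => absurd h List.not_mem_nil⟩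
  | cons b l ih =>
    have e : memL a (b :: l) = cond (Nat.beq a b) true (memL a l) := rfl
    rw [e, List.mem_cons]
    cases hb : Nat.beq a b with
    | true => exact ⟨fun _ => Or.inl (Nat.eq_of_beq_eq_true hb), fun _ => rfl⟩
    | false =>
      have hne : a ≠ b := fun h => by rw [h, Nat.beq_refl] at hb; exact absurd hb (by simp)
      exact ⟨fun h => Or.inr (ih.1 h), fun h => ih.2 (h.resolve_left hne)⟩

/-- a universal quantifier over the products of the members of the lists `Us` -/
def allProd : List (List ℕ) → (List ℕ → Bool) → Bool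
  | [], f => f []
  | U :: Us, f => allL U fun u => allProd Us fun ws => f (u :: ws)

theorem allProd_sound : ∀ (Us : List (List ℕ)) (f : List ℕ → Bool), allProd Us f = true →
    ∀ ws, List.Forall₂ (fun w U => w ∈ U) ws Us → f ws = true := by
  intro Us
  induction Us with
  | nil =>
    intro f h ws hws
    cases hws
    exact h
  | cons U Us ih =>
    intro f h ws hws
    cases hws with
    | cons hw hrest =>
      rw [allProd, allL_iff] at h
      exact ih _ (h _ hw) _ hrest

/-- the members of `Tset` are products of transversal elements -/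
theorem tset_rep : ∀ (pls : List (ℕ × List ℕ)),
    (∀ p ∈ pls, ∀ u ∈ p.2, Valid 315 (unpack u)) →
    ∀ t ∈ Tset 315 (pls.map toLvl), ∃ ws, List.Forall₂ (fun w U => w ∈ U) ws (pls.map Prod.snd) ∧
      Rep t (evalChain ws) := by
  intro pls
  induction pls with
  | nil =>
    intro _ t ht
    have : t = 1 := ht
    subst this
    exact ⟨[], List.Forall₂.nil, fun x hx => rfl⟩
  | cons p pls ih =>
    intro hv t ht
    rw [List.map_cons] at ht
    obtain ⟨u, hu, t', ht', rfl⟩ := ht
    change u ∈ p.2.map unpack at hu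
    rw [List.mem_map] at hu
    obtain ⟨w, hw, rfl⟩ := hu
    obtain ⟨ws, hws, hrep⟩ := ih (fun q hq => hv q (List.mem_cons_of_mem _ hq)) t' ht'
    refine ⟨w :: ws, ?_, ?_⟩
    · rw [List.map_cons]
      exact List.Forall₂.cons hw hws
    · intro x hx
      rw [Equiv.Perm.mul_apply, toPerm_unpack_apply (hv p List.mem_cons_self w hw), evalChain_cons,
        ← hrep x hx]

/-- the three base points are fixed by the `m`-th iterate of `f` -/
def fixPow (f : ℕ → ℕ) (m : ℕ) : Bool :=
  Nat.beq (iter m f 0) 0 && (Nat.beq (iter m f 74) 74 && Nat.beq (iter m f 1) 1)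

theorem pow_eq_one_of_fixPow {t : Equiv.Perm (Fin 315)} {f : ℕ → ℕ} (ht : t ∈ PJ2) (h : Rep t f)
    {m : ℕ} (hm : fixPow f m = true) : t ^ m = 1 := by
  rw [fixPow, Bool.and_eq_true, Bool.and_eq_true] at hm
  obtain ⟨h0, h74, h1⟩ := hm
  have hr := h.pow m
  apply Cfsg.Agent.Lib.Helper7.J2Perm.eq_one_of_fix_base (PJ2.pow_mem ht m)
  · apply Fin.ext
    have := hr 0 (by norm_num)
    rw [Nat.eq_of_beq_eq_true h0] at this
    exact this
  · apply Fin.ext
    have := hr 74 (by norm_num)
    rw [Nat.eq_of_beq_eq_true h74] at this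
    exact this
  · apply Fin.ext
    have := hr 1 (by norm_num)
    rw [Nat.eq_of_beq_eq_true h1] at this
    exact this

/-- the test that the order divides one of `8, 12, 10, 15, 7` -/
def phiOK (ws : List ℕ) : Bool :=
  fixPow (evalChain ws) 8 || (fixPow (evalChain ws) 12 || (fixPow (evalChain ws) 10 ||
    (fixPow (evalChain ws) 15 || fixPow (evalChain ws) 7)))

/-- the eleven orders -/
def specSet : Set ℕ := {1, 2, 3, 4, 5, 6, 7, 8, 10, 12, 15}

theorem mem_specSet_of_dvd {d m : ℕ} (hm : m = 8 ∨ m = 12 ∨ m = 10 ∨ m = 15 ∨ m = 7) (hd : d ∣ m) :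
    d ∈ specSet := by
  have hpos : 0 < m := by rcases hm with rfl | rfl | rfl | rfl | rfl <;> norm_num
  have hle : d ≤ m := Nat.le_of_dvd hpos hd
  rw [specSet]
  rcases hm with rfl | rfl | rfl | rfl | rfl <;> interval_cases d <;> simp_all

theorem order_mem_of_phiOK {t : Equiv.Perm (Fin 315)} {ws : List ℕ} (ht : t ∈ PJ2)
    (h : Rep t (evalChain ws)) (hphi : phiOK ws = true) : orderOf t ∈ specSet := by
  rw [phiOK] at hphi
  simp only [Bool.or_eq_true] at hphi
  rcases hphi with h1 | h1 | h1 | h1 | h1
  · exact mem_specSet_of_dvd (Or.inl rfl) (orderOf_dvd_of_pow_eq_one (pow_eq_one_of_fixPow ht h h1))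
  · exact mem_specSet_of_dvd (Or.inr (Or.inl rfl))
      (orderOf_dvd_of_pow_eq_one (pow_eq_one_of_fixPow ht h h1))
  · exact mem_specSet_of_dvd (Or.inr (Or.inr (Or.inl rfl)))
      (orderOf_dvd_of_pow_eq_one (pow_eq_one_of_fixPow ht h h1))
  · exact mem_specSet_of_dvd (Or.inr (Or.inr (Or.inr (Or.inl rfl))))
      (orderOf_dvd_of_pow_eq_one (pow_eq_one_of_fixPow ht h h1))
  · exact mem_specSet_of_dvd (Or.inr (Or.inr (Or.inr (Or.inr rfl))))
      (orderOf_dvd_of_pow_eq_one (pow_eq_one_of_fixPow ht h h1))

/-- the test of one row: all the products with first factor `r` -/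
def chkR (r : ℕ) : Bool := allProd (pls1.map Prod.snd) fun ws => phiOK (r :: ws)

end Cfsg.Agent.J2.Card
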