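import Cfsg.Agent.Lib.Lead.J2.SpecA

/-! # Towards the spectrum of `PJ2`: the data (conjugators into the six suborbit representatives, witnesses of the orders) -/

set_option autoImplicit false

namespace Cfsg.Agent.J2.Card

/-- representatives of the six orbits of the stabiliser of the point `0` -/
def repPts : List ℕ := [0, 1, 9, 74, 138, 154]

/-- for each point `j`, the indices of transversal elements of the stabiliser of `0` whose product maps `j` to a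
representative -/
def conjT : List (List ℕ) := [[0, 0, 0, 0],
  [0, 0, 0, 0],
  [30, 1, 1, 0],
  [30, 1, 0, 0],
  [56, 0, 0, 0],
  [30, 3, 0, 0],
  [30, 0, 0, 0],
  [30, 0, 1, 0],
  [30, 2, 0, 0],
  [0, 0, 0, 0],
  [2, 2, 1, 0],
  [2, 4, 0, 0],
  [1, 4, 0, 0],
  [1, 2, 1, 0],
  [2, 0, 0, 1],
  [3, 1, 1, 1],
  [4, 1, 1, 1],
  [1, 0, 0, 1],
  [2, 1, 1, 0],
  [1, 3, 0, 0],
  [2, 3, 0, 0],
  [1, 1, 1, 0],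
  [3, 0, 1, 1],
  [1, 5, 0, 1],
  [2, 5, 0, 1],
  [4, 0, 1, 1],
  [1, 1, 1, 1],
  [2, 3, 0, 1],
  [1, 3, 0, 1],
  [2, 1, 1, 1],
  [4, 0, 1, 0],
  [2, 5, 0, 0],
  [1, 5, 0, 0],
  [3, 0, 1, 0],
  [1, 2, 1, 1],
  [1, 4, 0, 1],
  [2, 4, 0, 1],
  [2, 2, 1, 1],
  [1, 0, 0, 0],
  [4, 1, 1, 0],
  [3, 1, 1, 0],
  [2, 0, 0, 0],
  [3, 1, 0, 1],
  [1, 0, 1, 0],
  [2, 0, 1, 0],
  [4, 1, 0, 1],
  [2, 2, 0, 0],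
  [1, 4, 1, 1],
  [2, 4, 1, 1],
  [1, 2, 0, 0],
  [2, 5, 1, 0],
  [3, 0, 0, 1],
  [4, 0, 0, 1],
  [1, 5, 1, 0],
  [1, 1, 0, 0],
  [1, 3, 1, 1],
  [2, 3, 1, 1],
  [2, 1, 0, 0],
  [1, 5, 1, 1],
  [4, 0, 0, 0],
  [3, 0, 0, 0],
  [2, 5, 1, 1],
  [2, 1, 0, 1],
  [2, 3, 1, 0],
  [1, 3, 1, 0],
  [1, 1, 0, 1],
  [4, 1, 0, 0],
  [2, 0, 1, 1],
  [1, 0, 1, 1],
  [3, 1, 0, 0],
  [1, 2, 0, 1],
  [2, 4, 1, 0],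
  [1, 4, 1, 0],
  [2, 2, 0, 1],
  [0, 0, 0, 0],
  [8, 4, 0, 0],
  [2, 0, 0, 1],
  [4, 3, 0, 0],
  [0, 2, 1, 1],
  [8, 0, 0, 1],
  [0, 4, 1, 1],
  [8, 2, 0, 1],
  [2, 2, 0, 0],
  [4, 0, 1, 0],
  [0, 5, 0, 1],
  [8, 1, 1, 1],
  [8, 3, 1, 0],
  [0, 1, 0, 0],
  [8, 5, 0, 0],
  [0, 3, 0, 0],
  [0, 3, 0, 1],
  [8, 5, 0, 1],
  [0, 1, 0, 1],
  [8, 3, 1, 1],
  [8, 1, 1, 0],
  [0, 5, 0, 0],
  [4, 0, 1, 1],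
  [2, 2, 0, 1],
  [8, 2, 0, 0],
  [0, 4, 1, 0],
  [8, 0, 0, 0],
  [0, 2, 1, 0],
  [4, 3, 0, 1],
  [2, 0, 0, 0],
  [8, 4, 0, 1],
  [0, 0, 0, 1],
  [0, 3, 1, 1],
  [8, 5, 1, 1],
  [2, 2, 1, 0],
  [4, 0, 0, 1],
  [0, 4, 0, 1],
  [8, 2, 1, 0],
  [8, 4, 1, 0],
  [0, 0, 1, 0],
  [8, 3, 0, 0],
  [0, 1, 1, 1],
  [8, 1, 0, 0],
  [0, 5, 1, 1],
  [8, 0, 1, 0],
  [0, 2, 0, 1],
  [2, 0, 1, 1],
  [4, 3, 1, 0],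
  [4, 3, 1, 1],
  [2, 0, 1, 0],
  [0, 2, 0, 0],
  [8, 0, 1, 1],
  [0, 5, 1, 0],
  [8, 1, 0, 1],
  [0, 1, 1, 0],
  [8, 3, 0, 1],
  [0, 0, 1, 1],
  [8, 4, 1, 1],
  [8, 2, 1, 1],
  [0, 4, 0, 0],
  [4, 0, 0, 0],
  [2, 2, 1, 1],
  [8, 5, 1, 0],
  [0, 3, 1, 0],
  [0, 0, 0, 0],
  [2, 0, 0, 1],
  [0, 2, 1, 1],
  [2, 2, 1, 0],
  [0, 2, 0, 1],
  [2, 2, 0, 0],
  [2, 0, 1, 1],
  [0, 0, 1, 0],
  [0, 0, 1, 1],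
  [2, 0, 1, 0],
  [2, 2, 0, 1],
  [0, 2, 0, 0],
  [2, 2, 1, 1],
  [0, 2, 1, 0],
  [2, 0, 0, 0],
  [0, 0, 0, 1],
  [0, 0, 0, 0],
  [4, 3, 1, 1],
  [4, 3, 0, 0],
  [0, 0, 1, 0],
  [4, 0, 1, 0],
  [0, 1, 0, 0],
  [4, 0, 0, 1],
  [0, 1, 1, 0],
  [0, 1, 1, 1],
  [4, 0, 0, 0],
  [0, 1, 0, 1],
  [4, 0, 1, 1],
  [0, 0, 1, 1],
  [4, 3, 0, 1],
  [4, 3, 1, 0],
  [0, 0, 0, 1],
  [9, 0, 0, 0],
  [9, 1, 1, 0],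
  [9, 1, 1, 1],
  [9, 0, 0, 1],
  [9, 0, 1, 1],
  [9, 1, 0, 0],
  [9, 1, 0, 1],
  [9, 0, 1, 0],
  [10, 0, 0, 1],
  [1, 4, 0, 0],
  [1, 1, 1, 0],
  [10, 5, 0, 1],
  [10, 5, 0, 0],
  [1, 1, 1, 1],
  [1, 4, 0, 1],
  [10, 0, 0, 0],
  [10, 0, 1, 0],
  [1, 4, 1, 1],
  [1, 1, 0, 0],
  [10, 5, 1, 0],
  [10, 5, 1, 1],
  [1, 1, 0, 1],
  [1, 4, 1, 0],
  [10, 0, 1, 1],
  [1, 3, 1, 1],
  [10, 1, 0, 0],
  [10, 4, 1, 1],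
  [1, 2, 0, 0],
  [1, 2, 0, 1],
  [10, 4, 1, 0],
  [10, 1, 0, 1],
  [1, 3, 1, 0],
  [10, 1, 1, 1],
  [1, 3, 0, 1],
  [1, 2, 1, 1],
  [10, 4, 0, 1],
  [10, 4, 0, 0],
  [1, 2, 1, 0],
  [1, 3, 0, 0],
  [10, 1, 1, 0],
  [10, 2, 1, 0],
  [1, 0, 0, 1],
  [10, 3, 0, 0],
  [1, 5, 0, 1],
  [1, 5, 0, 0],
  [10, 3, 0, 1],
  [1, 0, 0, 0],
  [10, 2, 1, 1],
  [1, 0, 1, 0],
  [10, 2, 0, 0],
  [1, 5, 1, 0],
  [10, 3, 1, 1],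
  [10, 3, 1, 0],
  [1, 5, 1, 1],
  [10, 2, 0, 1],
  [1, 0, 1, 1],
  [9, 0, 0, 0],
  [6, 0, 0, 1],
  [9, 1, 0, 0],
  [6, 1, 0, 1],
  [6, 1, 0, 0],
  [9, 1, 0, 1],
  [6, 0, 0, 0],
  [9, 0, 0, 1],
  [9, 0, 1, 1],
  [6, 0, 1, 0],
  [9, 1, 1, 1],
  [6, 1, 1, 0],
  [6, 1, 1, 1],
  [9, 1, 1, 0],
  [6, 0, 1, 1],
  [9, 0, 1, 0],
  [1, 0, 0, 1],
  [1, 1, 1, 1],
  [1, 1, 1, 0],
  [1, 0, 0, 0],
  [1, 0, 1, 0],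
  [1, 1, 0, 1],
  [1, 1, 0, 0],
  [1, 0, 1, 1],
  [9, 0, 0, 0],
  [9, 0, 1, 0],
  [1, 0, 1, 1],
  [1, 1, 1, 0],
  [9, 1, 1, 1],
  [9, 1, 1, 0],
  [1, 1, 1, 1],
  [1, 0, 1, 0],
  [9, 0, 1, 1],
  [9, 0, 0, 0],
  [1, 0, 0, 1],
  [9, 1, 0, 1],
  [1, 1, 0, 0],
  [1, 1, 0, 1],
  [9, 1, 0, 0],
  [1, 0, 0, 0],
  [9, 0, 0, 1],
  [12, 2, 0, 1],
  [7, 2, 0, 1],
  [12, 2, 1, 1],
  [7, 2, 1, 1],
  [7, 0, 1, 0],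
  [12, 0, 1, 0],
  [12, 0, 0, 1],
  [7, 0, 0, 1],
  [7, 0, 0, 0],
  [12, 0, 0, 0],
  [12, 0, 1, 1],
  [7, 0, 1, 1],
  [7, 2, 1, 0],
  [12, 2, 1, 0],
  [7, 2, 0, 0],
  [12, 2, 0, 0],
  [6, 1, 1, 1],
  [1, 0, 0, 1],
  [6, 0, 1, 1],
  [1, 1, 1, 0],
  [1, 1, 1, 1],
  [6, 0, 1, 0],
  [1, 0, 0, 0],
  [6, 1, 1, 0],
  [6, 1, 0, 1],
  [1, 0, 1, 0],
  [6, 0, 0, 1],
  [1, 1, 0, 0],
  [1, 1, 0, 1],
  [6, 0, 0, 0],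
  [1, 0, 1, 1],
  [6, 1, 0, 0],
  [23, 0, 1, 0],
  [33, 1, 0, 0],
  [23, 1, 1, 0],
  [33, 0, 1, 0],
  [23, 1, 0, 0],
  [33, 0, 0, 0],
  [23, 0, 0, 1],
  [33, 1, 1, 0],
  [33, 1, 1, 1],
  [23, 0, 0, 0],
  [33, 0, 0, 1],
  [23, 1, 0, 1],
  [33, 0, 1, 1],
  [23, 1, 1, 1],
  [33, 1, 0, 1],
  [23, 0, 1, 1]]

/-- the six members of the first transversal that map `0` to a representative -/
def repsP : List ℕ := [U0P.getD 0 0, U0P.getD 121 0, U0P.getD 146 0, U0P.getD 161 0, U0P.getD 171 0, U0P.getD 272 0]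

/-- indices of transversal elements whose product has order `1` -/
def wit1 : List ℕ := [0, 0, 0, 0, 0]

/-- indices of transversal elements whose product has order `2` -/
def wit2 : List ℕ := [0, 0, 0, 0, 1]

/-- indices of transversal elements whose product has order `3` -/
def wit3 : List ℕ := [0, 0, 1, 0, 1]

/-- indices of transversal elements whose product has order `4` -/
def wit4 : List ℕ := [0, 0, 0, 1, 0]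

/-- indices of transversal elements whose product has order `5` -/
def wit5 : List ℕ := [0, 1, 0, 0, 1]

/-- indices of transversal elements whose product has order `6` -/
def wit6 : List ℕ := [0, 0, 1, 0, 0]

/-- indices of transversal elements whose product has order `7` -/
def wit7 : List ℕ := [121, 0, 4, 0, 1]

/-- indices of transversal elements whose product has order `8` -/
def wit8 : List ℕ := [0, 1, 1, 1, 1]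

/-- indices of transversal elements whose product has order `10` -/
def wit10 : List ℕ := [0, 1, 0, 0, 0]

/-- indices of transversal elements whose product has order `12` -/
def wit12 : List ℕ := [0, 1, 4, 0, 0]

/-- indices of transversal elements whose product has order `15` -/
def wit15 : List ℕ := [121, 0, 0, 0, 1]

end Cfsg.Agent.J2.Card
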