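import Cfsg.Agent.Lib.Lead.J2.Stem

/-! # The Schur multiplier of `J₂` from a bound on the kernels of stem extensions -/

set_option autoImplicit false

namespace Cfsg.Agent.J2.Card

open Cfsg.Spor

/-- a finite group of order at most `2` is an image of the cyclic group of order `2` -/
theorem exists_surj_of_card_le_two {K : Type*} [Group K] [Finite K] (h : Nat.card K ≤ 2) :
    ∃ π : Multiplicative (ZMod 2) →* K, Function.Surjective π := by
  have hpos : 0 < Nat.card K := Nat.card_pos
  have hc : Nat.card K = 1 ∨ Nat.card K = 2 := by omega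
  rcases hc with h1 | h2
  · have hs : Subsingleton K := (Nat.card_eq_one_iff_unique.1 h1).1
    exact ⟨1, fun k => ⟨1, Subsingleton.elim _ _⟩⟩
  · have : Fact (Nat.Prime 2) := ⟨Nat.prime_two⟩
    have hz : Nat.card (Multiplicative (ZMod 2)) = 2 := by
      rw [Nat.card_eq_fintype_card]; rfl
    let e : Multiplicative (ZMod 2) ≃* K := mulEquivOfPrimeCardEq (p := 2) hz h2
    exact ⟨e.toMonoidHom, e.surjective⟩

/-- S2040 from the bound `2` on the kernels of the finite stem extensions of `J₂` -/
theorem S2040_of (h : ∀ (Γ : Type) [Group Γ] [Finite Γ] (σ : Γ →* Cfsg.Spor.J2),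
    Cfsg.IsStemExtension σ → Nat.card σ.ker ≤ 2) : Cfsg.HasCyclicSchurMultiplier Cfsg.Spor.J2 2 := by
  refine ⟨stem_twoJ2, ?_⟩
  intro Γ _ _ σ hσ
  exact exists_surj_of_card_le_two (h Γ σ hσ)

end Cfsg.Agent.J2.Card
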