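import Mathlib
import Cfsg.Agent.Lib.Lead.J2.Bridge

set_option autoImplicit false

namespace Cfsg.Agent.J2

open Quaternion Cfsg.Spor Ico V3
open Cfsg.Agent.Lib.Helper6.SS (toPerm toPerm_apply Valid)

theorem toPerm_val {l : List ℕ} (h : Valid 315 l) (i : Fin 315) (m : ℕ) (hm : l.getD i.1 0 = m) (hm' : m < 315) :
    toPerm 315 l i = ⟨m, hm'⟩ := Fin.ext (by rw [toPerm_apply h]; exact hm)

set_option maxRecDepth 100000 in
theorem word165 : toPerm 315 g24 (toPerm 315 g165 24) = 165 := by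
  rw [toPerm_val valid_g165 24 (g165.getD 24 0) rfl (by decide +kernel)]
  exact toPerm_val valid_g24 _ 165 (by decide +kernel) (by norm_num)

set_option maxRecDepth 100000 in
theorem word202 : toPerm 315 g24 (toPerm 315 g202 24) = 202 := by
  rw [toPerm_val valid_g202 24 (g202.getD 24 0) rfl (by decide +kernel)]
  exact toPerm_val valid_g24 _ 202 (by decide +kernel) (by norm_num)

set_option maxRecDepth 100000 in
theorem word77 : toPerm 315 g165 (toPerm 315 g77 (toPerm 315 g24 (toPerm 315 g165 24))) = 77 := by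
  rw [word165]
  rw [toPerm_val valid_g77 165 (g77.getD 165 0) rfl (by decide +kernel)]
  exact toPerm_val valid_g165 _ 77 (by decide +kernel) (by norm_num)

/-- **the group is transitive on the 315 lines** -/
theorem orbit24 : ∀ i : Fin 315, ∃ g : twoJ2, phi g 24 = i := by
  have s24 : ∀ j : Fin 315, (∃ g : twoJ2, phi g 24 = j) → ∃ g : twoJ2, phi g 24 = toPerm 315 g24 j := by
    rintro j ⟨g, rfl⟩
    exact ⟨lineReflG 24 * g, by rw [map_mul, Equiv.Perm.mul_apply, show phi (lineReflG 24) = toPerm 315 g24 from phi24]⟩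
  have s77 : ∀ j : Fin 315, (∃ g : twoJ2, phi g 24 = j) → ∃ g : twoJ2, phi g 24 = toPerm 315 g77 j := by
    rintro j ⟨g, rfl⟩
    exact ⟨lineReflG 77 * g, by rw [map_mul, Equiv.Perm.mul_apply, show phi (lineReflG 77) = toPerm 315 g77 from phi77]⟩
  have s165 : ∀ j : Fin 315, (∃ g : twoJ2, phi g 24 = j) → ∃ g : twoJ2, phi g 24 = toPerm 315 g165 j := by
    rintro j ⟨g, rfl⟩
    exact ⟨lineReflG 165 * g, by rw [map_mul, Equiv.Perm.mul_apply, show phi (lineReflG 165) = toPerm 315 g165 from phi165]⟩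
  have s202 : ∀ j : Fin 315, (∃ g : twoJ2, phi g 24 = j) → ∃ g : twoJ2, phi g 24 = toPerm 315 g202 j := by
    rintro j ⟨g, rfl⟩
    exact ⟨lineReflG 202 * g, by rw [map_mul, Equiv.Perm.mul_apply, show phi (lineReflG 202) = toPerm 315 g202 from phi202]⟩
  have h24 : ∃ g : twoJ2, phi g 24 = 24 := ⟨1, by simp⟩
  have h165 : ∃ g : twoJ2, phi g 24 = 165 := by
    have := s24 _ (s165 _ h24)
    rwa [word165] at this
  have h202 : ∃ g : twoJ2, phi g 24 = 202 := by
    have := s24 _ (s202 _ h24)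
    rwa [word202] at this
  have h77 : ∃ g : twoJ2, phi g 24 = 77 := by
    have := s165 _ (s77 _ (s24 _ (s165 _ h24)))
    rwa [word77] at this
  exact lines_induction _ h24 h77 h165 h202 s24 s77 s165 s202

theorem exists_phi_eq (i j : Fin 315) : ∃ g : twoJ2, phi g i = j := by
  obtain ⟨a, ha⟩ := orbit24 i
  obtain ⟨b, hb⟩ := orbit24 j
  refine ⟨b * a⁻¹, ?_⟩
  rw [map_mul, map_inv, Equiv.Perm.mul_apply, ← ha, show (phi a)⁻¹ (phi a 24) = 24 from (phi a).symm_apply_apply 24, hb]

/-- **the reflection group is transitive on its reflections by conjugation** -/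
theorem refl_conj (f f' : Equiv.Perm icoLeech) (hf : IsIcoReflection f) (hf' : IsIcoReflection f') :
    ∃ g ∈ twoJ2, g * f * g⁻¹ = f' := by
  obtain ⟨i, rfl⟩ := (isIcoReflection_iff_lineRefl f).1 hf
  obtain ⟨j, rfl⟩ := (isIcoReflection_iff_lineRefl f').1 hf'
  obtain ⟨g, hg⟩ := exists_phi_eq i j
  exact ⟨g.1, g.2, by rw [conj_lineRefl, hg]⟩

end Cfsg.Agent.J2
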